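import Cfsg.Agent.Lib.Perm.TwoA4.Plane

/-!
Sixteen points: the affine group of the plane over the field with four elements.
-/

set_option autoImplicit false
set_option linter.style.haveILetI false
set_option linter.unusedSectionVars false

open Cfsg

namespace Cfsg.Agent.TwoA4

open MulAction Equiv Cfsg.Agent.TwoA5 Polynomial

/-- The polynomial `X² + X + 1`. -/
noncomputable def fourPoly : (ZMod 2)[X] := X ^ 2 + X + 1

theorem fourPoly_monic : fourPoly.Monic := by
  rw [fourPoly, add_assoc]
  exact monic_X_pow_add (lt_of_le_of_lt (degree_add_le _ _) (by rw [degree_X, degree_one]; norm_num))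

theorem fourPoly_natDegree : fourPoly.natDegree = 2 := by
  rw [fourPoly]
  compute_degree!

theorem fourPoly_irreducible : Irreducible fourPoly := by
  rw [fourPoly_monic.irreducible_iff_roots_eq_zero_of_degree_le_three (by rw [fourPoly_natDegree])
    (by rw [fourPoly_natDegree]; norm_num)]
  refine Multiset.eq_zero_of_forall_notMem fun x hx => ?_
  rw [mem_roots fourPoly_monic.ne_zero, IsRoot, fourPoly] at hx
  simp only [eval_add, eval_pow, eval_X, eval_one] at hx
  revert hx
  revert x
  decide

/-- A vector space with a fixed-point-free endomorphism satisfying `δ² + δ + 1 = 0` is a plane over four elements. -/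
theorem plane_equiv {M : Type*} [AddCommGroup M] [Finite M] (h2 : ∀ m : M, (2 : ℕ) • m = 0)
    (hM : Nat.card M = 16) (δ : M →+ M) (hδ : ∀ m, δ (δ m) + δ m + m = 0) :
    ∃ (F : Type) (_ : Field F) (_ : Fintype F), Fintype.card F = 4 ∧
      ∃ e : M ≃+ (Fin 2 → F), ∀ T : M →+ M, (∀ m, T (δ m) = δ (T m)) →
        ∀ (c : F) (v : Fin 2 → F), e (T (e.symm (c • v))) = c • e (T (e.symm v)) := by
  classical
  haveI : Fact (Irreducible fourPoly) := ⟨fourPoly_irreducible⟩
  letI : Module (ZMod 2) M := AddCommGroup.zmodModule h2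
  set F := AdjoinRoot fourPoly
  have hne : fourPoly ≠ 0 := fourPoly_monic.ne_zero
  set pb := AdjoinRoot.powerBasis hne with hpb
  have hmin : minpoly (ZMod 2) pb.gen = fourPoly :=
    AdjoinRoot.minpoly_powerBasis_gen_of_monic fourPoly_monic
  set d : Module.End (ZMod 2) M := δ.toZModLinearMap 2 with hd
  have hroot : aeval d (minpoly (ZMod 2) pb.gen) = 0 := by
    rw [hmin, fourPoly]
    refine LinearMap.ext fun m => ?_
    simp only [pow_two, map_add, map_mul, aeval_X, map_one, LinearMap.add_apply, Module.End.mul_apply,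
      Module.End.one_apply, LinearMap.zero_apply]
    exact hδ m
  let ψ : F →ₐ[ZMod 2] Module.End (ZMod 2) M := pb.lift d hroot
  letI : Module F M := Module.compHom M (ψ : F →+* Module.End (ZMod 2) M)
  haveI : Finite F := Finite.of_equiv _ pb.basis.equivFun.toEquiv.symm
  letI : Fintype F := Fintype.ofFinite F
  have hF : Fintype.card F = 4 := by
    haveI : Module.Finite (ZMod 2) F := Module.Finite.of_basis pb.basis
    rw [← Nat.card_eq_fintype_card, Module.natCard_eq_pow_finrank (K := ZMod 2), pb.finrank, Nat.card_zmod,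
      hpb, AdjoinRoot.powerBasis_dim, fourPoly_natDegree]
    norm_num
  haveI : Module.Finite F M := Module.Finite.of_finite
  have hrank : Module.finrank F M = 2 := by
    have h := Module.natCard_eq_pow_finrank (K := F) (V := M)
    rw [hM, Nat.card_eq_fintype_card, hF, show (16 : ℕ) = 4 ^ 2 from rfl] at h
    exact (Nat.pow_right_injective (by norm_num) h).symm
  let L : M ≃ₗ[F] (Fin 2 → F) := (Module.finBasisOfFinrankEq F M hrank).equivFun
  refine ⟨F, inferInstance, inferInstance, hF, L.toAddEquiv, fun T hT c v => ?_⟩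
  have hcomm : ∀ (f : (ZMod 2)[X]) (m : M), T (aeval d f m) = aeval d f (T m) := by
    intro f
    induction f using Polynomial.induction_on' with
    | add p q hp hq =>
      intro m
      rw [map_add, LinearMap.add_apply, LinearMap.add_apply, map_add, hp, hq]
    | monomial n a =>
      intro m
      rw [aeval_monomial, Algebra.algebraMap_eq_smul_one, smul_mul_assoc, one_mul, LinearMap.smul_apply,
        LinearMap.smul_apply, ← AddMonoidHom.coe_toZModLinearMap 2 T, map_smul]
      congr 1
      induction n generalizing m with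
      | zero => rw [pow_zero]; rfl
      | succ n ih =>
        rw [pow_succ, Module.End.mul_apply, Module.End.mul_apply]
        show T ((d ^ n) (δ m)) = (d ^ n) (δ (T m))
        rw [← hT]
        exact ih (δ m)
  have hlin : ∀ m : M, T (c • m) = c • T m := by
    intro m
    obtain ⟨f, hf⟩ := pb.exists_eq_aeval' c
    show T (ψ c m) = ψ c (T m)
    rw [hf, show ψ (aeval pb.gen f) = aeval d f from pb.lift_aeval d hroot f]
    exact hcomm f m
  show L (T (L.symm (c • v))) = c • L (T (L.symm v))
  rw [map_smul, hlin, map_smul]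

/-- The order of the affine group of the plane over four elements. -/
theorem card_affine_le {F : Type} [Field F] [Fintype F] (hF : Fintype.card F = 4) :
    Nat.card ((Fin 2 → F) ≃ᵃ[F] (Fin 2 → F)) ≤ 2880 ∧ Finite ((Fin 2 → F) ≃ᵃ[F] (Fin 2 → F)) := by
  classical
  let π : ((Fin 2 → F) ≃ᵃ[F] (Fin 2 → F)) → (Fin 2 → F) × ((Fin 2 → F) ≃ₗ[F] (Fin 2 → F)) :=
    fun e => (e 0, e.linear)
  have hπ : Function.Injective π := fun e e' h => by
    obtain ⟨h1, h2⟩ := Prod.ext_iff.1 h
    refine AffineEquiv.ext fun v => ?_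
    have e1 := e.map_vadd 0 v
    have e2 := e'.map_vadd 0 v
    simp only [vadd_eq_add, add_zero] at e1 e2
    rw [e1, e2]
    simp only [π] at h1 h2
    rw [h1, h2]
  haveI : Finite (GL (Fin 2) F) := inferInstance
  let g : GL (Fin 2) F ≃ ((Fin 2 → F) ≃ₗ[F] (Fin 2 → F)) :=
    (Matrix.GeneralLinearGroup.toLin.trans (LinearMap.GeneralLinearGroup.generalLinearEquiv F (Fin 2 → F))).toEquiv
  haveI : Finite ((Fin 2 → F) ≃ₗ[F] (Fin 2 → F)) := Finite.of_equiv _ g
  refine ⟨(Nat.card_le_card_of_injective π hπ).trans (le_of_eq ?_), Finite.of_injective π hπ⟩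
  rw [Nat.card_prod, ← Nat.card_congr g, Matrix.card_GL_field, Nat.card_fun, Nat.card_eq_fintype_card,
    Nat.card_eq_fintype_card, hF, Fintype.card_fin]
  simp [Fin.prod_univ_two]

namespace Data

variable {G : Type*} [Group G] [Finite G] {Ω : Type*} [MulAction G Ω] [Finite Ω] [FaithfulSMul G Ω]
variable {D : Data G Ω} (h : D.Sixteen)

include h

/-- On sixteen points the group is the affine group. -/
theorem affine_case : ∃ (F : Type) (_ : Field F) (_ : Fintype F), Fintype.card F = 4 ∧
    Nonempty (G ≃* ((Fin 2 → F) ≃ᵃ[F] (Fin 2 → F))) := by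
  classical
  haveI : Fact (Nat.Prime 3) := ⟨Nat.prime_three⟩
  obtain ⟨E, hEn, hEcard, hEcomm, hEsq, hEtr, hEreg⟩ := exists_translations h
  obtain ⟨hD3, hcen⟩ := exists_homothety h
  obtain ⟨d, hd⟩ := exists_prime_orderOf_dvd_card' (G := ↥(dir h ⊓ stabilizer G D.a)) 3 (by rw [hD3])
  rw [← Subgroup.orderOf_coe] at hd
  have hd3 : (d : G) * d * d = 1 := by
    rw [← pow_two, ← pow_succ]
    show (d : G) ^ 3 = 1
    rw [← hd, pow_orderOf_eq_one]
  have hd1 : (d : G) ≠ 1 := fun e => by rw [e, orderOf_one] at hd; omega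
  have hda : (d : G) • D.a = D.a := d.2.2
  letI : CommGroup E := { (inferInstance : Group E) with
    mul_comm := fun x y => Subtype.ext (hEcomm x x.2 y y.2) }
  let cE : G → Additive E →+ Additive E := fun g =>
    { toFun := fun m => Additive.ofMul ⟨g * (m.toMul : E) * g⁻¹, hEn.conj_mem _ m.toMul.2 g⟩
      map_zero' := by
        refine congrArg Additive.ofMul (Subtype.ext ?_)
        show g * (1 : G) * g⁻¹ = 1
        group
      map_add' := fun m m' => by
        refine congrArg Additive.ofMul (Subtype.ext ?_)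
        show g * (((m.toMul : E) : G) * ((m'.toMul : E) : G)) * g⁻¹ =
          g * ((m.toMul : E) : G) * g⁻¹ * (g * ((m'.toMul : E) : G) * g⁻¹)
        group }
  have hcE : ∀ (g : G) (m : Additive E), (((cE g m).toMul : E) : G) = g * ((m.toMul : E) : G) * g⁻¹ :=
    fun g m => rfl
  have hext : ∀ m m' : Additive E, ((m.toMul : E) : G) = ((m'.toMul : E) : G) → m = m' :=
    fun m m' e => Additive.toMul.injective (Subtype.ext e)
  have hδ : ∀ m, cE d (cE d m) + cE d m + m = 0 := by
    intro m
    set x : G := ((m.toMul : E) : G)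
    have hx : x ∈ E := m.toMul.2
    set s : G := d * (d * x * (d : G)⁻¹) * (d : G)⁻¹ * (d * x * (d : G)⁻¹) * x
    have hsE : s ∈ E := mul_mem (mul_mem (hEn.conj_mem _ (hEn.conj_mem x hx _) _) (hEn.conj_mem x hx _)) hx
    refine hext _ 0 ?_
    show s = 1
    refine hEreg s hsE D.a ?_
    -- `s` commutes with `d`, so its image of `a` is fixed by `d`
    have hds : (d : G) * s = s * d := by
      have h1 : (d : G) * s * (d : G)⁻¹ = ((d : G) * d * d) * x * ((d : G) * d * d)⁻¹ *
          ((d : G) * (d * x * (d : G)⁻¹) * (d : G)⁻¹) * ((d : G) * x * (d : G)⁻¹) := by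
        simp only [s]; group
      rw [hd3, one_mul, inv_one, mul_one] at h1
      refine mul_inv_eq_iff_eq_mul.1 (h1.trans ?_)
      show x * ((d : G) * (d * x * (d : G)⁻¹) * (d : G)⁻¹) * (d * x * (d : G)⁻¹) = s
      simp only [s]
      have hu : (d : G) * (d * x * (d : G)⁻¹) * (d : G)⁻¹ ∈ E := hEn.conj_mem _ (hEn.conj_mem x hx _) _
      rw [hEcomm x hx _ hu, mul_assoc ((d : G) * (d * x * (d : G)⁻¹) * (d : G)⁻¹) x,
        hEcomm x hx _ (hEn.conj_mem x hx _), ← mul_assoc]
    by_contra hne
    exact hd1 (dir_fix_eq_one h d.2.1 (Ne.symm hne) hda (by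
      rw [smul_smul, hds, mul_smul, hda]))
  obtain ⟨F, iF, iFF, hF, L, hL⟩ := plane_equiv (M := Additive E) (fun m => hext _ 0 (by
      rw [toMul_nsmul, Subgroup.coe_pow, pow_two]; exact hEsq _ m.toMul.2))
    (by rw [Nat.card_congr Additive.toMul]; exact hEcard) (cE d) hδ
  refine ⟨F, iF, iFF, hF, ?_⟩
  -- the coordinates
  let π : (Fin 2 → F) → Ω := fun v => (((L.symm v).toMul : E) : G) • D.a
  have hπi : Function.Injective π := fun v w e => L.symm.injective (hext _ _ (inv_mul_eq_one.1 (hEreg _
    (mul_mem (inv_mem (L.symm w).toMul.2) (L.symm v).toMul.2) D.a (by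
      rw [mul_smul, inv_smul_eq_iff]; exact e))).symm)
  have hπs : Function.Surjective π := fun z => by
    obtain ⟨e, he, rfl⟩ := hEtr z
    refine ⟨L (Additive.ofMul ⟨e, he⟩), ?_⟩
    show (((L.symm (L (Additive.ofMul ⟨e, he⟩))).toMul : E) : G) • D.a = e • D.a
    rw [L.symm_apply_apply]
    rfl
  -- every element is affine
  have hex : ∀ g : G, ∃ T : (Fin 2 → F) ≃ᵃ[F] (Fin 2 → F), ∀ v, π (T v) = g • π v := by
    intro g
    obtain ⟨e, he, hea⟩ := hEtr (g • D.a)
    set k := e⁻¹ * g
    have hk : k • D.a = D.a := by rw [mul_smul, ← hea, inv_smul_smul]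
    have hcomm : ∀ y : G, y • D.a = D.a → ∀ m, cE y (cE d m) = cE d (cE y m) := fun y hy m => hext _ _ (by
      rw [hcE, hcE, hcE, hcE, show y * (d * ((m.toMul : E) : G) * (d : G)⁻¹) * y⁻¹ =
        y * d * ((m.toMul : E) : G) * (y * d)⁻¹ by group, hcen d d.2 y hy]
      group)
    have hk' : k⁻¹ • D.a = D.a := inv_smul_eq_iff.2 hk.symm
    let S : (Fin 2 → F) ≃ₗ[F] (Fin 2 → F) :=
      { toFun := fun v => L (cE k (L.symm v))
        invFun := fun v => L (cE k⁻¹ (L.symm v))
        left_inv := fun v => by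
          show L (cE k⁻¹ (L.symm (L (cE k (L.symm v))))) = v
          rw [L.symm_apply_apply, L.eq_symm_apply.symm]
          exact hext _ _ (by rw [hcE, hcE]; group)
        right_inv := fun v => by
          show L (cE k (L.symm (L (cE k⁻¹ (L.symm v))))) = v
          rw [L.symm_apply_apply, L.eq_symm_apply.symm]
          exact hext _ _ (by rw [hcE, hcE]; group)
        map_add' := fun v w => by rw [map_add, map_add, map_add]
        map_smul' := fun c v => hL _ (hcomm k hk) c v }
    refine ⟨S.toAffineEquiv.trans (AffineEquiv.constVAdd F (Fin 2 → F) (L (Additive.ofMul ⟨e, he⟩))), fun v => ?_⟩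
    show (((L.symm (L (Additive.ofMul ⟨e, he⟩) + L (cE k (L.symm v)))).toMul : E) : G) • D.a = g • π v
    rw [map_add, L.symm_apply_apply, L.symm_apply_apply, toMul_add, Subgroup.coe_mul, hcE]
    show (e * (k * (((L.symm v).toMul : E) : G) * k⁻¹)) • D.a = g • π v
    rw [mul_smul, mul_smul, mul_smul, hk', smul_smul, ← mul_smul, show e * k = g by simp [k]]
    exact mul_smul g _ D.a
  choose Φ hΦ using hex
  let Φh : G →* ((Fin 2 → F) ≃ᵃ[F] (Fin 2 → F)) := MonoidHom.mk' Φ fun g g' => AffineEquiv.ext fun v => hπi (by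
    rw [hΦ, AffineEquiv.coe_mul, Function.comp_apply, hΦ, hΦ, mul_smul])
  have hinj : Function.Injective Φh := (injective_iff_map_eq_one Φh).2 fun g hg => eq_of_smul_eq_smul fun z : Ω => by
    obtain ⟨v, rfl⟩ := hπs z
    rw [one_smul, ← hΦ, show Φ g = 1 from hg]
    rfl
  obtain ⟨hle, hfin⟩ := card_affine_le hF
  haveI := hfin
  have hG : Nat.card G = 2880 := by rw [D.card_G, h.n16]
  exact ⟨MulEquiv.ofBijective Φh ((Nat.bijective_iff_injective_and_card _).2
    ⟨hinj, le_antisymm (Nat.card_le_card_of_injective Φh hinj) (hG.symm ▸ hle)⟩)⟩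

end Data

end Cfsg.Agent.TwoA4
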