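import Mathlib

/-!
The degree equations for a doubly transitive group with two-point stabiliser `A₄`.
-/

set_option autoImplicit false

namespace Cfsg.Agent.TwoA4

/-- The equation from a dihedral Sylow 2-subgroup of order eight. -/
theorem case_dih {f x d : ℤ} (hf : 3 ≤ f) (hodd : Odd f) (hx : 1 ≤ x) (hd : d = 1 ∨ d = -1) (hxd : x ≠ d)
    (he : 3 * (4 * (f * f) - 1) * ((x - d) * (x - d)) = 8 * ((f + 1) * (f + 1)) * (x * (x + d))) :
    f = 3 := by
  rcases hd with rfl | rfl
  · exfalso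
    have h4 : (4 : ℤ) ∣ x - 1 := by
      obtain ⟨r, hr⟩ := hodd
      obtain ⟨e, hre⟩ := Int.even_mul_succ_self r
      have hff : f * f = 8 * e + 1 := by rw [hr]; linear_combination 4 * hre
      rw [hff] at he
      have h8 : (8 : ℤ) ∣ (x - 1) * (x - 1) :=
        ⟨(f + 1) * (f + 1) * (x * (x + 1)) - (12 * e + 1) * ((x - 1) * (x - 1)), by linear_combination he⟩
      obtain ⟨q, v, hv, hv0, hv4⟩ : ∃ q v, x - 1 = 4 * q + v ∧ 0 ≤ v ∧ v < 4 :=
        ⟨(x - 1) / 4, (x - 1) % 4, (Int.mul_ediv_add_emod _ _).symm, Int.emod_nonneg _ (by norm_num),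
          Int.emod_lt_of_pos _ (by norm_num)⟩
      rw [hv, show (4 * q + v) * (4 * q + v) = 8 * (2 * q * q + q * v) + v * v by ring] at h8
      rw [hv]
      generalize 2 * q * q + q * v = z at h8
      interval_cases v <;> omega
    obtain ⟨j, hj⟩ := h4
    obtain rfl : x = 4 * j + 1 := by linarith
    have hj0 : 1 ≤ j := by omega
    have he2 : 3 * (4 * (f * f) - 1) * (j * j) = (f + 1) * (f + 1) * ((4 * j + 1) * (2 * j + 1)) :=
      mul_left_cancel₀ (show (16 : ℤ) ≠ 0 by norm_num) (by linear_combination he)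
    have hjf : j ∣ f + 1 := by
      have h1 : IsCoprime (j * j) ((4 * j + 1) * (2 * j + 1)) := by
        refine IsCoprime.mul_left ?_ ?_ <;> refine IsCoprime.mul_right ⟨-4, 1, by ring⟩ ⟨-2, 1, by ring⟩
      have h2 : j * j ∣ (f + 1) * (f + 1) := h1.dvd_of_dvd_mul_right ⟨_, he2.symm.trans (mul_comm _ _)⟩
      rw [← sq, ← sq, Int.pow_dvd_pow_iff two_ne_zero] at h2
      exact h2
    obtain ⟨l, hl⟩ := hjf
    obtain rfl : f = j * l - 1 := by linarith
    have hl0 : 0 < l := by nlinarith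
    have e3 : 3 * (4 * ((j * l - 1) * (j * l - 1)) - 1) = l * l * ((4 * j + 1) * (2 * j + 1)) :=
      mul_left_cancel₀ (show j * j ≠ 0 by positivity) (by linear_combination he2)
    have hl9 : l ≤ 9 := Int.le_of_dvd (by norm_num)
      ⟨-(4 * l * (j * j) - 6 * l * j - 24 * j - l), by linear_combination e3⟩
    have hj7 : j ≤ 12 := by
      by_contra hc
      push Not at hc
      nlinarith [mul_nonneg (show (0 : ℤ) ≤ j - 13 by omega) (show (0 : ℤ) ≤ l - 1 by omega),
        mul_nonneg (mul_nonneg hl0.le hl0.le) (mul_nonneg (show (0 : ℤ) ≤ j - 13 by omega) (show (0 : ℤ) ≤ j by omega)),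
        mul_nonneg (mul_nonneg hl0.le (show (0 : ℤ) ≤ l - 1 by omega)) (show (0 : ℤ) ≤ j by omega)]
    interval_cases l <;> interval_cases j <;> omega
  · have h1 : x * (x + -1) < (x - -1) * (x - -1) := by nlinarith
    have h2 : 3 * (4 * (f * f) - 1) < 8 * ((f + 1) * (f + 1)) := by
      by_contra hc
      push Not at hc
      have h0 : 0 ≤ x * (x + -1) := mul_nonneg (by omega) (by omega)
      have h3 : (0 : ℤ) < 8 * ((f + 1) * (f + 1)) := by positivity
      nlinarith [mul_lt_mul_of_pos_left h1 h3, mul_le_mul_of_nonneg_right hc (mul_self_nonneg (x - -1))]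
    have hf4 : f ≤ 4 := by nlinarith
    obtain ⟨r, rfl⟩ := hodd
    omega

/-- The first shape of the Klein four equation: `3 + m f = k² (4s-1) (2s-1)`. -/
theorem case_a {m u f w k s : ℤ} (hm : m = 1 ∨ m = 3 ∨ m = 4 ∨ m = 6) (hu : 2 ≤ u) (hue : 2 ∣ u)
    (hf : (w = 1 ∧ f = u) ∨ (w = u + 1 ∧ f = u * u) ∨ (w = 2 * u + 1 ∧ f = u * (2 * u - 1)))
    (hk : 1 ≤ k) (hs : 1 ≤ s) (hw : w = k * s) (he : 3 + m * f = k * k * ((4 * s - 1) * (2 * s - 1))) :
    (m = 6 ∧ u = 2 ∧ f = 4) ∨ u = 6 := by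
  rcases hf with ⟨rfl, rfl⟩ | ⟨rfl, rfl⟩ | ⟨rfl, rfl⟩
  · have hk1 : k = 1 := le_antisymm (by nlinarith) hk
    subst hk1
    have hs1 : s = 1 := by linarith
    subst hs1
    rcases hm with rfl | rfl | rfl | rfl <;> omega
  · obtain rfl : u = k * s - 1 := by linarith
    have hdvd : k ∣ 3 + m :=
      ⟨k * (8 * s * s - 6 * s + 1) - m * (k * s * s - 2 * s), by linear_combination he⟩
    have hle : k ≤ 3 + m := Int.le_of_dvd (by omega) hdvd
    have hs5 : s ≤ 8 := by
      rcases hm with rfl | rfl | rfl | rfl <;> interval_cases k <;>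
        first | (exfalso; revert hdvd; decide) | nlinarith
    rcases hm with rfl | rfl | rfl | rfl <;> interval_cases k <;>
      first | (exfalso; revert hdvd; decide) | (interval_cases s <;> omega)
  · have he2 : 2 * 3 + m * ((k * s - 1) * (k * s - 2)) = 2 * (k * k * ((4 * s - 1) * (2 * s - 1))) := by
      rw [← hw]; linear_combination 2 * he
    have hdvd : k ∣ 6 + 2 * m :=
      ⟨2 * k * ((4 * s - 1) * (2 * s - 1)) - m * (k * s * s - 3 * s), by linear_combination he2⟩
    have hle : k ≤ 6 + 2 * m := Int.le_of_dvd (by omega) hdvd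
    have hs5 : s ≤ 8 := by
      rcases hm with rfl | rfl | rfl | rfl <;> interval_cases k <;>
        first | (exfalso; revert hdvd; decide) | omega | nlinarith
    rcases hm with rfl | rfl | rfl | rfl <;> interval_cases k <;>
      first | (exfalso; revert hdvd; decide) | omega |
        (interval_cases s <;> first | omega | (have : u ≤ 8 := by omega
                                               interval_cases u <;> omega))

/-- The second shape of the Klein four equation. -/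
theorem case_b {m u f w i j : ℤ} (hm : m = 1 ∨ m = 3 ∨ m = 4 ∨ m = 6) (hu : 2 ≤ u) (hue : 2 ∣ u)
    (hf : (w = 1 ∧ f = u) ∨ (w = u + 1 ∧ f = u * u) ∨ (w = 2 * u + 1 ∧ f = u * (2 * u - 1)))
    (hi : 1 ≤ i) (hij : i ≤ j)
    (he : (3 + m * f) * ((2 * i + 2 * j - 1) * (2 * i - 1) * (2 * j - 1)) =
      w * w * ((4 * i + 4 * j - 3) * (4 * i - 1) * (4 * j - 1))) :
    (m = 1 ∧ u = 12 ∧ f = 12) ∨ (m = 3 ∧ u = 4 ∧ f = 4) ∨ (m = 6 ∧ u = 2 ∧ f = 2) := by
  obtain ⟨p, hp⟩ : ∃ p, p = 2 * i - 1 := ⟨_, rfl⟩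
  obtain ⟨q, hq⟩ : ∃ q, q = 2 * j - 1 := ⟨_, rfl⟩
  have hp1 : 1 ≤ p := by omega
  have hpq : p ≤ q := by omega
  obtain ⟨X, hX⟩ : ∃ X, X = q * (p + q + 1) := ⟨_, rfl⟩
  have he' : ((3 + m * f) * p - w * w * (8 * p + 4)) * X = w * w * ((2 * p + 1) * (2 * p + 1)) := by
    subst hp hq hX; linear_combination he
  have hX1 : p * (2 * p + 1) ≤ X := by rw [hX]; exact mul_le_mul hpq (by omega) (by omega) (by omega)
  have hX0 : 0 < X := lt_of_lt_of_le (mul_pos (by omega) (by omega)) hX1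
  have hw0 : 1 ≤ w := by rcases hf with ⟨rfl, -⟩ | ⟨rfl, -⟩ | ⟨rfl, -⟩ <;> omega
  have hpos : 0 < (3 + m * f) * p - w * w * (8 * p + 4) := by
    refine pos_of_mul_pos_left ?_ hX0.le
    rw [he']
    exact mul_pos (mul_pos (by omega) (by omega)) (mul_pos (by omega) (by omega))
  rcases hf with ⟨rfl, hfu⟩ | ⟨rfl, rfl⟩ | ⟨rfl, rfl⟩
  · obtain ⟨N, hN⟩ : ∃ N, N = m * u := ⟨_, rfl⟩
    rw [hfu, ← hN] at he' hpos
    have hb : ((3 + N) * p - (8 * p + 4)) * p ≤ 2 * p + 1 := by
      refine le_of_mul_le_mul_right ?_ (show (0 : ℤ) < 2 * p + 1 by omega)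
      calc ((3 + N) * p - (8 * p + 4)) * p * (2 * p + 1) ≤ ((3 + N) * p - (8 * p + 4)) * X := by
            rw [mul_assoc]; exact mul_le_mul_of_nonneg_left hX1 (by linarith)
        _ = (2 * p + 1) * (2 * p + 1) := by rw [one_mul, one_mul] at he'; linarith
    have hN6 : 6 ≤ N := by
      by_contra hc
      nlinarith [mul_le_mul_of_nonneg_right (show 3 + N ≤ 8 by omega) (show (0 : ℤ) ≤ p by omega)]
    have hN12 : N ≤ 12 := by
      by_contra hc
      nlinarith [mul_le_mul_of_nonneg_right (show 16 ≤ 3 + N by omega) (show (0 : ℤ) ≤ p * p by positivity)]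
    have hp7 : p ≤ 7 := by
      by_contra hc
      nlinarith [mul_le_mul_of_nonneg_right (show 9 ≤ 3 + N by omega) (show (0 : ℤ) ≤ p * p by positivity)]
    have hXle : X ≤ (2 * p + 1) * (2 * p + 1) := by
      have := mul_le_mul_of_nonneg_right (show 1 ≤ (3 + N) * p - (8 * p + 4) by linarith) hX0.le
      rw [one_mul, one_mul] at he'
      linarith
    have hq15 : q ≤ 15 := by
      by_contra hc
      nlinarith [mul_le_mul (show 16 ≤ q by omega) (show 18 ≤ p + q + 1 by omega) (by omega) (by omega)]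
    have hN12' : N = 12 := by
      subst hX
      have hNe : 2 ∣ N := by rw [hN]; exact dvd_mul_of_dvd_right hue m
      interval_cases p <;> interval_cases N <;> first | omega | (interval_cases q <;> omega)
    rcases hm with rfl | rfl | rfl | rfl <;> omega
  · exfalso
    have : 3 + m * (u * u) ≤ 8 * ((u + 1) * (u + 1)) := by rcases hm with rfl | rfl | rfl | rfl <;> nlinarith
    nlinarith [mul_le_mul_of_nonneg_right this (show (0 : ℤ) ≤ p by omega)]
  · exfalso
    have : 3 + m * (u * (2 * u - 1)) ≤ 8 * ((2 * u + 1) * (2 * u + 1)) := by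
      rcases hm with rfl | rfl | rfl | rfl <;> nlinarith
    nlinarith [mul_le_mul_of_nonneg_right this (show (0 : ℤ) ≤ p by omega)]

end Cfsg.Agent.TwoA4
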