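import Cfsg.Agent.Lib.Perm.TwoA4.Orbit

/-!
There is no such group on twenty-eight points.
-/

set_option autoImplicit false
set_option linter.style.haveILetI false
set_option linter.unusedSectionVars false

open Cfsg

namespace Cfsg.Agent.TwoA4

open MulAction Equiv Cfsg.Agent.TwoA5

namespace Data

variable {G : Type*} [Group G] [Finite G] {Ω : Type*} [MulAction G Ω] [Finite Ω] [FaithfulSMul G Ω]
variable (D : Data G Ω)

/-- In even degree an involution fixing a point is conjugate to `t`. -/
theorem conj_of_fixed (hn : Even (Nat.card Ω)) {g : G} (hg : g * g = 1) (hg1 : g ≠ 1) {x : Ω} (hx : g • x = x) :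
    IsConj D.t g := by
  have hpar := fixIn_parity (F := (Set.univ : Set Ω)) (fun x _ => smul_smul_of_sq hg x) fun _ _ => Set.mem_univ _
  rw [Set.ncard_univ, Nat.even_iff.1 hn] at hpar
  have hpos : 0 < (fixIn (Set.univ : Set Ω) g).ncard :=
    (Set.ncard_pos (Set.toFinite _)).2 ⟨x, trivial, hx⟩
  obtain ⟨y, hy, hyx⟩ := Set.exists_ne_of_one_lt_ncard
    (show 1 < (fixIn (Set.univ : Set Ω) g).ncard by omega) x
  exact D.conj_of_two_fixed hg hg1 hyx.symm hx hy.2

/-- Twenty-eight points are impossible. -/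
theorem twentyeight_false (h28 : Nat.card Ω = 28) (hm : D.m = 6) (hf : D.f = 4) : False := by
  classical
  haveI : Fact (Nat.Prime 7) := ⟨by norm_num⟩
  haveI : Fact (Nat.Prime 3) := ⟨Nat.prime_three⟩
  haveI : Fact (Nat.Prime 2) := ⟨Nat.prime_two⟩
  haveI := D.isPretransitive
  have hσ : D.σ = tau0 := by
    rcases D.m_cases with ⟨h, -, -⟩ | ⟨-, h, -⟩ | ⟨-, h | h, -⟩
    · exact h
    all_goals omega
  have hG : Nat.card G = 9072 := by rw [D.card_G, h28]
  obtain ⟨P⟩ : Nonempty (Sylow 7 G) := inferInstance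
  have hP : Nat.card (P : Subgroup G) = 7 := by
    rw [P.card_eq_multiplicity, hG, show (9072 : ℕ) = 7 ^ 1 * 1296 from rfl,
      Nat.factorization_mul (by norm_num) (by norm_num), Finsupp.add_apply,
      Nat.Prime.factorization_pow (by norm_num), Finsupp.single_eq_same,
      Nat.factorization_eq_zero_of_not_dvd (show ¬ 7 ∣ 1296 by norm_num)]
    norm_num
  haveI : IsCyclic (P : Subgroup G) := isCyclic_of_prime_card hP
  obtain ⟨g, hg⟩ := IsCyclic.exists_generator (α := ↥(P : Subgroup G))
  have hgo : orderOf (g : G) = 7 := by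
    rw [Subgroup.orderOf_coe, orderOf_eq_card_of_forall_mem_zpowers hg, hP]
  -- `P` has no fixed point, and moves every point in a cycle of seven
  have hstab : ∀ x : Ω, (g : G) • x ≠ x := by
    intro x hx
    have h1 := orderOf_dvd_natCard (⟨g, hx⟩ : stabilizer G x)
    rw [← Subgroup.orderOf_coe, hgo, D.card_stab, h28] at h1
    norm_num at h1
  have horb : ∀ x : Ω, Nat.card (orbit (Subgroup.zpowers (g : G)) x) = 7 := by
    intro x
    rw [Nat.card_congr (orbitEquivQuotientStabilizer (Subgroup.zpowers (g : G)) x)]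
    have h1 : (stabilizer (Subgroup.zpowers (g : G)) x).index ∣ 7 := by
      exact (Subgroup.index_dvd_card _).trans (dvd_of_eq (by rw [Nat.card_zpowers, hgo]))
    refine ((Nat.dvd_prime (by norm_num : Nat.Prime 7)).1 h1).resolve_left fun h => hstab x ?_
    have h2 : (⟨g, Subgroup.mem_zpowers _⟩ : Subgroup.zpowers (g : G)) ∈
        stabilizer (Subgroup.zpowers (g : G)) x := by rw [Subgroup.index_eq_one.1 h]; exact Subgroup.mem_top _
    exact h2
  set C := Subgroup.centralizer ((P : Subgroup G) : Set G) with hC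
  have hgC : ∀ y ∈ C, ∀ i ∈ Subgroup.zpowers (g : G), y * i = i * y := fun y hy i hi =>
    (Subgroup.mem_centralizer_iff.1 hy i (Subgroup.zpowers_le.2 g.2 hi)).symm
  have hPC : (P : Subgroup G) ≤ C := fun x hx => Subgroup.mem_centralizer_iff.2 fun z hz => by
    obtain ⟨i, hi⟩ := hg ⟨x, hx⟩
    obtain ⟨j, hj⟩ := hg ⟨z, hz⟩
    have hi' : (g : G) ^ i = x := congrArg Subtype.val hi
    have hj' : (g : G) ^ j = z := congrArg Subtype.val hj
    rw [← hi', ← hj', ← zpow_add, ← zpow_add, add_comm]
  -- no involution centralises `P`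
  have hC2 : ¬ 2 ∣ Nat.card C := by
    intro h
    obtain ⟨y, hy⟩ := exists_prime_orderOf_dvd_card' (G := C) 2 h
    rw [← Subgroup.orderOf_coe] at hy
    have hy2 : (y : G) * y = 1 := by rw [← pow_two, ← hy, pow_orderOf_eq_one]
    obtain ⟨z, hz⟩ := exists_moved (Λ := Ω) (show (y : G) ≠ 1 from fun e => by rw [e, orderOf_one] at hy; omega)
    have hy4 : (fixIn (Set.univ : Set Ω) (y : G)).ncard = 4 :=
      (D.nfix_of_conj (D.all_conj hσ hm hy2 hz)).trans hf
    obtain ⟨x, hx⟩ := Set.nonempty_of_ncard_ne_zero (show (fixIn (Set.univ : Set Ω) (y : G)).ncard ≠ 0 by omega)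
    have hsub : orbit (Subgroup.zpowers (g : G)) x ⊆ fixIn (Set.univ : Set Ω) (y : G) := by
      rintro _ ⟨r, rfl⟩
      refine ⟨trivial, ?_⟩
      show (y : G) • (r : G) • x = (r : G) • x
      rw [smul_smul, hgC y y.2 r r.2, mul_smul, hx.2]
    have h7 := Set.ncard_le_ncard hsub (Set.toFinite _)
    rw [← Nat.card_coe_set_eq, horb, hy4] at h7
    omega
  -- no subgroup of order nine centralises `P`
  have hC3 : ¬ 9 ∣ Nat.card C := by
    intro h
    obtain ⟨R, hR⟩ := Sylow.exists_subgroup_card_pow_prime (G := C) 3 (n := 2) h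
    set R' : Subgroup G := R.map C.subtype with hR'
    have hR'card : Nat.card R' = 3 ^ 2 := by
      rw [hR', Subgroup.card_map_of_injective (Subgroup.subtype_injective C), hR]
    obtain ⟨S, hS⟩ := (IsPGroup.of_card (p := 3) hR'card).exists_le_sylow
    obtain ⟨T⟩ : Nonempty (Sylow 3 (stabilizer G D.a)) := inferInstance
    have hTcard : Nat.card ((T : Subgroup (stabilizer G D.a)).map (stabilizer G D.a).subtype) =
        3 ^ (Nat.card G).factorization 3 := by
      rw [Subgroup.card_map_of_injective (Subgroup.subtype_injective _), T.card_eq_multiplicity, D.card_stab, h28,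
        hG]
      have e1 : Nat.factorization ((28 - 1) * 12) 3 = 4 := by
        rw [show (28 - 1) * 12 = 3 ^ 4 * 4 from rfl, Nat.factorization_mul (by norm_num) (by norm_num),
          Finsupp.add_apply, Nat.Prime.factorization_pow Nat.prime_three, Finsupp.single_eq_same,
          Nat.factorization_eq_zero_of_not_dvd (show ¬ 3 ∣ 4 by norm_num)]
      have e2 : Nat.factorization 9072 3 = 4 := by
        rw [show (9072 : ℕ) = 3 ^ 4 * 112 from rfl, Nat.factorization_mul (by norm_num) (by norm_num),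
          Finsupp.add_apply, Nat.Prime.factorization_pow Nat.prime_three, Finsupp.single_eq_same,
          Nat.factorization_eq_zero_of_not_dvd (show ¬ 3 ∣ 112 by norm_num)]
      rw [e1, e2]
    obtain ⟨k, hk⟩ := exists_smul_eq G (Sylow.ofCard _ hTcard) S
    have hfix : ∀ y ∈ R', y • (k • D.a) = k • D.a := by
      intro y hy
      have h1 : y ∈ (S : Subgroup G) := hS hy
      rw [← hk, Sylow.coe_subgroup_smul, Sylow.coe_ofCard] at h1
      obtain ⟨z, hz, hzy⟩ := Subgroup.mem_map.1 h1
      obtain ⟨z', -, rfl⟩ := Subgroup.mem_map.1 hz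
      rw [← hzy]
      show (k * (z' : G) * k⁻¹) • (k • D.a) = k • D.a
      rw [mul_smul, mul_smul, inv_smul_smul, show (z' : G) • D.a = D.a from z'.2]
    have hle : R' ≤ stabilizer G (k • D.a) ⊓ stabilizer G ((g : G) • (k • D.a)) := fun y hy => ⟨hfix y hy, by
      show y • (g : G) • (k • D.a) = (g : G) • (k • D.a)
      have hyC : y ∈ C := by
        obtain ⟨z, -, rfl⟩ := Subgroup.mem_map.1 hy
        exact z.2
      rw [smul_smul, hgC y hyC g (Subgroup.mem_zpowers _), mul_smul, hfix y hy]⟩
    have h1 := Subgroup.card_dvd_of_le hle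
    have h2 := (twoOn_top D.two).card_eq (Set.mem_univ (k • D.a)) (Set.mem_univ ((g : G) • (k • D.a)))
      (hstab _).symm
    have h3 := (twoOn_top D.two).card_stab (Set.mem_univ (k • D.a)) (Set.mem_univ ((g : G) • (k • D.a)))
      (hstab _).symm
    rw [Subgroup.card_top, hG, h3, Set.ncard_univ, h28, top_inf_eq] at h2
    rw [hR'card] at h1
    obtain ⟨c, hc⟩ := h1
    rw [hc] at h2
    omega
  -- the normaliser of `P` is `P`
  set N := Subgroup.normalizer ((P : Subgroup G) : Set G) with hN
  have hCN : C ≤ N := Subgroup.centralizer_le_normalizer _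
  have hNC : (C.subgroupOf N).index ∣ 6 := by
    have h1 : (Subgroup.normalizerMonoidHom (P : Subgroup G)).ker = C.subgroupOf N :=
      Subgroup.normalizerMonoidHom_ker _
    rw [← h1, Subgroup.index_ker]
    refine (Subgroup.card_subgroup_dvd_card _).trans (dvd_of_eq ?_)
    rw [IsCyclic.card_mulAut, hP, Nat.totient_prime (by norm_num)]
  have hNcard : Nat.card N = (C.subgroupOf N).index * Nat.card C := by
    rw [← (C.subgroupOf N).index_mul_card, Nat.card_congr (Subgroup.subgroupOfEquivOfLe hCN).toEquiv]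
  obtain ⟨c, hc⟩ := hP ▸ Subgroup.card_dvd_of_le hPC
  have hc3 : c ∣ 3 := by
    have h1 : c ∣ 3 ^ 4 * 2 ^ 4 := by
      have h := Subgroup.card_subgroup_dvd_card C
      rw [hc, hG, show (9072 : ℕ) = 7 * (3 ^ 4 * 2 ^ 4) from rfl] at h
      exact Nat.dvd_of_mul_dvd_mul_left (by norm_num) h
    have h2 : c ∣ 3 ^ 4 := (Nat.Coprime.pow_right 4 (Nat.coprime_two_right.2 (Nat.odd_iff.2 (by
      rw [hc] at hC2; omega)))).dvd_of_dvd_mul_right h1
    obtain ⟨j, hj, rfl⟩ := (Nat.dvd_prime_pow Nat.prime_three).1 h2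
    rw [hc] at hC3
    interval_cases j <;> omega
  obtain ⟨e, he⟩ := hNC
  have hr : ∃ r, Nat.card N = 7 * r ∧ r ∣ 18 := by
    refine ⟨(C.subgroupOf N).index * c, by rw [hNcard, hc]; ring, ?_⟩
    exact (Nat.mul_dvd_mul (Dvd.intro e he.symm : (C.subgroupOf N).index ∣ 6) hc3).trans (dvd_of_eq rfl)
  obtain ⟨r, hNr, hr18⟩ := hr
  have hsyl := card_sylow_modEq_one 7 G
  rw [Sylow.card_eq_index_normalizer P] at hsyl
  have hidx := N.index_mul_card
  rw [hG, hNr] at hidx
  have hr1 : r = 1 := by
    have hr' := Nat.le_of_dvd (by norm_num) hr18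
    change N.index % 7 = 1 % 7 at hsyl
    interval_cases r <;> omega
  have hNP : N = (P : Subgroup G) := (Subgroup.eq_of_le_of_card_ge Subgroup.le_normalizer
    (by rw [hNr, hr1, hP])).symm
  have hle : N ≤ C := hNP ▸ hPC
  have hcompl := MonoidHom.ker_transferSylow_isComplement' P hle
  have hK := hcompl.card_mul
  rw [hP, hG] at hK
  set K := (MonoidHom.transferSylow P hle).ker
  haveI h2' : IsMultiplyPretransitive G Ω 2 :=
    is_two_pretransitive_iff.2 fun {x₁ x₂ y₁ y₂} hx hy => D.two _ _ _ _ hx hy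
  haveI : IsPreprimitive G Ω := isPreprimitive_of_is_two_pretransitive h2'
  have hK1 : K ≠ ⊥ := fun e => by rw [e, Subgroup.card_bot] at hK; omega
  haveI := Cfsg.Agent.Perm.normal_isPretransitive (Ω := Ω) K hK1
  have h5 := index_stabilizer_of_transitive (G := ↥K) D.a
  have h6 := (stabilizer ↥K D.a).index_dvd_card
  rw [h5, h28] at h6
  omega

end Data

end Cfsg.Agent.TwoA4
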