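import Cfsg.Agent.Lib.Perm.TwoA4.Orbit
import Cfsg.Agent.Lib.Perm.TwoA4.Arith
import Cfsg.Agent.Lib.Perm.TwoA4.TwentyEight

/-!
Even degree: six or sixteen points.
-/

set_option autoImplicit false
set_option linter.style.haveILetI false
set_option linter.unusedSectionVars false

open Cfsg

namespace Cfsg.Agent.TwoA4

open MulAction Equiv Cfsg.Agent.TwoA5

/-- In an abelian Sylow 2-subgroup, an element whose square centralises and which normalises, centralises. -/
theorem commute_of_sq {X : Type*} [Group X] [Finite X] (P : Sylow 2 X)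
    (hPc : ∀ g ∈ (P : Subgroup X), ∀ g' ∈ (P : Subgroup X), g * g' = g' * g) {y g : X}
    (hy : y ∈ Subgroup.normalizer ((P : Subgroup X) : Set X)) (hg : g ∈ (P : Subgroup X))
    (hsq : Commute (y * y) g) : Commute y g := by
  haveI : Fact (Nat.Prime 2) := ⟨Nat.prime_two⟩
  obtain ⟨k, o, ho, hko⟩ := Nat.exists_eq_two_pow_mul_odd (n := orderOf y) (orderOf_pos y).ne'
  have hyo : y ^ o ∈ (P : Subgroup X) := by
    have hpg : IsPGroup 2 (Subgroup.zpowers (y ^ o)) := by
      refine IsPGroup.of_card (n := k) ?_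
      rw [Nat.card_zpowers, orderOf_pow_of_dvd ho.pos.ne' (hko ▸ dvd_mul_left _ _), hko,
        Nat.mul_div_cancel _ ho.pos]
    have hj := hpg.to_sup_of_normal_right' P.isPGroup' (Subgroup.zpowers_le.2 (pow_mem hy o))
    exact (P.is_maximal' hj le_sup_right) ▸ Subgroup.mem_sup_left (Subgroup.mem_zpowers _)
  have hco : Commute (y ^ o) g := hPc _ hyo g hg
  obtain ⟨r, hr⟩ := ho
  have : Commute (y ^ o * ((y * y) ^ r)⁻¹) g := hco.mul_left ((hsq.pow_left r).inv_left)
  rwa [show y ^ o * ((y * y) ^ r)⁻¹ = y by rw [hr, pow_succ', ← pow_two, ← pow_mul]; group] at this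

namespace Data

variable {G : Type*} [Group G] [Finite G] {Ω : Type*} [MulAction G Ω] [Finite Ω] [FaithfulSMul G Ω]
variable (D : Data G Ω)

theorem u_prime_pow : ∃ p j : ℕ, p.Prime ∧ 1 ≤ j ∧ D.u = p ^ j :=
  D.twoL.prime_pow D.a_memV D.b_memV D.ne fun g hg ha hb x hx => by
    rcases D.C_stab hg.1 ha hb with e | e | e | e <;> rw [e]
    exacts [one_smul G x, hx.1.2, hx.2, D.FV_mem_ts hx]

include D in
/-- Even degree. -/
theorem even_case (hn : Even (Nat.card Ω)) : (Nat.card Ω = 6 ∧ D.σ = tau0) ∨ (Nat.card Ω = 16 ∧ D.σ = 1 ∧ D.f = 4 ∧ D.u = 4) := by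
  classical
  haveI : Fact (Nat.Prime 2) := ⟨Nat.prime_two⟩
  set n := Nat.card Ω with hn'
  have hn2 : 2 ≤ n := by have := D.two_le_f; have := D.f_lt; omega
  have hnm : n % 2 = 0 := Nat.even_iff.1 hn
  set A := stabilizer G D.a with hA
  have hAcard : Nat.card A = (n - 1) * 12 := D.card_stab D.a
  letI := Fintype.ofFinite A
  have hVA : D.V ≤ A := by
    intro g hg
    rcases D.mem_V.1 hg with rfl | rfl | rfl | rfl
    exacts [one_mem _, D.φa t0, D.φa s0, mul_mem (D.φa t0) (D.φa s0)]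
  have hcard : Nat.card (D.V.subgroupOf A) = 2 ^ (Nat.card A).factorization 2 := by
    rw [Nat.card_congr (Subgroup.subgroupOfEquivOfLe hVA).toEquiv, D.card_V, hAcard,
      Nat.factorization_mul (by omega) (by norm_num), Finsupp.add_apply,
      Nat.factorization_eq_zero_of_not_dvd (show ¬ 2 ∣ n - 1 by omega),
      show (12 : ℕ) = 2 ^ 2 * 3 from rfl, Nat.factorization_mul (by norm_num) (by norm_num), Finsupp.add_apply,
      Nat.Prime.factorization_pow Nat.prime_two, Finsupp.single_eq_same,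
      Nat.factorization_eq_zero_of_not_dvd (show ¬ 2 ∣ 3 by norm_num)]
    norm_num
  set P := Sylow.ofCard _ hcard with hP
  have hPV : ∀ g : A, g ∈ (P : Subgroup A) ↔ (g : G) ∈ D.V := fun g => by
    rw [hP, Sylow.coe_ofCard, Subgroup.mem_subgroupOf]
  have hP4 : Nat.card P = 4 := by
    rw [hP, ← SetLike.coe_sort_coe, Sylow.coe_ofCard, SetLike.coe_sort_coe,
      Nat.card_congr (Subgroup.subgroupOfEquivOfLe hVA).toEquiv, D.card_V]
  have hexp : ∀ x : P, x * x = 1 := by
    intro x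
    refine Subtype.ext (Subtype.ext ?_)
    show ((x : A) : G) * ((x : A) : G) = 1
    rcases D.mem_V.1 ((hPV _).1 x.2) with e | e | e | e <;> rw [e]
    exacts [one_mul 1, D.t_sq, D.s_sq, D.ts_sq']
  set tA : A := ⟨D.t, D.φa t0⟩ with htA
  have htP : tA ∈ (P : Subgroup A) := (hPV _).2 (D.mem_V.2 (Or.inr (Or.inl rfl)))
  have htA2 : orderOf tA = 2 := by rw [← Subgroup.orderOf_coe]; exact D.t_order
  have hone : ∀ p q : A, orderOf p = 2 → orderOf q = 2 → IsConj p q := by
    have h1 : ∀ p : A, orderOf p = 2 → IsConj tA p := by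
      intro p hp
      rw [← Subgroup.orderOf_coe] at hp
      have hp2 : (p : G) * p = 1 := by rw [← pow_two, ← hp, pow_orderOf_eq_one]
      have hp1 : (p : G) ≠ 1 := fun e => by rw [e, orderOf_one] at hp; omega
      have hpar := fixIn_parity (F := (Set.univ : Set Ω)) (fun x _ => smul_smul_of_sq hp2 x)
        fun _ _ => Set.mem_univ _
      rw [Set.ncard_univ] at hpar
      have hpa : D.a ∈ fixIn (Set.univ : Set Ω) (p : G) := ⟨trivial, p.2⟩
      have hpos : 0 < (fixIn (Set.univ : Set Ω) (p : G)).ncard :=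
        (Set.ncard_pos (Set.toFinite _)).2 ⟨_, hpa⟩
      obtain ⟨y, hy, hya⟩ := Set.exists_ne_of_one_lt_ncard
        (show 1 < (fixIn (Set.univ : Set Ω) (p : G)).ncard by omega) D.a
      obtain ⟨k, hk1, hk2⟩ := D.two D.a y D.a D.b hya.symm D.ne
      have hki : k⁻¹ • D.a = D.a := by rw [inv_smul_eq_iff, hk1]
      obtain ⟨z, hz⟩ := (D.mem (k * p * k⁻¹)).1
        ⟨by rw [mul_smul, mul_smul, hki, show (p : G) • D.a = D.a from p.2, hk1],
          by rw [← hk2, mul_smul, mul_smul, inv_smul_smul, hy.2]⟩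
      obtain ⟨h, rfl⟩ := inv_conj z (D.inj (by
          rw [map_mul, hz, map_one, show k * p * k⁻¹ * (k * p * k⁻¹) = k * ((p : G) * p) * k⁻¹ by group, hp2]
          group))
        (fun e => hp1 (conj_eq_one_iff.1 (hz.symm.trans (by rw [e, map_one]))))
      refine isConj_iff.2 ⟨⟨k⁻¹ * D.φ h, mul_mem (inv_mem (show k ∈ A from hk1)) (D.φa h)⟩, Subtype.ext ?_⟩
      show k⁻¹ * D.φ h * D.t * (k⁻¹ * D.φ h)⁻¹ = (p : G)
      rw [map_mul, map_mul, map_inv] at hz
      change D.φ h * D.t * (D.φ h)⁻¹ = k * p * k⁻¹ at hz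
      calc k⁻¹ * D.φ h * D.t * (k⁻¹ * D.φ h)⁻¹ = k⁻¹ * (D.φ h * D.t * (D.φ h)⁻¹) * k := by group
        _ = (p : G) := by rw [hz]; group
    exact fun p q hp hq => (h1 p hp).symm.trans (h1 q hq)
  -- the two centralisers
  have hcC : (Subgroup.centralizer ({tA} : Set A)).map A.subtype = D.C ⊓ A := by
    ext g
    constructor
    · rintro ⟨y, hy, rfl⟩
      exact ⟨Subgroup.mem_centralizer_singleton_iff.2
        (congrArg Subtype.val (Subgroup.mem_centralizer_singleton_iff.1 hy)), y.2⟩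
    · rintro ⟨hg, hga⟩
      exact ⟨⟨g, hga⟩, Subgroup.mem_centralizer_singleton_iff.2
        (Subtype.ext (Subgroup.mem_centralizer_singleton_iff.1 hg)), rfl⟩
  have hcP : (Subgroup.centralizer ((P : Subgroup A) : Set A)).map A.subtype = D.L ⊓ A := by
    ext g
    constructor
    · rintro ⟨y, hy, rfl⟩
      have hc : ∀ v ∈ D.V, (y : G) * v = v * y := fun v hv =>
        (congrArg Subtype.val (Subgroup.mem_centralizer_iff.1 hy ⟨v, hVA hv⟩ ((hPV _).2 hv))).symm
      refine ⟨D.mem_L (Subgroup.mem_centralizer_singleton_iff.2 (hc _ (D.mem_V.2 (Or.inr (Or.inl rfl)))))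
        (Or.inl ?_), y.2⟩
      show (y : G) * D.s * (y : G)⁻¹ = D.s
      rw [hc _ (D.mem_V.2 (Or.inr (Or.inr (Or.inl rfl)))), mul_inv_cancel_right]
    · rintro ⟨hg, hga⟩
      refine ⟨⟨g, hga⟩, Subgroup.mem_centralizer_iff.2 fun v hv => ?_, rfl⟩
      have hPc : ∀ p ∈ (P : Subgroup A), ∀ q ∈ (P : Subgroup A), p * q = q * p := fun p hp q hq =>
        Cfsg.Agent.Char.comm_of_exp_two hexp p hp q hq
      have hnorm : (⟨g, hga⟩ : A) ∈ Subgroup.normalizer ((P : Subgroup A) : Set A) :=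
        Subgroup.mem_normalizer_iff.2 fun z => by
          rw [hPV, hPV]
          exact Subgroup.mem_normalizer_iff.1 hg.2 z
      refine (commute_of_sq P hPc hnorm hv ?_).symm
      -- the square fixes every element of the four-group
      have hgt : g * D.t = D.t * g := Subgroup.mem_centralizer_singleton_iff.1 hg.1
      have hs2 : g * g * D.s = D.s * (g * g) := by
        rw [← mul_inv_eq_iff_eq_mul]
        rcases D.L_conj hg with e | e
        · calc g * g * D.s * (g * g)⁻¹ = g * (g * D.s * g⁻¹) * g⁻¹ := by group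
            _ = D.s := by rw [e, e]
        · calc g * g * D.s * (g * g)⁻¹ = g * (g * D.s * g⁻¹) * g⁻¹ := by group
            _ = g * (D.t * D.s) * g⁻¹ := by rw [e]
            _ = (g * D.t * g⁻¹) * (g * D.s * g⁻¹) := by group
            _ = D.s := by rw [e, hgt, mul_inv_cancel_right, ← mul_assoc, D.t_sq, one_mul]
      have ht2 : g * g * D.t = D.t * (g * g) := (Commute.mul_left hgt hgt : Commute (g * g) D.t)
      refine Subtype.ext ?_
      show g * g * (v : G) = (v : G) * (g * g)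
      rcases D.mem_V.1 ((hPV _).1 hv) with e | e | e | e <;> rw [e]
      · rw [one_mul, mul_one]
      · exact ht2
      · exact hs2
      · exact (Commute.mul_right ht2 hs2 : Commute (g * g) (D.t * D.s))
  have hc4 : Nat.card (Subgroup.centralizer ({tA} : Set A)) = (D.f - 1) * 4 := by
    rw [← Subgroup.card_map_of_injective (K := Subgroup.centralizer ({tA} : Set A)) (Subgroup.subtype_injective A),
      hcC, D.card_C_stab]
  have hd4 : Nat.card (Subgroup.centralizer ((P : Subgroup A) : Set A)) = (D.u - 1) * 4 := by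
    rw [← Subgroup.card_map_of_injective (K := Subgroup.centralizer ((P : Subgroup A) : Set A))
      (Subgroup.subtype_injective A), hcP, D.card_L_stab]
  have hu2 := D.two_le_u
  have hue : 2 ∣ (D.u : ℤ) := by
    have h1 := D.u_parity
    have h2 := D.parity
    omega
  -- the quotient
  obtain ⟨w, hw, hwf⟩ : ∃ w : ℕ, D.f - 1 = (D.u - 1) * w ∧
      ((((w : ℕ) : ℤ) = 1 ∧ (D.f : ℤ) = D.u) ∨ ((w : ℤ) = D.u + 1 ∧ (D.f : ℤ) = (D.u : ℤ) * D.u) ∨
        ((w : ℤ) = 2 * D.u + 1 ∧ (D.f : ℤ) = (D.u : ℤ) * (2 * D.u - 1))) := by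
    obtain ⟨v, hv⟩ : ∃ v, D.u = v + 1 := ⟨D.u - 1, by omega⟩
    rcases D.forms with h | h | h <;> rw [hv] at h ⊢
    · exact ⟨1, by rw [h, mul_one], Or.inl ⟨rfl, by rw [h]⟩⟩
    · refine ⟨v + 2, ?_, Or.inr (Or.inl ⟨by push_cast; ring, by rw [h]; push_cast; ring⟩)⟩
      rw [h, show (v + 1) * (v + 1) = v * (v + 2) + 1 by ring, Nat.add_sub_cancel, Nat.add_sub_cancel]
    · refine ⟨2 * v + 3, ?_, Or.inr (Or.inr ⟨by push_cast; ring, ?_⟩)⟩
      · rw [h, show 2 * (v + 1) - 1 = 2 * v + 1 by omega,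
          show (v + 1) * (2 * v + 1) = v * (2 * v + 3) + 1 by ring, Nat.add_sub_cancel, Nat.add_sub_cancel]
      · rw [h, show 2 * (v + 1) - 1 = 2 * v + 1 by omega]; push_cast; ring
  have hf2 := D.two_le_f
  have hm : (D.m : ℤ) = 1 ∨ (D.m : ℤ) = 3 ∨ (D.m : ℤ) = 4 ∨ (D.m : ℤ) = 6 := by
    rcases D.m_cases with ⟨-, h, -⟩ | ⟨-, h, -⟩ | ⟨-, h | h, -⟩ <;> omega
  have hAz : (Nat.card A : ℤ) = (((D.u - 1) * 4 : ℕ) : ℤ) * w * (3 + (D.m : ℤ) * D.f) := by
    have e1 : (((D.u - 1) * 4 : ℕ) : ℤ) * w = 4 * ((D.f : ℤ) - 1) := by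
      have := congrArg (fun x : ℕ => (x : ℤ)) hw
      simp only [Nat.cast_mul, Nat.cast_sub (show 1 ≤ D.f by omega), Nat.cast_one] at this
      push_cast
      linear_combination -4 * this
    rw [e1, hAcard, Nat.cast_mul, Nat.cast_sub (show 1 ≤ n by omega)]
    push_cast
    linear_combination 4 * D.card_n
  have hdw : (0 : ℤ) < (((D.u - 1) * 4 : ℕ) : ℤ) * w := by
    have h0 : 0 < (D.u - 1) * 4 * w := by
      rw [mul_right_comm, ← hw]; omega
    exact_mod_cast h0
  have hnot6 : ¬ (D.u = 6 ∨ D.u = 12) := by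
    intro hu6
    obtain ⟨p, l, hp, -, hul⟩ := D.u_prime_pow
    have h6 : 2 ∣ p ^ l ∧ 3 ∣ p ^ l := by rw [← hul]; omega
    have hp2 := (Nat.prime_dvd_prime_iff_eq Nat.prime_two hp).1 (Nat.prime_two.dvd_of_dvd_pow h6.1)
    have hp3 := (Nat.prime_dvd_prime_iff_eq Nat.prime_three hp).1 (Nat.prime_three.dvd_of_dvd_pow h6.2)
    omega
  rcases four_normal_form P hP4 hexp hone htP htA2 hd4 (w := w) (by rw [hc4, hw]; ring) with
    ⟨k, r, hk, hr, hwk, he⟩ | ⟨i, j, hi, hij, he⟩
  · exfalso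
    rcases case_a hm (u := (D.u : ℤ)) (by omega) hue hwf hk hr hwk
      (mul_left_cancel₀ hdw.ne' (hAz.symm.trans he)) with ⟨hm6, hu, hf⟩ | hu
    · have hc := D.card_n
      rw [hm6, hf] at hc
      exact D.twentyeight_false (by omega) (by omega) (by omega)
    · exact hnot6 (Or.inl (by omega))
  · rcases case_b hm (u := (D.u : ℤ)) (by omega) hue hwf hi hij
      (mul_left_cancel₀ hdw.ne' (by rw [hAz, mul_assoc (((D.u - 1) * 4 : ℕ) : ℤ) _ _] at he; linear_combination he))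
      with ⟨-, hu, -⟩ | ⟨hm3, hu, hf⟩ | ⟨hm6, -, hf⟩
    · exact (hnot6 (Or.inr (by omega))).elim
    · refine Or.inr ?_
      have hc := D.card_n
      rw [hm3, hf] at hc
      rcases D.m_cases with ⟨-, h, -⟩ | ⟨hσ, -, -⟩ | ⟨hσ, -, -⟩
      · omega
      all_goals exact ⟨by omega, hσ, by omega, by omega⟩
    · refine Or.inl ?_
      have hc := D.card_n
      rw [hm6, hf] at hc
      rcases D.m_cases with ⟨hσ, -, -⟩ | ⟨-, h, -⟩ | ⟨-, h, -⟩
      · exact ⟨by omega, hσ⟩
      all_goals omega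

end Data

end Cfsg.Agent.TwoA4
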