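import Cfsg.Agent.Lib.Perm.TwoA4.Orbit
import Cfsg.Agent.S0984

/-!
Fifteen points: the alternating group of degree seven.
-/

set_option autoImplicit false
set_option linter.style.haveILetI false
set_option linter.unusedSectionVars false

open Cfsg

namespace Cfsg.Agent.TwoA4

open MulAction Equiv Cfsg.Agent.TwoA5

namespace Data

variable {G : Type*} [Group G] [Finite G] {Ω : Type*} [MulAction G Ω] [Finite Ω] [FaithfulSMul G Ω]
variable (D : Data G Ω)

/-- A subgroup normalised by the point stabiliser does not have orbits of size two. -/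
theorem orbit_ne_two (hσ : D.σ = tau0) (hm : D.m = 6) (h15 : Nat.card Ω = 15) (hf : D.f = 3) {W : Subgroup G}
    (hW : W ≤ stabilizer G D.a) (hWc : ∀ g : G, g • D.a = D.a → ∀ y ∈ W, g * y * g⁻¹ ∈ W) :
    Nat.card (orbit W D.b) ≠ 2 := by
  intro h2
  have hpair : ∀ w ∈ W, ∀ w' ∈ W, ∀ z : Ω, w • z ≠ z → w' • z ≠ z → w • z = w' • z := by
    intro w hw w' hw' z h1 h1'
    by_contra hne
    have hz : z ≠ D.a := fun e => h1 (e ▸ hW hw)
    have hsub : ({z, w • z, w' • z} : Set Ω) ⊆ orbit W z := by
      rintro _ (rfl | rfl | rfl)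
      exacts [mem_orbit_self _, ⟨⟨w, hw⟩, rfl⟩, ⟨⟨w', hw'⟩, rfl⟩]
    have h3 := Set.ncard_le_ncard hsub (Set.toFinite _)
    rw [Set.ncard_insert_of_notMem (by simp [Ne.symm h1, Ne.symm h1']) (Set.toFinite _), Set.ncard_pair hne,
      ← Nat.card_coe_set_eq, D.orbit_eq hW hWc hz, h2] at h3
    omega
  have hsq : ∀ w ∈ W, w * w = 1 := fun w hw => eq_of_smul_eq_smul fun z : Ω => by
    rw [one_smul, mul_smul]
    by_cases h : w • z = z
    · rw [h, h]
    have h' : w⁻¹ • z ≠ z := fun e => h (by rw [inv_smul_eq_iff] at e; exact e.symm)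
    rw [hpair w hw w⁻¹ (inv_mem hw) z h h', smul_inv_smul]
  have hfix : ∀ w ∈ W, w ≠ 1 → (fixIn (Set.univ : Set Ω) w).ncard = 3 := fun w hw hw1 => by
    obtain ⟨z, hz⟩ := exists_moved (Λ := Ω) hw1
    exact (D.nfix_of_conj (D.all_conj hσ hm (hsq w hw) hz)).trans hf
  have hle : ∀ w ∈ W, ∀ w' ∈ W, w ≠ 1 → w' ≠ 1 → w * w' = 1 := by
    intro w hw w' hw' hw1 hw1'
    by_contra hne
    have hsub : (fixIn (Set.univ : Set Ω) w ∪ fixIn (Set.univ : Set Ω) w')ᶜ ⊆
        fixIn (Set.univ : Set Ω) (w * w') := by
      intro z hz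
      simp only [Set.mem_compl_iff, Set.mem_union, mem_fixIn, Set.mem_univ, true_and, not_or] at hz
      refine ⟨trivial, ?_⟩
      rw [mul_smul, ← hpair w hw w' hw' z hz.1 hz.2, smul_smul_of_sq (hsq w hw)]
    have h4 := Set.ncard_le_ncard hsub (Set.toFinite _)
    have h5 := Set.ncard_union_le (fixIn (Set.univ : Set Ω) w) (fixIn (Set.univ : Set Ω) w')
    rw [Set.ncard_compl, h15, hfix _ (mul_mem hw hw') hne] at h4
    rw [hfix w hw hw1, hfix w' hw' hw1'] at h5
    omega
  obtain ⟨w, hw, hw1⟩ : ∃ w ∈ W, w ≠ 1 := by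
    by_contra hno
    push Not at hno
    have : Nat.card (orbit W D.b) = 1 := Nat.card_eq_one_iff_unique.2 ⟨⟨fun x y => Subtype.ext (by
      obtain ⟨r, hr⟩ := x.2
      obtain ⟨r', hr'⟩ := y.2
      rw [← hr, ← hr']
      show (r : G) • D.b = (r' : G) • D.b
      rw [hno r r.2, hno r' r'.2])⟩, ⟨⟨_, mem_orbit_self _⟩⟩⟩
    omega
  -- the two fixed points other than `a` lie in trivial orbits
  obtain ⟨z, hz, hza⟩ := Set.exists_ne_of_one_lt_ncard
    (show 1 < (fixIn (Set.univ : Set Ω) w).ncard by rw [hfix w hw hw1]; norm_num) D.a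
  have : Nat.card (orbit W z) = 1 := Nat.card_eq_one_iff_unique.2 ⟨⟨fun x y => Subtype.ext (by
    have hall : ∀ r ∈ W, r • z = z := fun r hr => by
      by_cases hr1 : r = 1
      · rw [hr1, one_smul]
      · rw [eq_inv_of_mul_eq_one_left (hle r hr w hw hr1 hw1), inv_smul_eq_iff, hz.2]
    obtain ⟨r, hr⟩ := x.2
    obtain ⟨r', hr'⟩ := y.2
    rw [← hr, ← hr']
    show (r : G) • z = (r' : G) • z
    rw [hall r r.2, hall r' r'.2])⟩, ⟨⟨_, mem_orbit_self _⟩⟩⟩
  rw [D.orbit_eq hW hWc hza, h2] at this
  omega

/-- The point stabiliser has eight Sylow 7-subgroups. -/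
theorem seven_count (h15 : Nat.card Ω = 15) (hf : D.f = 3) : Nat.card (Sylow 7 (stabilizer G D.a)) = 8 := by
  classical
  haveI : Fact (Nat.Prime 7) := ⟨by norm_num⟩
  set A := stabilizer G D.a
  have hA : Nat.card A = 168 := by rw [D.card_stab, h15]
  obtain ⟨P⟩ : Nonempty (Sylow 7 A) := inferInstance
  have hP : Nat.card (P : Subgroup A) = 7 := by
    rw [P.card_eq_multiplicity, hA, show (168 : ℕ) = 7 ^ 1 * 24 from rfl,
      Nat.factorization_mul (by norm_num) (by norm_num), Finsupp.add_apply,
      Nat.Prime.factorization_pow (by norm_num), Finsupp.single_eq_same,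
      Nat.factorization_eq_zero_of_not_dvd (show ¬ 7 ∣ 24 by norm_num)]
    norm_num
  have hidx : (P : Subgroup A).index = 24 := by
    have h := (P : Subgroup A).index_mul_card
    rw [hP, hA] at h
    omega
  have h1 : Nat.card (Sylow 7 A) ≡ 1 [MOD 7] := card_sylow_modEq_one 7 A
  have h2 : Nat.card (Sylow 7 A) ∣ 24 := hidx ▸ P.card_dvd_index
  have h3 : Nat.card (Sylow 7 A) = 1 ∨ Nat.card (Sylow 7 A) = 8 := by
    have h4 := Nat.le_of_dvd (by norm_num) h2
    unfold Nat.ModEq at h1
    interval_cases h : Nat.card (Sylow 7 A) <;> omega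
  refine h3.resolve_left fun h3 => ?_
  haveI : Subsingleton (Sylow 7 A) := (Nat.card_eq_one_iff_unique.1 h3).1
  haveI := P.normal_of_subsingleton
  set W : Subgroup G := (P : Subgroup A).map A.subtype with hWdef
  have hW : W ≤ A := by rintro _ ⟨y, -, rfl⟩; exact y.2
  have hWc : ∀ g : G, g • D.a = D.a → ∀ y ∈ W, g * y * g⁻¹ ∈ W := by
    rintro g hg _ ⟨y, hy, rfl⟩
    exact ⟨(⟨g, hg⟩ : A) * y * (⟨g, hg⟩ : A)⁻¹, Subgroup.Normal.conj_mem inferInstance y hy _, rfl⟩
  have hW7 : Nat.card W = 7 := by rw [hWdef, Subgroup.card_map_of_injective (Subgroup.subtype_injective A), hP]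
  haveI : IsCyclic W := isCyclic_of_prime_card hW7
  obtain ⟨gen, hgen⟩ := IsCyclic.exists_generator (α := W)
  -- conjugations act on the generator by powers, so commutators centralise
  have hpow : ∀ g : G, g • D.a = D.a → ∃ e : ℤ, ∀ y ∈ W, g * y * g⁻¹ = y ^ e := by
    intro g hg
    obtain ⟨e, he⟩ := hgen ⟨_, hWc g hg gen gen.2⟩
    refine ⟨e, fun y hy => ?_⟩
    obtain ⟨i, hi⟩ := hgen ⟨y, hy⟩
    have he' : g * (gen : G) * g⁻¹ = (gen : G) ^ e := (congrArg Subtype.val he).symm
    have hi' : (gen : G) ^ i = y := congrArg Subtype.val hi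
    rw [← hi', ← conj_zpow, he', ← zpow_mul, ← zpow_mul, mul_comm]
  have hcomm : ∀ x y : AF, ∀ w ∈ W, D.φ (x * y * x⁻¹ * y⁻¹) * w = w * D.φ (x * y * x⁻¹ * y⁻¹) := by
    intro x y w hw
    obtain ⟨e, he⟩ := hpow (D.φ x) (D.φa x)
    obtain ⟨e', he'⟩ := hpow (D.φ y) (D.φa y)
    have hswap : ∀ v ∈ W, D.φ x * (D.φ y * v * (D.φ y)⁻¹) * (D.φ x)⁻¹ =
        D.φ y * (D.φ x * v * (D.φ x)⁻¹) * (D.φ y)⁻¹ := fun v hv => by
      rw [he' v hv, he v hv, he _ (zpow_mem hv _), he' _ (zpow_mem hv _), ← zpow_mul, ← zpow_mul, mul_comm]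
    set w' := (D.φ y)⁻¹ * ((D.φ x)⁻¹ * w * D.φ x) * D.φ y with hw'
    have hw'W : w' ∈ W := by
      have h1 := hWc (D.φ x)⁻¹ (by rw [← map_inv]; exact D.φa _) w hw
      rw [inv_inv] at h1
      have h2 := hWc (D.φ y)⁻¹ (by rw [← map_inv]; exact D.φa _) _ h1
      rwa [inv_inv] at h2
    have h := hswap w' hw'W
    rw [hw'] at h
    rw [map_mul, map_mul, map_mul, map_inv, map_inv, ← mul_inv_eq_iff_eq_mul]
    calc D.φ x * D.φ y * (D.φ x)⁻¹ * (D.φ y)⁻¹ * w * (D.φ x * D.φ y * (D.φ x)⁻¹ * (D.φ y)⁻¹)⁻¹
        = D.φ x * (D.φ y * ((D.φ x)⁻¹ * ((D.φ y)⁻¹ * w * D.φ y) * D.φ x) * (D.φ y)⁻¹) * (D.φ x)⁻¹ := by group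
      _ = w := by
        have h3 := hWc (D.φ y)⁻¹ (by rw [← map_inv]; exact D.φa _) w hw
        rw [inv_inv] at h3
        have h4 := hWc (D.φ x)⁻¹ (by rw [← map_inv]; exact D.φa _) _ h3
        rw [inv_inv] at h4
        rw [hswap _ h4]
        group
  obtain ⟨x, y, hxy⟩ : ∃ x y : AF, x * y * x⁻¹ * y⁻¹ = t0 := comm_t0
  -- so the three fixed points of `t` are fixed
  have ht : ∀ w ∈ W, D.t * w = w * D.t := fun w hw => by
    have h := hcomm x y w hw
    rwa [hxy] at h
  have hk : Nat.card (orbit W D.b) = 7 := by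
    have h5 := D.orbit_dvd_card hW hWc
    rw [hW7] at h5
    refine ((Nat.dvd_prime (by norm_num : Nat.Prime 7)).1 h5).resolve_left fun h6 => ?_
    have h7 : Nat.card W ≤ 1 := Finite.card_le_one_iff_subsingleton.2
      ⟨fun p q => Subtype.ext ((D.eq_one_of_orbit_one hW hWc h6 p p.2).trans
        (D.eq_one_of_orbit_one hW hWc h6 q q.2).symm)⟩
    omega
  have hsub : orbit W D.b ⊆ D.Ft := by
    rintro _ ⟨r, rfl⟩
    refine ⟨trivial, ?_⟩
    show D.t • (r : G) • D.b = (r : G) • D.b
    rw [smul_smul, ht r r.2, mul_smul, show D.t • D.b = D.b from D.φb t0]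
  have h8 := Set.ncard_le_ncard hsub (Set.toFinite _)
  rw [← Nat.card_coe_set_eq, hk] at h8
  change 7 ≤ D.f at h8
  omega

/-- On fifteen points the group is the alternating group of degree seven. -/
theorem fifteen (hσ : D.σ = tau0) (hm : D.m = 6) (h15 : Nat.card Ω = 15) :
    Nonempty (G ≃* alternatingGroup (Fin 7)) := by
  classical
  have hG : Nat.card G = 2520 := by rw [D.card_G, h15]
  have hf : D.f = 3 := by
    have hc := D.card_n
    rw [h15, hm] at hc
    push_cast at hc
    have h2 := D.two_le_f
    have h4 : D.f ≤ 3 := by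
      by_contra h
      have : (4 : ℤ) ≤ D.f := by exact_mod_cast (show 4 ≤ D.f by omega)
      nlinarith
    interval_cases h : D.f <;> omega
  haveI := D.isPretransitive
  haveI : Fact (Nat.Prime 7) := ⟨by norm_num⟩
  haveI : Fact (Nat.Prime 2) := ⟨Nat.prime_two⟩
  haveI h2 : IsMultiplyPretransitive G Ω 2 :=
    is_two_pretransitive_iff.2 fun {x₁ x₂ y₁ y₂} hx hy => D.two _ _ _ _ hx hy
  haveI : IsPreprimitive G Ω := isPreprimitive_of_is_two_pretransitive h2
  haveI : Nontrivial G := ⟨⟨D.t, 1, D.t_ne⟩⟩
  haveI : IsSimpleGroup G := by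
    refine ⟨fun M hM => or_iff_not_imp_left.2 fun hM1 => ?_⟩
    haveI := hM
    haveI hMt : IsPretransitive M Ω := Cfsg.Agent.Perm.normal_isPretransitive M hM1
    set A := stabilizer G D.a with hAdef
    have hA : Nat.card A = 168 := by rw [hAdef, D.card_stab, h15]
    set MA := M ⊓ A with hMA
    have hW : MA ≤ A := inf_le_right
    have hWc : ∀ g : G, g • D.a = D.a → ∀ y ∈ MA, g * y * g⁻¹ ∈ MA := fun g hg y hy =>
      ⟨hM.conj_mem y hy.1 g, A.mul_mem (A.mul_mem hg hy.2) (A.inv_mem hg)⟩
    have hk := D.orbit_dvd hW hWc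
    rw [h15] at hk
    have hk2 := D.orbit_ne_two hσ hm h15 hf hW hWc
    by_cases hk1 : Nat.card (orbit MA D.b) = 1
    · -- a regular normal subgroup of order fifteen
      exfalso
      have h1 := D.eq_one_of_orbit_one hW hWc hk1
      have hM15 : Nat.card M = 15 := by
        refine (Cfsg.Agent.Perm.card_eq_of_regular D.a ((Subgroup.eq_bot_iff_forall _).2 fun r hr => ?_)).symm.trans
          h15
        exact Subtype.ext (h1 r ⟨r.2, hr⟩)
      haveI : Fact (Nat.Prime 5) := ⟨Nat.prime_five⟩
      obtain ⟨P⟩ : Nonempty (Sylow 5 M) := inferInstance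
      have hP : Nat.card (P : Subgroup M) = 5 := by
        rw [P.card_eq_multiplicity, hM15, show (15 : ℕ) = 5 ^ 1 * 3 from rfl,
          Nat.factorization_mul (by norm_num) (by norm_num), Finsupp.add_apply,
          Nat.Prime.factorization_pow (by norm_num), Finsupp.single_eq_same,
          Nat.factorization_eq_zero_of_not_dvd (show ¬ 5 ∣ 3 by norm_num)]
        norm_num
      have hidx : (P : Subgroup M).index = 3 := by
        have h := (P : Subgroup M).index_mul_card
        rw [hP, hM15] at h
        omega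
      have h2' : Nat.card (Sylow 5 M) ∣ 3 := hidx ▸ P.card_dvd_index
      have h3' : Nat.card (Sylow 5 M) ≡ 1 [MOD 5] := card_sylow_modEq_one 5 M
      have h4' : Nat.card (Sylow 5 M) = 1 := by
        have h4 := Nat.le_of_dvd (by norm_num) h2'
        unfold Nat.ModEq at h3'
        interval_cases h : Nat.card (Sylow 5 M) <;> omega
      haveI : Subsingleton (Sylow 5 M) := (Nat.card_eq_one_iff_unique.1 h4').1
      haveI := P.normal_of_subsingleton
      haveI : (P : Subgroup M).Characteristic := P.characteristic_of_normal inferInstance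
      have hne : (P : Subgroup M).map M.subtype ≠ ⊥ := fun e => by
        have h := congrArg (fun K : Subgroup G => Nat.card K) e
        simp only [Subgroup.card_map_of_injective (Subgroup.subtype_injective M), hP, Subgroup.card_bot] at h
        omega
      haveI : ((P : Subgroup M).map M.subtype).Normal := inferInstance
      haveI := Cfsg.Agent.Perm.normal_isPretransitive ((P : Subgroup M).map M.subtype) hne (Ω := Ω)
      have h5 := index_stabilizer_of_transitive (G := ↥((P : Subgroup M).map M.subtype)) D.a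
      have h6 := (stabilizer ↥((P : Subgroup M).map M.subtype) D.a).index_dvd_card
      rw [h5, h15, Subgroup.card_map_of_injective (Subgroup.subtype_injective M), hP] at h6
      norm_num at h6
    · have h7 : 7 ∣ Nat.card MA := by
        have hle := Nat.le_of_dvd (by norm_num) hk
        have h7' : 7 ∣ Nat.card (orbit MA D.b) := by
          revert hk hk1 hk2 hle
          generalize Nat.card (orbit MA D.b) = k
          intro hk hk2 hk1 hle
          interval_cases k <;> omega
        exact h7'.trans (D.orbit_dvd_card hW hWc)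
      set M' : Subgroup A := MA.subgroupOf A with hM'
      haveI : M'.Normal := ⟨fun y hy g => hWc g g.2 y hy⟩
      have hM'card : Nat.card M' = Nat.card MA := Nat.card_congr (Subgroup.subgroupOfEquivOfLe hW).toEquiv
      -- it contains all eight Sylow 7-subgroups
      obtain ⟨P⟩ : Nonempty (Sylow 7 M') := inferInstance
      have hall : ∀ Q : Sylow 7 A, (Q : Subgroup A) ≤ M' := by
        intro Q y hy
        have ho : orderOf y ∣ 7 := by
          have hQ : Nat.card (Q : Subgroup A) = 7 := by
            rw [Q.card_eq_multiplicity, hA, show (168 : ℕ) = 7 ^ 1 * 24 from rfl,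
              Nat.factorization_mul (by norm_num) (by norm_num), Finsupp.add_apply,
              Nat.Prime.factorization_pow (by norm_num), Finsupp.single_eq_same,
              Nat.factorization_eq_zero_of_not_dvd (show ¬ 7 ∣ 24 by norm_num)]
            norm_num
          have := orderOf_dvd_natCard (⟨y, hy⟩ : (Q : Subgroup A))
          rwa [hQ, ← Subgroup.orderOf_coe] at this
        have h1 : y ^ M'.index ∈ M' := Subgroup.pow_index_mem M' y
        have hcop : Nat.Coprime 7 M'.index := by
          rw [(by norm_num : Nat.Prime 7).coprime_iff_not_dvd]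
          intro h
          have h2 := M'.index_mul_card
          rw [hA, hM'card] at h2
          have h3 : 7 * 7 ∣ 168 := h2 ▸ mul_dvd_mul h h7
          norm_num at h3
        have h2 : y ^ Nat.gcd 7 M'.index ∈ M' := by
          rw [← zpow_natCast, Nat.gcd_eq_gcd_ab, zpow_add, zpow_mul, zpow_mul, zpow_natCast, zpow_natCast,
            orderOf_dvd_iff_pow_eq_one.1 ho, one_zpow, one_mul]
          exact zpow_mem h1 _
        rwa [hcop, pow_one] at h2
      have h8le : 8 ≤ Nat.card (Sylow 7 M') := by
        rw [← D.seven_count h15 hf]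
        exact Nat.card_le_card_of_injective (fun Q : Sylow 7 A => Q.subtype (hall Q))
          fun Q Q' e => Sylow.subtype_injective e
      have hP : Nat.card (P : Subgroup M') = 7 := by
        obtain ⟨r, hr⟩ := h7
        have hr24 : r ∣ 24 := by
          have h2 := M'.card_subgroup_dvd_card
          rw [hM'card, hr, hA, show (168 : ℕ) = 7 * 24 from rfl] at h2
          exact Nat.dvd_of_mul_dvd_mul_left (by norm_num) h2
        have hr7 : ¬ 7 ∣ r := fun h => by
          have := h.trans hr24
          norm_num at this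
        rw [P.card_eq_multiplicity, hM'card, hr, Nat.factorization_mul (by norm_num)
            (fun e => hr7 (by rw [e]; exact dvd_zero 7)), Finsupp.add_apply, Nat.Prime.factorization_self (by norm_num),
          Nat.factorization_eq_zero_of_not_dvd hr7]
        norm_num
      have hidx := (P : Subgroup M').index_mul_card
      rw [hP, hM'card] at hidx
      have hdvd : Nat.card (Sylow 7 M') ∣ (P : Subgroup M').index := P.card_dvd_index
      have h168 : Nat.card MA ∣ 168 := hA ▸ Subgroup.card_dvd_of_le hW
      have hidx24 : (P : Subgroup M').index ∣ 24 :=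
        Nat.dvd_of_mul_dvd_mul_right (show 0 < 7 by norm_num) (hidx.symm ▸ h168)
      have hmod : Nat.card (Sylow 7 M') ≡ 1 [MOD 7] := card_sylow_modEq_one 7 M'
      have h8 : 8 ∣ (P : Subgroup M').index := by
        have h24 := Nat.le_of_dvd (by norm_num) (hdvd.trans hidx24)
        have h' := hdvd.trans hidx24
        unfold Nat.ModEq at hmod
        generalize Nat.card (Sylow 7 M') = k at hdvd h8le hmod h' h24
        interval_cases k <;> first | exact hdvd | omega
      have hMA' : Nat.card MA = 56 ∨ Nat.card MA = 168 := by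
        obtain ⟨c, hc⟩ := h8
        have h24 := Nat.le_of_dvd (by norm_num) hidx24
        rw [hc] at hidx hidx24 h24
        have hc3 : c ≤ 3 := by omega
        interval_cases c <;> omega
      rcases hMA' with h56 | h168'
      · -- the elements of order prime to seven form a normal subgroup of order eight
        exfalso
        have hM56 : Nat.card M' = 56 := hM'card.trans h56
        have hPidx : (P : Subgroup M').index = 8 := by omega
        have hn7 : Nat.card (Sylow 7 M') = 8 := by
          have h1 := Nat.le_of_dvd (by norm_num) (hPidx ▸ hdvd)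
          omega
        haveI := Fintype.ofFinite M'
        haveI := Fintype.ofFinite (Sylow 7 M')
        have hQ7 : ∀ Q : Sylow 7 M', Nat.card (Q : Subgroup M') = 7 := fun Q =>
          (Nat.card_congr (Q.equiv P).toEquiv).trans hP
        have hord : ∀ Q : Sylow 7 M', ∀ y ∈ (Q : Subgroup M'), y ≠ 1 → orderOf y = 7 := fun Q y hy hy1 => by
          have h1 := orderOf_dvd_natCard (⟨y, hy⟩ : (Q : Subgroup M'))
          rw [hQ7 Q, ← Subgroup.orderOf_coe] at h1
          exact ((Nat.dvd_prime (by norm_num : Nat.Prime 7)).1 h1).resolve_left fun h => hy1 (orderOf_eq_one_iff.1 h)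
        set U : Finset M' := Finset.univ.biUnion fun Q : Sylow 7 M' =>
          Finset.univ.filter fun y => y ∈ (Q : Subgroup M') ∧ y ≠ 1 with hU
        have hUcard : U.card = 48 := by
          rw [hU, Finset.card_biUnion]
          · rw [Finset.sum_congr rfl (g := fun _ => 6) (fun Q _ => ?_), Finset.sum_const, smul_eq_mul,
              Finset.card_univ, ← Nat.card_eq_fintype_card, hn7]
            have e : (Finset.univ.filter fun y => y ∈ (Q : Subgroup M') ∧ y ≠ 1) =
                (Finset.univ.filter fun y => y ∈ (Q : Subgroup M')).erase 1 := by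
              ext y
              simp [and_comm]
            rw [e, Finset.card_erase_of_mem (by simp), ← Fintype.card_subtype, ← Nat.card_eq_fintype_card]
            rw [show Nat.card {y : M' // y ∈ (Q : Subgroup M')} = Nat.card (Q : Subgroup M') from rfl, hQ7 Q]
          · intro Q _ Q' _ hne
            rw [Function.onFun, Finset.disjoint_left]
            intro y hy hy'
            simp only [Finset.mem_filter, Finset.mem_univ, true_and] at hy hy'
            refine hne (Sylow.ext ?_)
            have hgen : ∀ R : Sylow 7 M', y ∈ (R : Subgroup M') → (R : Subgroup M') = Subgroup.zpowers y :=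
              fun R hR => (Subgroup.eq_of_le_of_card_ge (Subgroup.zpowers_le.2 hR) (by
                rw [hQ7 R, Nat.card_zpowers, hord R y hR hy.2])).symm
            rw [hgen Q hy.1, hgen Q' hy'.1]
        obtain ⟨S⟩ : Nonempty (Sylow 2 M') := inferInstance
        have hS : ∀ T : Sylow 2 M', (T : Set M') = ((Uᶜ : Finset M') : Set M') := by
          intro T
          have hT : Nat.card (T : Subgroup M') = 8 := by
            rw [T.card_eq_multiplicity, hM56, show (56 : ℕ) = 2 ^ 3 * 7 from rfl,
              Nat.factorization_mul (by norm_num) (by norm_num), Finsupp.add_apply,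
              Nat.Prime.factorization_pow Nat.prime_two, Finsupp.single_eq_same,
              Nat.factorization_eq_zero_of_not_dvd (show ¬ 2 ∣ 7 by norm_num)]
            norm_num
          refine Set.eq_of_subset_of_ncard_le (fun y hy => ?_) ?_ (Set.toFinite _)
          · simp only [Finset.coe_compl, Set.mem_compl_iff, Finset.mem_coe]
            intro hyU
            simp only [hU, Finset.mem_biUnion, Finset.mem_univ, true_and, Finset.mem_filter] at hyU
            obtain ⟨Q, hyQ, hy1⟩ := hyU
            have h1 := orderOf_dvd_natCard (⟨y, hy⟩ : (T : Subgroup M'))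
            rw [hT, ← Subgroup.orderOf_coe, hord Q y hyQ hy1] at h1
            norm_num at h1
          · rw [Set.ncard_coe_finset, Finset.card_compl, hUcard, ← Nat.card_eq_fintype_card, hM56,
              ← Nat.card_coe_set_eq]
            exact le_of_eq hT.symm
        haveI : Subsingleton (Sylow 2 M') := ⟨fun T T' => Sylow.ext (SetLike.coe_injective ((hS T).trans (hS T').symm))⟩
        haveI := S.normal_of_subsingleton
        haveI : (S : Subgroup M').Characteristic := S.characteristic_of_normal inferInstance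
        set W : Subgroup G := ((S : Subgroup M').map M'.subtype).map A.subtype with hWdef
        have hS8 : Nat.card W = 8 := by
          rw [hWdef, Subgroup.card_map_of_injective (Subgroup.subtype_injective A),
            Subgroup.card_map_of_injective (Subgroup.subtype_injective M'), S.card_eq_multiplicity, hM56,
            show (56 : ℕ) = 2 ^ 3 * 7 from rfl, Nat.factorization_mul (by norm_num) (by norm_num),
            Finsupp.add_apply, Nat.Prime.factorization_pow Nat.prime_two, Finsupp.single_eq_same,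
            Nat.factorization_eq_zero_of_not_dvd (show ¬ 2 ∣ 7 by norm_num)]
          norm_num
        have hW' : W ≤ A := by rintro _ ⟨y, -, rfl⟩; exact y.2
        have hWc' : ∀ g : G, g • D.a = D.a → ∀ y ∈ W, g * y * g⁻¹ ∈ W := by
          rintro g hg _ ⟨y, hy, rfl⟩
          exact ⟨(⟨g, hg⟩ : A) * y * (⟨g, hg⟩ : A)⁻¹, Subgroup.Normal.conj_mem inferInstance y hy _, rfl⟩
        have hd1 := D.orbit_dvd hW' hWc'
        have hd2 := D.orbit_dvd_card hW' hWc'
        rw [h15] at hd1
        rw [hS8] at hd2
        have h2or := (Nat.dvd_prime Nat.prime_two).1 (show Nat.card (orbit W D.b) ∣ 2 from Nat.dvd_gcd hd1 hd2)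
        rcases h2or with h | h
        · have h1 : Nat.card W ≤ 1 := Finite.card_le_one_iff_subsingleton.2
            ⟨fun p q => Subtype.ext ((D.eq_one_of_orbit_one hW' hWc' h p p.2).trans
              (D.eq_one_of_orbit_one hW' hWc' h q q.2).symm)⟩
          omega
        · exact D.orbit_ne_two hσ hm h15 hf hW' hWc' h
      · have hMAeq : MA = A := Subgroup.eq_of_le_of_card_ge hW (by omega)
        refine eq_top_iff.2 fun g _ => ?_
        obtain ⟨r, hr⟩ := exists_smul_eq M D.a (g • D.a)
        have hr' : (r : G) • D.a = g • D.a := hr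
        have : (r : G)⁻¹ * g ∈ A := by
          show ((r : G)⁻¹ * g) • D.a = D.a
          rw [mul_smul, inv_smul_eq_iff, hr']
        rw [← hMAeq] at this
        simpa using mul_mem r.2 this.1
  exact Cfsg.Agent.S0984.result hG

end Data

end Cfsg.Agent.TwoA4
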