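import Cfsg.Agent.Lib.Perm.TwoA4.TwentyEight

/-!
Sixteen points: the lines cut out by the two-point stabilisers form an affine plane.
-/

set_option autoImplicit false
set_option linter.style.haveILetI false
set_option linter.unusedSectionVars false

open Cfsg

namespace Cfsg.Agent.TwoA4

open MulAction Equiv Cfsg.Agent.TwoA5

/-- The points fixed by every element fixing two given points. -/
def line (G : Type*) [Group G] {Ω : Type*} [MulAction G Ω] (x y : Ω) : Set Ω :=
  {z | ∀ g : G, g • x = x → g • y = y → g • z = z}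

namespace Data

variable {G : Type*} [Group G] [Finite G] {Ω : Type*} [MulAction G Ω] [Finite Ω] [FaithfulSMul G Ω]
variable (D : Data G Ω)

/-- The hypotheses of the case of sixteen points. -/
structure Sixteen : Prop where
  n16 : Nat.card Ω = 16
  hσ : D.σ = 1
  hf : D.f = 4
  hu : D.u = 4

/-- A line. -/
def IsLine (l : Set Ω) : Prop := ∃ x y : Ω, x ≠ y ∧ l = line G x y

/-- The lines through a point. -/
def Through (_D : Data G Ω) (x : Ω) : Set (Set Ω) := {l | (∃ a b : Ω, a ≠ b ∧ l = line G a b) ∧ x ∈ l}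

/-- Parallel lines. -/
def Par (_D : Data G Ω) (l m : Set Ω) : Prop := l = m ∨ Disjoint l m

theorem smul_line (g : G) (x y : Ω) : (fun z => g • z) '' line G x y = line G (g • x) (g • y) := by
  ext w
  constructor
  · rintro ⟨z, hz, rfl⟩ k hkx hky
    have h := hz (g⁻¹ * k * g) (by rw [mul_smul, mul_smul, hkx, inv_smul_smul])
      (by rw [mul_smul, mul_smul, hky, inv_smul_smul])
    rw [mul_smul, mul_smul, inv_smul_eq_iff] at h
    exact h
  · intro hw
    refine ⟨g⁻¹ • w, fun k hkx hky => ?_, smul_inv_smul g w⟩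
    have h := hw (g * k * g⁻¹) (by rw [mul_smul, mul_smul, inv_smul_smul, hkx])
      (by rw [mul_smul, mul_smul, inv_smul_smul, hky])
    rw [mul_smul, mul_smul, smul_eq_iff_eq_inv_smul] at h
    exact h

variable {D} (h : D.Sixteen)

include h

/-- The line through the base points is the fixed-point set of `t`. -/
theorem line_base : line G D.a D.b = D.Ft := by
  refine Set.Subset.antisymm (fun z hz => ⟨trivial, hz D.t (D.φa t0) (D.φb t0)⟩) fun z hz g hga hgb => ?_
  obtain ⟨x, rfl⟩ := (D.mem g).1 ⟨hga, hgb⟩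
  have hsf := D.s_fix_all (by rw [h.hu, h.hf])
  -- every involution fixes all of `Ft`
  have hinv : ∀ v : AF, v * v = 1 → ∀ w ∈ D.Ft, D.φ v • w = w := by
    intro v hv w hw
    rcases four_cases v hv with rfl | rfl | rfl | rfl
    · rw [map_one, one_smul]
    · exact hw.2
    · exact hsf w hw
    · rw [map_mul, mul_smul]
      show D.t • D.s • w = w
      rw [hsf w hw, hw.2]
  rcases order_cases x with hx | hx
  · exact hinv x hx z hz
  · -- an element of order three permutes the two remaining points
    have hmove : ∀ w ∈ D.Ft, D.φ x • w ∈ D.Ft := by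
      intro w hw
      refine ⟨trivial, ?_⟩
      have h1 := hinv (x⁻¹ * t0 * x) (by
        rw [show x⁻¹ * t0 * x * (x⁻¹ * t0 * x) = x⁻¹ * (t0 * t0) * x by group, t0_sq]; group) w hw
      rw [map_mul, map_mul, map_inv, mul_smul, mul_smul, inv_smul_eq_iff] at h1
      exact h1
    by_contra hne
    set z' := D.φ x • z with hz'
    have hza : z ≠ D.a := fun e => hne (by subst e; exact D.φa x)
    have hzb : z ≠ D.b := fun e => hne (by subst e; exact D.φb x)
    have hz'a : z' ≠ D.a := fun e => hza (smul_left_cancel (D.φ x) (e.trans (D.φa x).symm))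
    have hz'b : z' ≠ D.b := fun e => hzb (smul_left_cancel (D.φ x) (e.trans (D.φb x).symm))
    have hz'' : D.φ x • z' = z := by
      set z'' := D.φ x • z'
      have hza'' : z'' ≠ D.a := fun e => hz'a (smul_left_cancel (D.φ x) (e.trans (D.φa x).symm))
      have hzb'' : z'' ≠ D.b := fun e => hz'b (smul_left_cancel (D.φ x) (e.trans (D.φb x).symm))
      by_contra hne'
      have hsub : ({D.a, D.b, z, z', z''} : Set Ω) ⊆ D.Ft := by
        rintro _ (rfl | rfl | rfl | rfl | rfl)
        exacts [D.a_mem, D.b_mem, hz, hmove z hz, hmove _ (hmove z hz)]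
      have hzz : z' ≠ z'' := fun e => hne (smul_left_cancel (D.φ x) e).symm
      have hle := Set.ncard_le_ncard hsub (Set.toFinite _)
      rw [Set.ncard_insert_of_notMem (by simp [D.ne, Ne.symm hza, Ne.symm hz'a, Ne.symm hza'']) (Set.toFinite _),
        Set.ncard_insert_of_notMem (by simp [Ne.symm hzb, Ne.symm hz'b, Ne.symm hzb'']) (Set.toFinite _),
        Set.ncard_insert_of_notMem (by simp [Ne.symm hne, Ne.symm hne']) (Set.toFinite _),
        Set.ncard_pair hzz] at hle
      change 5 ≤ D.f at hle
      rw [h.hf] at hle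
      omega
    apply hne
    have h3 : D.φ x • D.φ x • D.φ x • z = z := by
      rw [smul_smul, smul_smul, ← map_mul, ← map_mul, hx, map_one, one_smul]
    rwa [← hz', hz''] at h3

theorem card_pair_stab {x y : Ω} (hxy : x ≠ y) : Nat.card ↥(stabilizer G x ⊓ stabilizer G y) = 12 := by
  have h1 := (twoOn_top D.two).card_stab (Set.mem_univ x) (Set.mem_univ y) hxy
  rw [top_inf_eq, Set.ncard_univ, D.card_stab, h.n16] at h1
  exact (Nat.eq_of_mul_eq_mul_left (by norm_num) h1).symm

theorem line_card {x y : Ω} (hxy : x ≠ y) : (line G x y).ncard = 4 := by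
  obtain ⟨g, hg1, hg2⟩ := D.two D.a D.b x y D.ne hxy
  rw [← hg1, ← hg2, ← smul_line, line_base h, Set.ncard_image_of_injective _ (MulAction.injective g)]
  exact h.hf

theorem line_mem (x y : Ω) : x ∈ line G x y ∧ y ∈ line G x y :=
  ⟨fun _ hx _ => hx, fun _ _ hy => hy⟩

/-- Two points of a line determine it. -/
theorem line_eq {x y z w : Ω} (hxy : x ≠ y) (hz : z ∈ line G x y) (hw : w ∈ line G x y) (hzw : z ≠ w) :
    line G z w = line G x y := by
  have hle : stabilizer G x ⊓ stabilizer G y ≤ stabilizer G z ⊓ stabilizer G w :=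
    fun g hg => ⟨hz g hg.1 hg.2, hw g hg.1 hg.2⟩
  have heq : stabilizer G x ⊓ stabilizer G y = stabilizer G z ⊓ stabilizer G w :=
    Subgroup.eq_of_le_of_card_ge hle (by rw [card_pair_stab h hxy, card_pair_stab h hzw])
  ext v
  constructor
  · intro hv g hgx hgy
    have : g ∈ stabilizer G z ⊓ stabilizer G w := heq ▸ ⟨hgx, hgy⟩
    exact hv g this.1 this.2
  · intro hv g hgz hgw
    have : g ∈ stabilizer G x ⊓ stabilizer G y := heq.symm ▸ ⟨hgz, hgw⟩
    exact hv g this.1 this.2

theorem line_through {l : Set Ω} (hl : IsLine (G := G) l) {x y : Ω} (hx : x ∈ l) (hy : y ∈ l) (hxy : x ≠ y) :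
    l = line G x y := by
  obtain ⟨p, q, hpq, rfl⟩ := hl
  exact (line_eq h hpq hx hy hxy).symm

/-- Five lines pass through each point. -/
theorem card_through (x : Ω) : (D.Through x).ncard = 5 := by
  classical
  haveI := Fintype.ofFinite Ω
  haveI : Fintype (Set Ω) := Fintype.ofFinite _
  set T : Finset (Set Ω) := Finset.univ.filter (fun l => l ∈ D.Through x) with hT
  have hTc : (D.Through x).ncard = T.card := by
    rw [← Set.ncard_coe_finset]
    congr 1
    ext l
    simp [hT]
  set U : Set Ω → Finset Ω := fun l => Finset.univ.filter fun y => y ∈ l ∧ y ≠ x with hU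
  have hmem : ∀ l ∈ T, IsLine (G := G) l ∧ x ∈ l := fun l hl => (Finset.mem_filter.1 hl).2
  have hUcard : ∀ l ∈ T, (U l).card = 3 := fun l hl => by
    obtain ⟨⟨p, q, hpq, rfl⟩, hxl⟩ := hmem l hl
    have e : ((U (line G p q) : Finset Ω) : Set Ω) = line G p q \ {x} := by ext y; simp [hU]
    rw [← Set.ncard_coe_finset, e, Set.ncard_sdiff (Set.singleton_subset_iff.2 hxl) (Set.toFinite _),
      line_card h hpq, Set.ncard_singleton]
  have hcover : T.biUnion U = Finset.univ.erase x := by
    ext y
    simp only [hU, Finset.mem_biUnion, Finset.mem_filter, Finset.mem_univ, true_and, Finset.mem_erase, and_true]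
    constructor
    · rintro ⟨l, -, -, hy⟩; exact hy
    · intro hy
      exact ⟨line G x y, by simpa [hT] using ⟨⟨x, y, Ne.symm hy, rfl⟩, (line_mem h x y).1⟩, (line_mem h x y).2, hy⟩
  have hsum := Finset.card_biUnion (s := T) (t := U) (fun l hl l' hl' hne => by
    rw [Function.onFun, Finset.disjoint_left]
    intro y hy hy'
    simp only [hU, Finset.mem_filter, Finset.mem_univ, true_and] at hy hy'
    exact hne ((line_through h (hmem l hl).1 (hmem l hl).2 hy.1 (Ne.symm hy.2)).trans
      (line_through h (hmem l' hl').1 (hmem l' hl').2 hy'.1 (Ne.symm hy.2)).symm))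
  rw [hcover, Finset.sum_congr rfl hUcard, Finset.sum_const, smul_eq_mul,
    Finset.card_erase_of_mem (Finset.mem_univ x), Finset.card_univ, ← Nat.card_eq_fintype_card, h.n16] at hsum
  rw [hTc]
  omega

/-- Through every point there is exactly one parallel to a line. -/
theorem par_unique {l : Set Ω} (hl : IsLine (G := G) l) (x : Ω) :
    ∃! m : Set Ω, m ∈ D.Through x ∧ D.Par m l := by
  classical
  by_cases hx : x ∈ l
  · refine ⟨l, ⟨⟨hl, hx⟩, Or.inl rfl⟩, fun m hm => ?_⟩
    rcases hm.2 with e | e
    · exact e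
    · exact absurd hx (Set.disjoint_left.1 e hm.1.2)
  obtain ⟨p, q, hpq, rfl⟩ := hl
  set J : Set (Set Ω) := (fun y => line G x y) '' line G p q with hJ
  have hne : ∀ y ∈ line G p q, x ≠ y := fun y hy e => hx (e ▸ hy)
  have hinj : Set.InjOn (fun y => line G x y) (line G p q) := by
    intro y hy y' hy' e
    have e' : line G x y = line G x y' := e
    by_contra hyy
    have h1 := line_eq h (hne y hy) (line_mem h x y).2 (show y' ∈ line G x y by rw [e']; exact (line_mem h x y').2) hyy
    have h2 := line_eq h hpq hy hy' hyy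
    exact hx (by rw [← h2, h1]; exact (line_mem h x y).1)
  have hJc : J.ncard = 4 := by rw [hJ, Set.ncard_image_of_injOn hinj, line_card h hpq]
  have hsub : J ⊆ D.Through x := by
    rintro _ ⟨y, hy, rfl⟩
    exact ⟨⟨x, y, hne y hy, rfl⟩, (line_mem h x y).1⟩
  have hd := Set.ncard_sdiff hsub (Set.toFinite _)
  rw [card_through h, hJc] at hd
  obtain ⟨m, hm⟩ := Set.ncard_eq_one.1 hd
  have hiff : ∀ k ∈ D.Through x, (D.Par k (line G p q) ↔ k ∉ J) := by
    intro k hk
    constructor
    · rintro (e | e) ⟨y, hy, rfl⟩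
      · exact hx (e ▸ (line_mem h x y).1)
      · exact Set.disjoint_left.1 e (line_mem h x y).2 hy
    · intro hkJ
      refine Or.inr (Set.disjoint_left.2 fun y hy hy' => hkJ ⟨y, hy', ?_⟩)
      exact (line_through h hk.1 hk.2 hy (hne y hy')).symm
  have hmm : m ∈ D.Through x \ J := hm.symm ▸ Set.mem_singleton m
  refine ⟨m, ⟨hmm.1, (hiff m hmm.1).2 hmm.2⟩, fun k hk => ?_⟩
  have : k ∈ D.Through x \ J := ⟨hk.1, (hiff k hk.1).1 hk.2⟩
  rwa [hm] at this

omit h in
theorem par_refl (l : Set Ω) : D.Par l l := Or.inl rfl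

omit h in
theorem par_symm {l m : Set Ω} (hlm : D.Par l m) : D.Par m l := hlm.imp Eq.symm fun e => e.symm

theorem par_trans {l m k : Set Ω} (hl : IsLine (G := G) l) (hm : IsLine (G := G) m) (hk : IsLine (G := G) k)
    (h1 : D.Par l m) (h2 : D.Par m k) : D.Par l k := by
  by_cases hd : Disjoint l k
  · exact Or.inr hd
  obtain ⟨x, hxl, hxk⟩ := Set.not_disjoint_iff.1 hd
  exact Or.inl ((par_unique h hm x).unique ⟨⟨hl, hxl⟩, h1⟩ ⟨⟨hk, hxk⟩, par_symm h2⟩)

omit h in
theorem isLine_image (g : G) {l : Set Ω} (hl : IsLine (G := G) l) : IsLine (G := G) ((fun z => g • z) '' l) := by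
  obtain ⟨x, y, hxy, rfl⟩ := hl
  exact ⟨g • x, g • y, fun e => hxy (smul_left_cancel g e), smul_line g x y⟩

omit h in
theorem image_image_mul (g k : G) (l : Set Ω) :
    (fun z => g • z) '' ((fun z => k • z) '' l) = (fun z => (g * k) • z) '' l := by
  rw [Set.image_image]; simp [mul_smul]

omit h in
theorem par_image (g : G) {l m : Set Ω} (hlm : D.Par l m) :
    D.Par ((fun z => g • z) '' l) ((fun z => g • z) '' m) :=
  hlm.imp (fun e => by rw [e]) fun e => Set.disjoint_image_of_injective (MulAction.injective g) e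

omit h in
theorem image_one (l : Set Ω) : (fun z => (1 : G) • z) '' l = l := by simp

/-- The elements mapping each line to a parallel one. -/
def dir : Subgroup G where
  carrier := {g | ∀ l, IsLine (G := G) l → D.Par l ((fun z => g • z) '' l)}
  one_mem' := fun l _ => by rw [image_one]; exact par_refl l
  mul_mem' := fun {g k} hg hk l hl => par_trans h hl (isLine_image k hl) (isLine_image _ hl) (hk l hl)
    (by rw [← image_image_mul]; exact hg _ (isLine_image k hl))
  inv_mem' := fun {g} hg l hl => par_symm (by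
    have := hg _ (isLine_image g⁻¹ hl)
    rwa [image_image_mul, mul_inv_cancel, image_one] at this)

theorem dir_normal : (dir h).Normal := ⟨fun k hk g l hl => by
  have h1 := par_image (D := D) g (hk _ (isLine_image g⁻¹ hl))
  rw [image_image_mul, image_image_mul, mul_inv_cancel, image_one, image_image_mul] at h1
  exact h1⟩

/-- Fixing a point, one moves each line to a parallel one exactly if one fixes every line through the point. -/
theorem dir_iff {g : G} (hg : g • D.a = D.a) :
    g ∈ dir h ↔ ∀ l ∈ D.Through D.a, (fun z => g • z) '' l = l := by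
  constructor
  · intro hk l hl
    rcases hk l hl.1 with e | e
    · exact e.symm
    · exact absurd ⟨D.a, hl.2, hg⟩ (Set.disjoint_left.1 e hl.2)
  · intro hk l hl
    obtain ⟨m, ⟨hm1, hm2⟩, -⟩ := par_unique h hl D.a
    have h1 := par_image (D := D) g hm2
    rw [hk m hm1] at h1
    exact par_trans h hl hm1.1 (isLine_image g hl) (par_symm hm2) h1

end Data

end Cfsg.Agent.TwoA4
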