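import Cfsg.Agent.Lib.Perm.TwoA4.OddCommon
import Cfsg.Agent.Lib.Perm.TwoA4.Arith
import Cfsg.Agent.S4481
import Cfsg.Agent.S4482

/-!
Odd degree, the four-group in the kernel: dihedral Sylow 2-subgroups of order eight and fifteen points.
-/

set_option autoImplicit false
set_option linter.style.haveILetI false
set_option linter.unusedSectionVars false

open Cfsg

namespace Cfsg.Agent.TwoA4

open MulAction Equiv Cfsg.Agent.TwoA5

/-- A subgroup with an element moving it onto its only other coset has half the order. -/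
theorem card_half {G : Type*} [Group G] [Finite G] {K L : Subgroup G} (hKL : K ≤ L) {g : G} (hg : g ∈ L)
    (hgK : g ∉ K) (h : ∀ y ∈ L, y ∈ K ∨ y * g ∈ K) : Nat.card L = 2 * Nat.card K := by
  have hidx : (K.subgroupOf L).index = 2 := by
    refine Subgroup.index_eq_two_iff.2 ⟨⟨g, hg⟩, fun y => ?_⟩
    rcases h y y.2 with h1 | h1
    · refine Or.inr ⟨h1, fun h2 => hgK ?_⟩
      have h2' : (y : G) * g ∈ K := h2
      have := mul_mem (inv_mem h1) h2'
      rwa [inv_mul_cancel_left] at this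
    · refine Or.inl ⟨h1, fun h2 => hgK ?_⟩
      have h2' : (y : G) ∈ K := h2
      have := mul_mem (inv_mem h2') h1
      rwa [inv_mul_cancel_left] at this
  have hm := (K.subgroupOf L).index_mul_card
  rw [hidx, Nat.card_congr (Subgroup.subgroupOfEquivOfLe hKL).toEquiv] at hm
  exact hm.symm

namespace Data

variable {G : Type*} [Group G] [Finite G] {Ω : Type*} [MulAction G Ω] [Finite Ω] [FaithfulSMul G Ω]
variable (D : Data G Ω)

/-- The kernel case: fifteen points. -/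
theorem dihedral_case (hn : Odd (Nat.card Ω)) (hσ : D.σ = tau0) (hm : D.m = 6) (hc6 : IsConj D.t D.g0)
    (hu : D.u = D.f) : Nat.card Ω = 15 := by
  classical
  haveI : Fact (Nat.Prime 2) := ⟨Nat.prime_two⟩
  have hfodd : Odd D.f := by
    rw [Nat.odd_iff, ← D.parity]
    exact Nat.odd_iff.1 hn
  have hF : Odd (Nat.card D.Ft) := D.card_Ft ▸ hfodd
  have hf2 := D.two_le_f
  have hf3 : 3 ≤ D.f := by
    rcases hfodd with ⟨r, hr⟩
    omega
  obtain ⟨hg0t, hg0s, hg0L⟩ := D.tau_g0 hσ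
  have hg0C : D.g0 ∈ D.C := hg0L.1
  have hg0s' : D.g0 * D.s = D.t * D.s * D.g0 := mul_inv_eq_iff_eq_mul.1 hg0s
  have hsts : D.s ≠ D.t * D.s := fun e => D.t_ne (right_eq_mul.1 e)
  have hg0V : D.g0 ∉ D.V := by
    intro h
    have hga : D.g0 • D.a = D.a := by
      rcases D.mem_V.1 h with e | e | e | e <;> rw [e]
      exacts [one_smul G _, D.φa t0, D.φa s0, by rw [mul_smul, show D.s • D.a = D.a from D.φa s0]; exact D.φa t0]
    exact D.ne (hga.symm.trans D.g0_a)
  have hVs : ∀ v ∈ D.V, v * D.s = D.s * v := by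
    intro v hv
    rcases D.mem_V.1 hv with e | e | e | e <;> subst e
    · rw [one_mul, mul_one]
    · exact D.ts_comm'
    · rfl
    · rw [mul_assoc, ← mul_assoc D.s, ← D.ts_comm', mul_assoc]
  -- the kernel
  set gC : D.C := ⟨D.g0, hg0C⟩
  set gb := D.twoC.toImg gC with hgb
  have hgb2 : gb * gb = 1 := by
    rw [hgb, ← map_mul]
    rw [show gC * gC = 1 from Subtype.ext D.g0_sq, map_one]
  have hgb1 : gb ≠ 1 := fun e => D.ne ((D.twoC.toImg_eq_one.1 e _ D.a_mem).symm.trans D.g0_a)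
  have hlift : ∀ y : D.C, D.twoC.toImg y = 1 → (y : G) ∈ D.V := fun y hy => by
    have h1 := D.twoC.toImg_eq_one.1 hy
    exact D.mem_V.2 (D.C_stab y.2 (h1 _ D.a_mem) (h1 _ D.b_mem))
  have hLC : D.L = D.C := by
    refine le_antisymm inf_le_left fun g hg => D.mem_L hg ?_
    have hsimg : D.twoC.toImg ⟨D.s, D.s_mem⟩ = 1 := D.twoC.toImg_eq_one.2 (D.s_fix_all hu)
    have h1 := hlift (⟨g, hg⟩ * ⟨D.s, D.s_mem⟩ * ⟨g, hg⟩⁻¹) (by
      rw [map_mul, map_mul, hsimg, map_inv, mul_one, mul_inv_cancel])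
    rcases D.mem_V.1 h1 with e | e | e | e
    · exact absurd (conj_eq_one_iff.1 (e : g * D.s * g⁻¹ = 1)) D.s_ne
    · exfalso
      have e' : g * D.s * g⁻¹ = D.t := e
      have e2 : D.s = D.t := by
        calc D.s = g⁻¹ * (g * D.s * g⁻¹) * g := by group
          _ = g⁻¹ * (D.t * g) := by rw [e', mul_assoc]
          _ = D.t := by rw [← Subgroup.mem_centralizer_singleton_iff.1 hg]; group
      exact t0_ne_s0 (D.inj e2.symm)
    · exact Or.inl e
    · exact Or.inr e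
  -- the fixed point of the transposition
  have hparx := fixIn_parity (F := (Set.univ : Set D.Ft)) (fun x _ => smul_smul_of_sq hgb2 x)
    fun _ _ => Set.mem_univ _
  rw [Set.ncard_univ, Nat.odd_iff.1 hF] at hparx
  obtain ⟨c, hc⟩ := Set.nonempty_of_ncard_ne_zero
    (show (fixIn (Set.univ : Set D.Ft) gb).ncard ≠ 0 by omega)
  have hcfix : gb • c = c := hc.2
  have huniq : ∀ v : D.twoC.img, v * v = 1 → v ≠ 1 → v • c = c → v = gb := fun v h1 h2 h3 =>
    sharp_unique D.twoC.img_two hF (D.img_sharp hu) h1 h2 hgb2 hgb1 h3 hcfix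
  have hfixc : ∀ z : D.Ft, gb • z = z → z = c := fun z hz => by
    by_contra hne
    exact hgb1 (D.img_sharp hu z c hne gb hz hcfix)
  -- `f ≡ 3 mod 4`
  have hf4 : ¬ 4 ∣ D.f - 1 := by
    intro h4
    have hXcard : Nat.card (stabilizer D.twoC.img c) = D.f - 1 := by
      have hstab : ∀ x y : D.Ft, x ≠ y → Nat.card ↥(stabilizer D.twoC.img x ⊓ stabilizer D.twoC.img y) = 1 := by
        intro x y hxy
        rw [Subgroup.card_eq_one, Subgroup.eq_bot_iff_forall]
        exact fun g hg => D.img_sharp hu x y hxy g hg.1 hg.2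
      obtain ⟨d, hd⟩ : ∃ d : D.Ft, c ≠ d := by
        by_cases e : c = ⟨D.a, D.a_mem⟩
        · exact ⟨⟨D.b, D.b_mem⟩, fun h => D.ne (congrArg Subtype.val (e.symm.trans h))⟩
        · exact ⟨_, e⟩
      have h := (twoOn_top D.twoC.img_two).card_stab (Set.mem_univ c) (Set.mem_univ d) hd
      rw [Set.ncard_univ, top_inf_eq, hstab c d hd, mul_one, D.card_Ft] at h
      exact h
    obtain ⟨Q, hQ⟩ := Sylow.exists_subgroup_card_pow_prime (G := stabilizer D.twoC.img c) 2 (n := 2)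
      (by rw [hXcard]; exact h4)
    have hord : ∀ q ∈ Q, (q : D.twoC.img) * q = 1 → (q : D.twoC.img) = 1 ∨ (q : D.twoC.img) = gb := fun q _ hq =>
      (em ((q : D.twoC.img) = 1)).imp_right fun h1 => huniq _ hq h1 q.2
    obtain ⟨q, hq, hqq⟩ : ∃ q ∈ Q, (q : D.twoC.img) * q ≠ 1 := by
      by_contra hno
      push Not at hno
      have hsub : Subtype.val '' (Q : Set (stabilizer D.twoC.img c)) ⊆ ({1, gb} : Set D.twoC.img) := by
        rintro _ ⟨q, hq, rfl⟩
        exact hord q hq (hno q hq)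
      have h1 := Set.ncard_le_ncard hsub (Set.toFinite _)
      rw [Set.ncard_image_of_injective _ Subtype.val_injective, Set.ncard_pair hgb1.symm, ← Nat.card_coe_set_eq,
        SetLike.coe_sort_coe, hQ] at h1
      norm_num at h1
    have hq4 : (q : D.twoC.img) * q * (q * q) = 1 := by
      have h1 := congrArg (fun z : Q => ((z : stabilizer D.twoC.img c) : D.twoC.img))
        (pow_card_eq_one' (x := (⟨q, hq⟩ : Q)))
      simp only [hQ] at h1
      simpa [pow_succ, mul_assoc] using h1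
    have hqg : (q : D.twoC.img) * q = gb := huniq _ hq4 hqq (by
      rw [mul_smul, show (q : D.twoC.img) • c = c from q.2, show (q : D.twoC.img) • c = c from q.2])
    obtain ⟨g, hg⟩ := D.twoC.toImg_surjective (q : D.twoC.img)
    have hv := hlift ((g * g) * gC⁻¹) (by rw [map_mul, map_mul, map_inv, hg, hqg, ← hgb, mul_inv_cancel])
    -- the square of `g` centralises `s`, hence so does `g₀`
    have hgs : (g : G) * g * D.s = D.s * (g * g) := by
      rw [← mul_inv_eq_iff_eq_mul]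
      have hgt : (g : G) * D.t = D.t * g := Subgroup.mem_centralizer_singleton_iff.1 g.2
      rcases D.L_conj (g := (g : G)) (hLC.symm ▸ g.2) with e | e
      · calc (g : G) * g * D.s * ((g : G) * g)⁻¹ = g * (g * D.s * (g : G)⁻¹) * (g : G)⁻¹ := by group
          _ = D.s := by rw [e, e]
      · calc (g : G) * g * D.s * ((g : G) * g)⁻¹ = g * (g * D.s * (g : G)⁻¹) * (g : G)⁻¹ := by group
          _ = g * (D.t * D.s) * (g : G)⁻¹ := by rw [e]
          _ = (g * D.t * (g : G)⁻¹) * (g * D.s * (g : G)⁻¹) := by group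
          _ = D.s := by rw [e, hgt, mul_inv_cancel_right, ← mul_assoc, D.t_sq, one_mul]
    have hv' : (g : G) * g * D.g0⁻¹ ∈ D.V := hv
    have hg0 : D.g0 * D.s = D.s * D.g0 := by
      set v := (g : G) * g * D.g0⁻¹
      have e : D.g0 = v⁻¹ * (g * g) := by simp [v, mul_assoc]
      rw [e]
      have h1 : Commute v⁻¹ D.s := (show Commute v D.s from hVs v hv').inv_left
      exact (h1.mul_left (show Commute ((g : G) * g) D.s from hgs) : Commute _ D.s)
    exact hsts (by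
      calc D.s = D.s * D.g0 * D.g0⁻¹ := by group
        _ = D.g0 * D.s * D.g0⁻¹ := by rw [hg0]
        _ = D.t * D.s := hg0s)
  -- the Sylow subgroup
  have hTeq := D.conj_class_count
  have h3T := D.six_count hm
  set T := {g : G | IsConj D.t g}.ncard
  have hTodd : T % 2 = 1 := by
    generalize (D.f : ℤ) * D.f = r at h3T
    omega
  obtain ⟨P, hP⟩ := ((IsPGroup.of_card (p := 2) (n := 1) (by
      rw [Nat.card_zpowers, pow_one]
      exact orderOf_eq_prime (by rw [pow_two, D.g0_sq]) fun e => hg0V (e ▸ one_mem _)) :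
        IsPGroup 2 (Subgroup.zpowers D.g0)).to_sup_of_normal_right'
      (IsPGroup.of_card (n := 2) (by rw [D.card_V]; norm_num) : IsPGroup 2 D.V)
      (Subgroup.zpowers_le.2 hg0L.2)).exists_le_sylow
  have hg0P : D.g0 ∈ (P : Subgroup G) := hP (Subgroup.mem_sup_left (Subgroup.mem_zpowers _))
  have hVP : D.V ≤ (P : Subgroup G) := le_sup_right.trans hP
  have hPcard : Nat.card (P : Subgroup G) = 8 := by
    obtain ⟨r, hr⟩ : ∃ r, D.f - 1 = 2 * r ∧ r % 2 = 1 := ⟨(D.f - 1) / 2, by rcases hfodd with ⟨v, hv⟩; omega⟩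
    rw [P.card_eq_multiplicity, ← hTeq, D.card_C, hr.1,
      show T * (D.f * (2 * r * 4)) = 2 ^ 3 * (T * D.f * r) by ring, Nat.factorization_mul (by norm_num) ?_,
      Finsupp.add_apply, Nat.Prime.factorization_pow Nat.prime_two, Finsupp.single_eq_same,
      Nat.factorization_eq_zero_of_not_dvd ?_]
    · norm_num
    · intro h
      rcases Nat.prime_two.dvd_mul.1 h with h | h
      · rcases Nat.prime_two.dvd_mul.1 h with h | h <;> omega
      · omega
    · exact Nat.mul_ne_zero (Nat.mul_ne_zero (by omega) (by omega)) (by omega)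
  set σ : G := D.s * D.g0 with hσdef
  have hsP : D.s ∈ (P : Subgroup G) := hVP (D.mem_V.2 (Or.inr (Or.inr (Or.inl rfl))))
  have hσP : σ ∈ (P : Subgroup G) := mul_mem hsP hg0P
  have hσ2 : σ ^ 2 = D.t := by
    rw [pow_two, hσdef]
    calc D.s * D.g0 * (D.s * D.g0) = D.s * (D.g0 * D.s) * D.g0 := by group
      _ = D.s * (D.t * D.s) * (D.g0 * D.g0) := by rw [hg0s']; group
      _ = D.t := by rw [D.ts_comm', D.g0_sq, mul_one, ← mul_assoc, D.s_sq, one_mul]
  have hσ4 : σ ^ 4 = 1 := by rw [show 4 = 2 * 2 from rfl, pow_mul, hσ2, pow_two, D.t_sq]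
  have hσo : orderOf σ = 4 := orderOf_eq_prime_pow (p := 2) (n := 1)
    (by rw [show 2 ^ 1 = 2 from rfl, hσ2]; exact D.t_ne) hσ4
  have hrel : D.g0 * σ * D.g0⁻¹ = σ⁻¹ := by
    refine (inv_eq_of_mul_eq_one_right ?_).symm
    rw [hσdef, D.g0_inv]
    calc D.s * D.g0 * (D.g0 * (D.s * D.g0) * D.g0) = D.s * (D.g0 * D.g0) * D.s * (D.g0 * D.g0) := by group
      _ = 1 := by rw [D.g0_sq, mul_one, mul_one, D.s_sq]
  have hst : σ * D.g0 = D.s := by rw [hσdef, mul_assoc, D.g0_sq, mul_one]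
  have hgen : Subgroup.closure ({σ, D.g0} : Set G) = (P : Subgroup G) := by
    set W := Subgroup.closure ({σ, D.g0} : Set G)
    have hle : W ≤ (P : Subgroup G) := by
      rw [Subgroup.closure_le]
      rintro x (rfl | rfl)
      exacts [hσP, hg0P]
    refine Subgroup.eq_of_le_of_card_ge hle ?_
    have hσW : σ ∈ W := Subgroup.subset_closure (Or.inl rfl)
    have hg0W : D.g0 ∈ W := Subgroup.subset_closure (Or.inr rfl)
    have hsub : ({1, D.t, D.s, D.t * D.s, D.g0} : Set G) ⊆ W := by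
      have ht : D.t ∈ W := hσ2 ▸ pow_mem hσW 2
      have hs : D.s ∈ W := hst ▸ mul_mem hσW hg0W
      rintro x (rfl | rfl | rfl | rfl | rfl)
      exacts [one_mem _, ht, hs, mul_mem ht hs, hg0W]
    have h5 : ({1, D.t, D.s, D.t * D.s, D.g0} : Set G).ncard = 5 := by
      rw [show ({1, D.t, D.s, D.t * D.s, D.g0} : Set G) = insert D.g0 {1, D.t, D.s, D.t * D.s} by
          ext x; simp only [Set.mem_insert_iff, Set.mem_singleton_iff]; tauto,
        Set.ncard_insert_of_notMem (by rw [← D.coe_V]; exact hg0V) (Set.toFinite _), D.card_four]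
    have h1 := Set.ncard_le_ncard hsub (Set.toFinite _)
    rw [h5, ← Nat.card_coe_set_eq, SetLike.coe_sort_coe] at h1
    have h2 := Subgroup.card_dvd_of_le hle
    rw [hPcard] at h2 ⊢
    have h3 := Nat.le_of_dvd (by norm_num) h2
    interval_cases h : Nat.card W <;> omega
  -- the character
  obtain ⟨M, hM⟩ := Char.exists_pModular (p := 2) Nat.prime_two
  have h4N : 4 ∣ 2 ^ (3 - 1) := ⟨1, rfl⟩
  haveI : NeZero (2 ^ (3 - 1)) := ⟨by norm_num⟩
  have hσ1 : σ ^ (2 ^ (3 - 1)) = 1 := by norm_num; exact hσ4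
  have hinj := Cfsg.Agent.Char.dihHom_injective h4N (by rw [hσo]; rfl) hσ1 D.g0_sq hrel
  have hrange : (Cfsg.Agent.Char.dihHom hσ1 D.g0_sq hrel).range = (P : Subgroup G) := by
    refine le_antisymm (Cfsg.Agent.Char.dihHom_range_le hσ1 D.g0_sq hrel hσP hg0P) ?_
    rw [← hgen, Subgroup.closure_le]
    rintro x (rfl | rfl)
    · exact ⟨DihedralGroup.r ((1 : ℕ) : ZMod (2 ^ (3 - 1))), by rw [Cfsg.Agent.Char.dihHom_r, pow_one]⟩
    · exact ⟨_, Cfsg.Agent.Char.dihHom_sr_zero hσ1 D.g0_sq hrel⟩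
  obtain ⟨-, χ₁, χ₂, χ₃, χ', δ₁, δ₂, δ₃, hδ₁, -, -, -, hne1, -, -, -, -, -, -, hB, hvals, -⟩ :=
    Cfsg.Agent.S4481.result M hM 3 le_rfl P
      ⟨((MonoidHom.ofInjective hinj).trans (MulEquiv.subgroupCongr hrange)).symm⟩ σ hσP (by rw [hσo]; rfl)
      Complex.I (by norm_num; exact Complex.isPrimitiveRoot_I)
  have hχB : χ₁ ∈ Cfsg.principalBlock M G := by rw [hB]; exact Or.inr (Or.inl rfl)
  have htconj : IsConj (σ ^ (2 ^ (3 - 2))) D.g0 ∧ IsConj (σ ^ (2 ^ (3 - 2))) (σ * D.g0) := by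
    rw [show 2 ^ (3 - 2) = 2 from rfl, hσ2, hst]
    exact ⟨hc6, D.conj_of_invol s0_sq s0_ne⟩
  obtain ⟨hx, heq⟩ := Cfsg.Agent.S4482.result M hM 3 le_rfl P σ D.g0 hσP hg0P (by rw [hσo]; rfl)
    (orderOf_eq_prime (by rw [pow_two, D.g0_sq]) fun e => hg0V (e ▸ one_mem _)) hrel hgen htconj χ₁ hχB hne1 δ₁ hδ₁
    fun l hl hl' => (hvals l hl hl').1
  rw [show σ ^ (2 ^ (3 - 2)) = D.t by norm_num; exact hσ2, hst] at heq
  -- the joint centralisers
  have hpair : ∀ x y : G, y ∈ Subgroup.centralizer ({D.t, x} : Set G) ↔ y ∈ D.C ∧ y * x = x * y := by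
    intro x y
    rw [Subgroup.mem_centralizer_iff]
    constructor
    · exact fun h => ⟨Subgroup.mem_centralizer_singleton_iff.2 (h _ (Or.inl rfl)).symm, (h _ (Or.inr rfl)).symm⟩
    · rintro ⟨h1, h2⟩ z (rfl | rfl)
      exacts [(Subgroup.mem_centralizer_singleton_iff.1 h1).symm, h2.symm]
  have hCs : Nat.card D.L = 2 * Nat.card ↥(Subgroup.centralizer ({D.t, D.s} : Set G)) := by
    refine card_half (fun y hy => ?_) hg0L (fun h => ?_) fun y hy => ?_
    · obtain ⟨h1, h2⟩ := (hpair _ y).1 hy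
      exact D.mem_L h1 (Or.inl (by rw [h2, mul_inv_cancel_right]))
    · exact hsts ((mul_inv_eq_iff_eq_mul.2 ((hpair _ _).1 h).2).symm.trans hg0s)
    · rcases D.L_conj hy with e | e
      · exact Or.inl ((hpair _ y).2 ⟨hy.1, mul_inv_eq_iff_eq_mul.1 e⟩)
      · refine Or.inr ((hpair _ _).2 ⟨mul_mem hy.1 hg0C, mul_inv_eq_iff_eq_mul.1 ?_⟩)
        calc y * D.g0 * D.s * (y * D.g0)⁻¹ = y * (D.g0 * D.s * D.g0⁻¹) * y⁻¹ := by group
          _ = y * (D.t * D.s) * y⁻¹ := by rw [hg0s]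
          _ = (y * D.t * y⁻¹) * (y * D.s * y⁻¹) := by group
          _ = D.s := by
            rw [e, Subgroup.mem_centralizer_singleton_iff.1 hy.1, mul_inv_cancel_right, ← mul_assoc, D.t_sq,
              one_mul]
  have hca : (c : Ω) ∈ D.Ft := c.2
  have hYcard : Nat.card ↥(D.C ⊓ stabilizer G (c : Ω)) = (D.f - 1) * 4 := by
    obtain ⟨d, hd, hcd⟩ : ∃ d ∈ D.Ft, (c : Ω) ≠ d := by
      by_cases e : (c : Ω) = D.a
      · exact ⟨D.b, D.b_mem, e ▸ D.ne⟩
      · exact ⟨D.a, D.a_mem, e⟩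
    have h := D.twoC.card_eq hca hd hcd
    rw [D.card_C] at h
    exact (Nat.eq_of_mul_eq_mul_left (by omega) h).symm
  have hCg : Nat.card ↥(D.C ⊓ stabilizer G (c : Ω)) =
      2 * Nat.card ↥(Subgroup.centralizer ({D.t, D.g0} : Set G)) := by
    have hsc : D.s • (c : Ω) = c := D.s_fix_all hu _ hca
    have hsg : D.s * D.g0 * D.s⁻¹ = D.t * D.g0 := by
      rw [inv_eq_of_mul_eq_one_right D.s_sq]
      calc D.s * D.g0 * D.s = D.s * (D.g0 * D.s) := mul_assoc _ _ _
        _ = (D.s * D.t) * D.s * D.g0 := by rw [hg0s']; group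
        _ = D.t * D.g0 := by rw [← D.ts_comm', mul_assoc D.t, D.s_sq, mul_one]
    refine card_half (fun y hy => ?_) (g := D.s) ⟨D.s_mem, hsc⟩ (fun h => ?_) fun y hy => ?_
    · obtain ⟨h1, h2⟩ := (hpair _ y).1 hy
      refine ⟨h1, ?_⟩
      have := hfixc (D.twoC.toImg ⟨y, h1⟩ • c) (by
        rw [smul_smul, hgb, ← map_mul, show gC * (⟨y, h1⟩ : D.C) = ⟨y, h1⟩ * gC from Subtype.ext h2.symm, map_mul,
          mul_smul, ← hgb, hcfix])
      exact congrArg Subtype.val this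
    · have := ((hpair _ _).1 h).2
      rw [mul_inv_eq_iff_eq_mul.1 hsg, mul_assoc] at this
      refine hsts ?_
      calc D.s = D.g0 * (D.g0 * D.s) := by rw [← mul_assoc, D.g0_sq, one_mul]
        _ = D.g0 * (D.t * (D.g0 * D.s)) := by rw [this]
        _ = (D.g0 * D.t * D.g0⁻¹) * D.s := by rw [D.g0_inv]; group
        _ = D.t * D.s := by rw [hg0t]
    · -- conjugates of `g₀` in its coset of the kernel are `g₀` and `t g₀`
      set y' : D.C := ⟨y, hy.1⟩
      have hyc : D.twoC.toImg y' • c = c := Subtype.ext hy.2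
      have hconj1 := huniq (D.twoC.toImg y' * gb * (D.twoC.toImg y')⁻¹)
        (by rw [show D.twoC.toImg y' * gb * (D.twoC.toImg y')⁻¹ * (D.twoC.toImg y' * gb * (D.twoC.toImg y')⁻¹) =
          D.twoC.toImg y' * (gb * gb) * (D.twoC.toImg y')⁻¹ by group, hgb2]; group)
        (fun e => hgb1 (conj_eq_one_iff.1 e))
        (by rw [mul_smul, mul_smul, inv_smul_eq_iff.2 hyc.symm, hcfix, hyc])
      have hv := hlift (y' * gC * y'⁻¹ * gC⁻¹) (by
        rw [map_mul, map_mul, map_mul, map_inv, map_inv, ← hgb, hconj1, mul_inv_cancel])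
      have hv' : y * D.g0 * y⁻¹ * D.g0⁻¹ ∈ D.V := hv
      set v := y * D.g0 * y⁻¹ * D.g0⁻¹ with hvdef
      have hvg : y * D.g0 * y⁻¹ = v * D.g0 := by simp [hvdef, mul_assoc]
      have hsq : v * D.g0 * (v * D.g0) = 1 := by
        rw [← hvg, show y * D.g0 * y⁻¹ * (y * D.g0 * y⁻¹) = y * (D.g0 * D.g0) * y⁻¹ by group, D.g0_sq]
        group
      have hcase : v = 1 ∨ v = D.t := by
        rcases D.mem_V.1 hv' with e | e | e | e
        · exact Or.inl e
        · exact Or.inr e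
        · exfalso
          rw [e, show D.s * D.g0 * (D.s * D.g0) = σ ^ 2 by rw [pow_two], hσ2] at hsq
          exact D.t_ne hsq
        · exfalso
          rw [e] at hsq
          apply D.t_ne
          rw [show D.t * D.s * D.g0 = D.g0 * D.s from hg0s'.symm] at hsq
          calc D.t = D.g0⁻¹ * (D.t * D.g0) := by
                rw [← Subgroup.mem_centralizer_singleton_iff.1 hg0C]; group
            _ = D.g0⁻¹ * (σ ^ 2 * D.g0) := by rw [hσ2]
            _ = D.g0⁻¹ * D.s * (D.g0 * D.s * D.g0 * D.g0) := by rw [hσdef, pow_two]; group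
            _ = D.g0 * D.s * (D.g0 * D.s) * (D.g0 * D.g0) := by rw [D.g0_inv]; group
            _ = 1 := by rw [hsq, D.g0_sq, mul_one]
      rcases hcase with e | e
      · rw [e, one_mul] at hvg
        exact Or.inl ((hpair _ y).2 ⟨hy.1, mul_inv_eq_iff_eq_mul.1 hvg⟩)
      · rw [e] at hvg
        refine Or.inr ((hpair _ _).2 ⟨mul_mem hy.1 D.s_mem, mul_inv_eq_iff_eq_mul.1 ?_⟩)
        calc y * D.s * D.g0 * (y * D.s)⁻¹ = y * (D.s * D.g0 * D.s⁻¹) * y⁻¹ := by group
          _ = (y * D.t * y⁻¹) * (y * D.g0 * y⁻¹) := by rw [hsg]; group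
          _ = D.g0 := by
            rw [hvg, Subgroup.mem_centralizer_singleton_iff.1 hy.1, mul_inv_cancel_right, ← mul_assoc, D.t_sq,
              one_mul]
  rw [D.card_L, hu] at hCs
  rw [hYcard] at hCg
  have e1 : Nat.card ↥(Subgroup.centralizer ({D.t, D.s} : Set G)) = D.f * ((D.f - 1) * 2) :=
    Nat.eq_of_mul_eq_mul_left two_pos (by rw [← hCs]; ring)
  have e2 : Nat.card ↥(Subgroup.centralizer ({D.t, D.g0} : Set G)) = (D.f - 1) * 2 :=
    Nat.eq_of_mul_eq_mul_left two_pos (by rw [← hCg]; ring)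
  have hC' : Nat.card (Subgroup.centralizer ({D.t} : Set G)) = D.f * ((D.f - 1) * 4) := D.card_C
  rw [e1, e2, hC', ← hTeq, D.card_C] at heq
  set x := Cfsg.charDegree (χ₁ : G → ℂ)
  have hx1 : (1 : ℤ) ≤ x := by
    have : 0 < x := by
      show 0 < Cfsg.charDegree (χ₁ : G → ℂ)
      rw [Char.charDegree_eq_deg]; exact Char.deg_pos χ₁.2
    exact_mod_cast this
  have hTq : (T : ℚ) = 3 * (4 * ((D.f : ℚ) * D.f) - 1) := by exact_mod_cast h3T
  obtain ⟨r, hr⟩ : ∃ r : ℕ, D.f = r + 1 := ⟨D.f - 1, by omega⟩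
  rw [hr, Nat.add_sub_cancel] at heq
  rw [hr] at hTq
  push_cast at heq hTq
  have hr0 : (r : ℚ) ≠ 0 := Nat.cast_ne_zero.2 (by omega)
  have hr1 : (r : ℚ) + 1 ≠ 0 := by positivity
  have key : 3 * (4 * ((D.f : ℚ) * D.f) - 1) * (((x : ℚ) - δ₁) * ((x : ℚ) - δ₁)) =
      8 * (((D.f : ℚ) + 1) * (D.f + 1)) * ((x : ℚ) * ((x : ℚ) + δ₁)) := by
    rw [hr]
    push_cast
    have e : (T : ℚ) * ((x : ℚ) - δ₁) ^ 2 = 8 * ((r : ℚ) + 1 + 1) ^ 2 * ((x : ℚ) * ((x : ℚ) + δ₁)) := by
      refine mul_left_cancel₀ (mul_ne_zero hr1 (mul_ne_zero hr0 (show (4 : ℚ) ≠ 0 by norm_num))) ?_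
      calc ((r : ℚ) + 1) * ((r : ℚ) * 4) * ((T : ℚ) * ((x : ℚ) - δ₁) ^ 2)
          = (T : ℚ) * (((r : ℚ) + 1) * ((r : ℚ) * 4)) * ((x : ℚ) - δ₁) ^ 2 := by ring
        _ = _ := heq
        _ = _ := by field_simp; ring
    linear_combination e - (((x : ℚ) - δ₁) * ((x : ℚ) - δ₁)) * hTq
  have keyZ : 3 * (4 * ((D.f : ℤ) * D.f) - 1) * (((x : ℤ) - δ₁) * ((x : ℤ) - δ₁)) =
      8 * (((D.f : ℤ) + 1) * (D.f + 1)) * ((x : ℤ) * ((x : ℤ) + δ₁)) := by exact_mod_cast key
  have hf := case_dih (by exact_mod_cast hf3) (by exact_mod_cast hfodd) hx1 hδ₁ hx keyZ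
  have hcn := D.card_n
  rw [hm, hf] at hcn
  omega

end Data

end Cfsg.Agent.TwoA4
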