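import Cfsg.Agent.Lib.Perm.TwoA4.OddCommon

/-!
Odd degree, six swapping conjugates: the four-group fixes every fixed point of an involution.
-/

set_option autoImplicit false
set_option linter.style.haveILetI false
set_option linter.unusedSectionVars false

open Cfsg

namespace Cfsg.Agent.TwoA4

open MulAction Equiv Cfsg.Agent.TwoA5

/-- A group of order twice an odd number has a subgroup of all elements of odd order. -/
theorem exists_odd_half {Y : Type*} [Group Y] [Finite Y] {m : ℕ} (hm : Odd m) (hY : Nat.card Y = 2 * m) :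
    ∃ K : Subgroup Y, Nat.card K = m ∧ ∀ y : Y, y ∈ K ↔ Odd (orderOf y) := by
  classical
  haveI : Fact (Nat.Prime 2) := ⟨Nat.prime_two⟩
  obtain ⟨P⟩ : Nonempty (Sylow 2 Y) := inferInstance
  have hP : Nat.card (P : Subgroup Y) = 2 := by
    rw [P.card_eq_multiplicity, hY, Nat.factorization_mul (by norm_num) hm.pos.ne', Finsupp.add_apply,
      Nat.Prime.factorization_self Nat.prime_two,
      Nat.factorization_eq_zero_of_not_dvd (fun h => (Nat.not_even_iff_odd.2 hm) (even_iff_two_dvd.2 h))]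
    rfl
  haveI : IsCyclic (P : Subgroup Y) := isCyclic_of_prime_card hP
  have hle := IsCyclic.normalizer_le_centralizer ((Nat.minFac_eq_two_iff _).2 (hY ▸ dvd_mul_right _ _))
    (inferInstance : IsCyclic (P : Subgroup Y))
  have hc := (MonoidHom.ker_transferSylow_isComplement' P hle).card_mul
  set K := (MonoidHom.transferSylow P hle).ker
  rw [hP, hY] at hc
  have hK : Nat.card K = m := by omega
  refine ⟨K, hK, fun y => ⟨fun hy => ?_, fun hy => ?_⟩⟩
  · have h := orderOf_dvd_natCard (⟨y, hy⟩ : K)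
    rw [← Subgroup.orderOf_coe, hK] at h
    exact hm.of_dvd_nat h
  · have h1 : orderOf (MonoidHom.transferSylow P hle y) ∣ orderOf y := orderOf_map_dvd _ y
    have h2 : orderOf (MonoidHom.transferSylow P hle y) ∣ 2 :=
      (orderOf_dvd_natCard (MonoidHom.transferSylow P hle y)).trans (dvd_of_eq hP)
    have h3 := Nat.dvd_gcd h1 h2
    rw [(Nat.coprime_two_right.2 hy : Nat.Coprime (orderOf y) 2)] at h3
    exact MonoidHom.mem_ker.2 (orderOf_eq_one_iff.1 (Nat.dvd_one.1 h3))

namespace Data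

variable {G : Type*} [Group G] [Finite G] {Ω : Type*} [MulAction G Ω] [Finite Ω] [FaithfulSMul G Ω]
variable (D : Data G Ω)

/-- The case in which the four-group is not the kernel is impossible. -/
theorem square_case (hn : Odd (Nat.card Ω)) (hσ : D.σ = tau0) (hm : D.m = 6) (hlt : D.u < D.f) : False := by
  classical
  haveI : Fact (Nat.Prime 2) := ⟨Nat.prime_two⟩
  have hF : Odd (Nat.card D.Ft) := by
    rw [D.card_Ft, Nat.odd_iff, ← D.parity]
    exact Nat.odd_iff.1 hn
  have hfodd : Odd D.f := D.card_Ft ▸ hF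
  obtain ⟨hfu, p, Ei, hp, hEi, hEic, hEip, hEit, hEis, hEicard, -⟩ := (D.pair2 hlt).odd_structure hF
  rw [D.card_Ft, D.nfix_sbar] at hfu
  rw [D.card_Ft] at hEicard
  haveI := hEi
  haveI := hEit
  haveI : Fact p.Prime := ⟨hp⟩
  obtain ⟨k, hk⟩ := IsPGroup.iff_card.1 (show IsPGroup p Ei from fun x => ⟨1, Subtype.ext (by
    show (x : D.twoC.img) ^ p ^ 1 = 1
    rw [pow_one]; exact hEip x x.2)⟩)
  rw [hEicard] at hk
  have hu2 := D.two_le_u
  have hk0 : k ≠ 0 := by
    rintro rfl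
    rw [pow_zero] at hk
    have := D.two_le_f
    omega
  have hp2 : p ≠ 2 := by
    rintro rfl
    exact (Nat.not_even_iff_odd.2 hfodd) (hk ▸ (Nat.even_pow.2 ⟨even_two, hk0⟩))
  have hpodd : Odd p := hp.odd_of_ne_two hp2
  -- the lifted elementary abelian group
  set tC : D.C := ⟨D.t, D.t_mem⟩
  have htker : D.twoC.toImg tC = 1 := D.twoC.toImg_eq_one.2 fun z hz => hz.2
  have htC : ∀ x : D.C, x * tC = tC * x := fun x =>
    Subtype.ext (Subgroup.mem_centralizer_singleton_iff.1 x.2)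
  have hker : ∀ x : D.C, D.twoC.toImg x = 1 → x = 1 ∨ x = tC := by
    intro x hx
    have h1 := D.twoC.toImg_eq_one.1 hx
    rcases D.C_stab x.2 (h1 _ D.a_mem) (h1 _ D.b_mem) with e | e | e | e
    · exact Or.inl (Subtype.ext e)
    · exact Or.inr (Subtype.ext e)
    · exfalso
      refine (D.pair2 hlt).s_ne ?_
      show D.twoC.toImg ⟨D.s, D.s_mem⟩ = 1
      rwa [show (⟨D.s, D.s_mem⟩ : D.C) = x from Subtype.ext e.symm]
    · exfalso
      refine (D.pair2 hlt).s_ne ?_
      show D.twoC.toImg ⟨D.s, D.s_mem⟩ = 1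
      have : x = tC * ⟨D.s, D.s_mem⟩ := Subtype.ext e
      rw [this, map_mul, htker, one_mul] at hx
      exact hx
  have htt : tC * tC = 1 := Subtype.ext D.t_sq
  set Et : Subgroup D.C := Ei.comap D.twoC.toImg with hEt
  have hEtp : ∀ x ∈ Et, x ^ p = 1 ∨ x ^ p = tC := fun x hx => hker _ (by rw [map_pow]; exact hEip _ hx)
  have hEtc : ∀ x ∈ Et, ∀ y ∈ Et, x * y = y * x := by
    intro x hx y hy
    have h1 : D.twoC.toImg (x * y * x⁻¹ * y⁻¹) = 1 := by
      rw [map_mul, map_mul, map_mul, map_inv, map_inv, hEic _ hx _ hy]; group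
    rcases hker _ h1 with e | e
    · calc x * y = x * y * x⁻¹ * y⁻¹ * (y * x) := by group
        _ = y * x := by rw [e, one_mul]
    · -- `x` commutes with `y` up to `t`, so both `x²` and `xᵖ` commute with it
      have hxy : x * y * x⁻¹ = tC * y := by
        rw [show x * y * x⁻¹ = x * y * x⁻¹ * y⁻¹ * y by group, e]
      have h2 : Commute (x * x) y := by
        show x * x * y = y * (x * x)
        rw [← mul_inv_eq_iff_eq_mul]
        calc x * x * y * (x * x)⁻¹ = x * (x * y * x⁻¹) * x⁻¹ := by group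
          _ = (x * tC) * y * x⁻¹ := by rw [hxy]; group
          _ = tC * (x * y * x⁻¹) := by rw [htC]; group
          _ = y := by rw [hxy, ← mul_assoc, htt, one_mul]
      have h3 : Commute (x ^ p) y := by
        rcases hEtp x hx with e' | e' <;> rw [e']
        · exact Commute.one_left y
        · exact (htC y).symm
      obtain ⟨r, hr⟩ := hpodd
      have h4 : Commute (x ^ p * ((x * x) ^ r)⁻¹) y := h3.mul_left ((h2.pow_left r).inv_left)
      rw [show x ^ p * ((x * x) ^ r)⁻¹ = x by rw [hr, pow_succ', ← pow_two, ← pow_mul]; group] at h4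
      exact h4
  let E' : Subgroup D.C :=
    { carrier := {x | x ∈ Et ∧ x ^ p = 1}
      one_mem' := ⟨one_mem _, one_pow _⟩
      mul_mem' := fun {x y} hx hy => ⟨mul_mem hx.1 hy.1, by
        rw [(show Commute x y from hEtc x hx.1 y hy.1).mul_pow, hx.2, hy.2, one_mul]⟩
      inv_mem' := fun {x} hx => ⟨inv_mem hx.1, by rw [inv_pow, hx.2, inv_one]⟩ }
  have hsplit : ∀ x ∈ Et, x ∈ E' ∨ x * tC ∈ E' := by
    intro x hx
    rcases hEtp x hx with e | e
    · exact Or.inl ⟨hx, e⟩
    · refine Or.inr ⟨mul_mem hx (by show D.twoC.toImg tC ∈ Ei; rw [htker]; exact one_mem _), ?_⟩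
      obtain ⟨r, hr⟩ := hpodd
      rw [(show Commute x tC from htC x).mul_pow, e, hr, pow_succ, pow_mul, pow_two, htt, one_pow, one_mul, htt]
  have htE : tC ∉ E' := by
    rintro ⟨-, h⟩
    obtain ⟨r, hr⟩ := hpodd
    rw [hr, pow_succ, pow_mul, pow_two, htt, one_pow, one_mul] at h
    exact D.t_ne (congrArg Subtype.val h)
  have hEcard' : Nat.card E' = D.f := by
    rw [← hEicard]
    refine Nat.card_eq_of_bijective (fun x : E' => (⟨D.twoC.toImg x, x.2.1⟩ : Ei)) ⟨fun x y e => ?_, fun z => ?_⟩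
    · have h1 : D.twoC.toImg ((x : D.C) * (y : D.C)⁻¹) = 1 := by
        rw [map_mul, map_inv, show D.twoC.toImg (x : D.C) = D.twoC.toImg (y : D.C) from congrArg Subtype.val e,
          mul_inv_cancel]
      rcases hker _ h1 with e' | e'
      · exact Subtype.ext (mul_inv_eq_one.1 e')
      · exact absurd (e' ▸ mul_mem x.2 (inv_mem y.2)) htE
    · obtain ⟨x, hx⟩ := D.twoC.toImg_surjective z
      have hxm : x ∈ Et := by show D.twoC.toImg x ∈ Ei; rw [hx]; exact z.2
      rcases hsplit x hxm with h | h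
      · exact ⟨⟨x, h⟩, Subtype.ext hx⟩
      · exact ⟨⟨_, h⟩, Subtype.ext (by show D.twoC.toImg (x * tC) = z; rw [map_mul, htker, mul_one, hx])⟩
  haveI hE'n : E'.Normal := ⟨fun x hx g => ⟨by
    show D.twoC.toImg (g * x * g⁻¹) ∈ Ei
    rw [map_mul, map_mul, map_inv]
    exact hEi.conj_mem _ hx.1 _, by rw [conj_pow, hx.2]; group⟩⟩
  set E : Subgroup G := E'.map D.C.subtype with hE
  have hEcard : Nat.card E = D.f := by
    rw [hE, Subgroup.card_map_of_injective (Subgroup.subtype_injective _), hEcard']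
  have hEC : E ≤ D.C := by rintro _ ⟨x, -, rfl⟩; exact x.2
  have hEexp : ∀ x ∈ E, x ^ p = 1 := by rintro _ ⟨x, hx, rfl⟩; exact congrArg Subtype.val hx.2
  have htE2 : D.t ∉ E := by
    rintro ⟨x, hx, e⟩
    exact htE ((Subtype.ext e : x = tC) ▸ hx)
  have hEcomm : ∀ x ∈ E, ∀ y ∈ E, x * y = y * x := by
    rintro _ ⟨x, hx, rfl⟩ _ ⟨y, hy, rfl⟩
    exact congrArg Subtype.val (hEtc x hx.1 y hy.1)
  -- regular on the fixed points of `t`
  have hEtr : ∀ x ∈ D.Ft, ∀ y ∈ D.Ft, ∃ e ∈ E, e • x = y := by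
    intro x hx y hy
    obtain ⟨z, hz⟩ := exists_smul_eq Ei (⟨x, hx⟩ : D.Ft) ⟨y, hy⟩
    obtain ⟨g, hg⟩ := D.twoC.toImg_surjective (z : D.twoC.img)
    have hgm : g ∈ Et := by show D.twoC.toImg g ∈ Ei; rw [hg]; exact z.2
    have hzv : (g : G) • x = y := by
      have := congrArg Subtype.val hz
      rw [Subgroup.smul_def, ← hg, D.twoC.toImg_smul] at this
      exact this
    rcases hsplit g hgm with h | h
    · exact ⟨g, ⟨g, h, rfl⟩, hzv⟩
    · refine ⟨(g : G) * D.t, ⟨_, h, rfl⟩, ?_⟩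
      rw [mul_smul, hx.2, hzv]
  have hEreg : ∀ e ∈ E, ∀ x ∈ D.Ft, e • x = x → e = 1 := by
    rintro _ ⟨e, he, rfl⟩ x hx hfix
    have h1 := hEis (⟨x, hx⟩ : D.Ft) _ he.1 (Subtype.ext hfix)
    rcases hker e h1 with e' | e'
    · rw [e']; rfl
    · exact absurd (e' ▸ he) htE
  have hEconj : ∀ g ∈ D.C, ∀ x ∈ E, g * x * g⁻¹ ∈ E := by
    rintro g hg _ ⟨x, hx, rfl⟩
    exact ⟨(⟨g, hg⟩ : D.C) * x * ⟨g, hg⟩⁻¹, hE'n.conj_mem x hx _, rfl⟩
  -- elements of prime power order in the centraliser of `t`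
  have hCp : ∀ y ∈ D.C, y ^ p = 1 → y ∈ E := by
    intro y hy hyp
    set y' : D.C := ⟨y, hy⟩
    have hmem := Subgroup.pow_index_mem E' y'
    have hidx : E'.index = (D.f - 1) * 4 := by
      have h := E'.index_mul_card
      rw [hEcard', D.card_C] at h
      exact Nat.eq_of_mul_eq_mul_right (by have := D.two_le_f; omega) (h.trans (mul_comm _ _))
    have hcop : Nat.Coprime p E'.index := by
      rw [hidx, hp.coprime_iff_not_dvd]
      intro h
      rcases hp.dvd_mul.1 h with h | h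
      · have h1 : p ∣ D.f := hk ▸ dvd_pow_self p hk0
        have := Nat.dvd_sub h1 h
        rw [show D.f - (D.f - 1) = 1 by have := D.two_le_f; omega, Nat.dvd_one] at this
        exact hp.ne_one this
      · exact hp2 ((Nat.prime_dvd_prime_iff_eq hp Nat.prime_two).1 (hp.dvd_of_dvd_pow (show p ∣ 2 ^ 2 from h)))
    have hyp' : y' ^ p = 1 := Subtype.ext hyp
    have h1 : y' ^ (Nat.gcd p E'.index) ∈ E' := by
      rw [← zpow_natCast, Nat.gcd_eq_gcd_ab, zpow_add, zpow_mul, zpow_mul, zpow_natCast, zpow_natCast, hyp',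
        one_zpow, one_mul]
      exact zpow_mem hmem _
    rw [hcop, pow_one] at h1
    exact ⟨y', h1, rfl⟩
  -- a nontrivial element of `E` centralises little in the centraliser of `t`
  have hcent : ∀ y ∈ D.C, ∀ e ∈ E, e ≠ 1 → y * e = e * y → Odd (orderOf y) → y ∈ E := by
    intro y hy e he he1 hye hyo
    set K' := D.C ⊓ Subgroup.centralizer ({e} : Set G)
    have hEK : E ≤ K' := fun x hx =>
      ⟨hEC hx, Subgroup.mem_centralizer_singleton_iff.2 (hEcomm x hx e he)⟩
    have hcard := card_orb K' D.Ft (b := D.a) (fun g hg => D.C_inv g hg.1 _ D.a_mem) fun x hx => by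
      obtain ⟨r, hr, hrx⟩ := hEtr _ D.a_mem x hx
      exact ⟨r, hEK hr, hrx⟩
    have hea : D.a ≠ e • D.a := fun h => he1 (hEreg e he _ D.a_mem h.symm)
    have hea' : e • D.a ∈ D.Ft := D.C_inv e (hEC he) _ D.a_mem
    have h4 : Nat.card ↥(D.C ⊓ stabilizer G D.a ⊓ stabilizer G (e • D.a)) = 4 := by
      have h := D.twoC.card_stab D.a_mem hea' hea
      rw [D.card_C_stab] at h
      exact (Nat.eq_of_mul_eq_mul_left (by have := D.two_le_f; omega) h).symm
    have hle : Nat.card ↥(K' ⊓ stabilizer G D.a) ∣ 4 := by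
      rw [← h4]
      refine Subgroup.card_dvd_of_le fun g hg => ⟨⟨hg.1.1, hg.2⟩, ?_⟩
      show g • e • D.a = e • D.a
      rw [smul_smul, Subgroup.mem_centralizer_singleton_iff.1 hg.1.2, mul_smul, show g • D.a = D.a from hg.2]
    have hy' : orderOf y ∣ Nat.card K' := by
      have := orderOf_dvd_natCard (⟨y, hy, Subgroup.mem_centralizer_singleton_iff.2 hye⟩ : K')
      rwa [← Subgroup.orderOf_coe] at this
    have h4f : orderOf y ∣ D.f := by
      have h5 : orderOf y ∣ D.f * 4 := hy'.trans (hcard ▸ mul_dvd_mul_left _ hle)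
      exact ((Nat.coprime_two_right.2 hyo).pow_right 2 : Nat.Coprime (orderOf y) 4).dvd_of_dvd_mul_right h5
    rw [hk] at h4f
    -- a power equal to one puts it into the group by induction
    have hind : ∀ j : ℕ, ∀ z ∈ D.C, z * e = e * z → z ^ p ^ j = 1 → z ∈ E := by
      intro j
      induction j with
      | zero => intro z _ _ hz; rw [pow_zero, pow_one] at hz; rw [hz]; exact one_mem _
      | succ j ih =>
        intro z hz hze hzp
        have hzp' : z ^ p ∈ E := ih (z ^ p) (pow_mem hz p) ((show Commute z e from hze).pow_left p).eq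
          (by rw [← pow_mul, ← pow_succ']; exact hzp)
        set z' : D.C := ⟨z, hz⟩
        have hmem := Subgroup.pow_index_mem E' z'
        have hzpm : z' ^ p ∈ E' := by
          obtain ⟨w, hw, he'⟩ := hzp'
          exact (Subtype.ext he' : w = z' ^ p) ▸ hw
        have hidx : E'.index = (D.f - 1) * 4 := by
          have h := E'.index_mul_card
          rw [hEcard', D.card_C] at h
          exact Nat.eq_of_mul_eq_mul_right (by have := D.two_le_f; omega) (h.trans (mul_comm _ _))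
        have hcop : Nat.Coprime p E'.index := by
          rw [hidx, hp.coprime_iff_not_dvd]
          intro h
          rcases hp.dvd_mul.1 h with h | h
          · have h1 : p ∣ D.f := hk ▸ dvd_pow_self p hk0
            have := Nat.dvd_sub h1 h
            rw [show D.f - (D.f - 1) = 1 by have := D.two_le_f; omega, Nat.dvd_one] at this
            exact hp.ne_one this
          · have := (Nat.prime_dvd_prime_iff_eq hp Nat.prime_two).1 (hp.dvd_of_dvd_pow (show p ∣ 2 ^ 2 from h))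
            exact hp2 this
        have h1 : z' ^ (Nat.gcd p E'.index) ∈ E' := by
          rw [← zpow_natCast, Nat.gcd_eq_gcd_ab, zpow_add, zpow_mul, zpow_mul, zpow_natCast, zpow_natCast]
          exact mul_mem (zpow_mem hzpm _) (zpow_mem hmem _)
        rw [hcop, pow_one] at h1
        exact ⟨z', h1, rfl⟩
    obtain ⟨j, -, hj⟩ := (Nat.dvd_prime_pow hp).1 h4f
    exact hind j y hy hye (by rw [← hj]; exact pow_orderOf_eq_one y)
  -- the centraliser of `E`
  set Y := Subgroup.centralizer (E : Set G) with hY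
  have hEY : E ≤ Y := fun x hx => Subgroup.mem_centralizer_iff.2 fun z hz => hEcomm z hz x hx
  have htY : D.t ∈ Y := Subgroup.mem_centralizer_iff.2 fun z hz =>
    (Subgroup.mem_centralizer_singleton_iff.1 (hEC hz))
  have hCY : ∀ y ∈ Y, y ∈ D.C → y ∈ E ∨ y * D.t ∈ E := by
    intro y hy hyC
    set y' : D.C := ⟨y, hyC⟩
    have hym : y' ∈ Et := by
      show D.twoC.toImg y' ∈ Ei
      obtain ⟨r, hr⟩ := exists_smul_eq Ei (⟨D.a, D.a_mem⟩ : D.Ft) (D.twoC.toImg y' • ⟨D.a, D.a_mem⟩)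
      suffices D.twoC.toImg y' = r by rw [this]; exact r.2
      refine eq_of_smul_eq_smul fun x : D.Ft => ?_
      obtain ⟨r', hr'⟩ := exists_smul_eq Ei (⟨D.a, D.a_mem⟩ : D.Ft) x
      obtain ⟨g, hg⟩ := D.twoC.toImg_surjective (r' : D.twoC.img)
      have hgm : g ∈ Et := by show D.twoC.toImg g ∈ Ei; rw [hg]; exact r'.2
      have hcomm : D.twoC.toImg y' * r' = r' * D.twoC.toImg y' := by
        rw [← hg, ← map_mul, ← map_mul]
        congr 1
        refine Subtype.ext ?_
        show y * g = g * y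
        rcases hsplit g hgm with h | h
        · exact (Subgroup.mem_centralizer_iff.1 hy (g : G) ⟨g, h, rfl⟩).symm
        · have h1 := (Subgroup.mem_centralizer_iff.1 hy ((g : G) * D.t) ⟨_, h, rfl⟩).symm
          have h2 : D.t * y = y * D.t := (Subgroup.mem_centralizer_singleton_iff.1 hyC).symm
          refine mul_right_cancel (b := D.t) ?_
          rw [mul_assoc, h1, mul_assoc, h2, ← mul_assoc]
      rw [← hr']
      show D.twoC.toImg y' • (r' : D.twoC.img) • (⟨D.a, D.a_mem⟩ : D.Ft) =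
        (r : D.twoC.img) • (r' : D.twoC.img) • (⟨D.a, D.a_mem⟩ : D.Ft)
      rw [smul_smul, hcomm, mul_smul, ← hr]
      show (r' : D.twoC.img) • (r : D.twoC.img) • (⟨D.a, D.a_mem⟩ : D.Ft) =
        (r : D.twoC.img) • (r' : D.twoC.img) • (⟨D.a, D.a_mem⟩ : D.Ft)
      rw [smul_smul, smul_smul, hEic _ r'.2 _ r.2]
    rcases hsplit y' hym with h | h
    · exact Or.inl ⟨y', h, rfl⟩
    · exact Or.inr ⟨_, h, rfl⟩
  -- its Sylow 2-subgroup has order two
  have hYodd : ∃ m, Odd m ∧ Nat.card Y = 2 * m := by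
    obtain ⟨P, hP⟩ := (IsPGroup.of_card (p := 2) (n := 1) (by
      rw [Nat.card_zpowers, ← Subgroup.orderOf_coe]; exact D.t_order.trans (pow_one 2).symm) :
      IsPGroup 2 (Subgroup.zpowers (⟨D.t, htY⟩ : Y))).exists_le_sylow
    have htP : (⟨D.t, htY⟩ : Y) ∈ (P : Subgroup Y) := hP (Subgroup.mem_zpowers _)
    have hsmall : ∀ y ∈ (P : Subgroup Y), (y : G) ∈ D.C → y = 1 ∨ y = ⟨D.t, htY⟩ := by
      intro y hy hyC
      obtain ⟨j, hj⟩ := P.isPGroup' ⟨y, hy⟩
      have hj' : (y : G) ^ 2 ^ j = 1 := congrArg (fun z : (P : Subgroup Y) => ((z : Y) : G)) hj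
      have hz : ∀ z ∈ E, z ^ 2 ^ j = 1 → z = 1 := fun z hz h2 => by
        have h1 := Nat.dvd_gcd (orderOf_dvd_of_pow_eq_one h2) (orderOf_dvd_of_pow_eq_one (hEexp z hz))
        rw [((Nat.coprime_two_left.2 hpodd).pow_left j : Nat.Coprime (2 ^ j) p), Nat.dvd_one,
          orderOf_eq_one_iff] at h1
        exact h1
      rcases hCY y y.2 hyC with h | h
      · exact Or.inl (Subtype.ext (hz _ h hj'))
      · by_cases hj0 : j = 0
        · rw [hj0, pow_zero, pow_one] at hj'
          exact Or.inl (Subtype.ext hj')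
        · refine Or.inr (Subtype.ext ?_)
          have h1 := hz _ h (by
            rw [(show Commute (y : G) D.t from Subgroup.mem_centralizer_singleton_iff.1 hyC).mul_pow, hj', one_mul,
              show 2 ^ j = 2 * 2 ^ (j - 1) by rw [← pow_succ']; congr 1; omega, pow_mul, pow_two, D.t_sq, one_pow])
          rw [eq_inv_of_mul_eq_one_left h1, inv_eq_of_mul_eq_one_right D.t_sq]
    have hall : ∀ y ∈ (P : Subgroup Y), (y : G) ∈ D.C := by
      haveI : Nontrivial ↥(P : Subgroup Y) :=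
        ⟨⟨⟨D.t, htY⟩, htP⟩, 1, fun e => D.t_ne (congrArg (fun z : (P : Subgroup Y) => ((z : Y) : G)) e)⟩
      haveI := P.isPGroup'.center_nontrivial
      obtain ⟨z, hz⟩ := exists_ne (1 : Subgroup.center ↥(P : Subgroup Y))
      have hzc : (((z : ↥(P : Subgroup Y)) : Y) : G) ∈ D.C := Subgroup.mem_centralizer_singleton_iff.2
        (congrArg (fun w : (P : Subgroup Y) => ((w : Y) : G))
          (Subgroup.mem_center_iff.1 z.2 ⟨⟨D.t, htY⟩, htP⟩)).symm
      rcases hsmall _ (z : ↥(P : Subgroup Y)).2 hzc with e | e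
      · exact absurd (Subtype.ext (Subtype.ext e)) hz
      · intro y hy
        have h1 := congrArg (fun w : (P : Subgroup Y) => ((w : Y) : G)) (Subgroup.mem_center_iff.1 z.2 ⟨y, hy⟩)
        simp only [Subgroup.coe_mul, e] at h1
        exact Subgroup.mem_centralizer_singleton_iff.2 h1
    have hP2 : Nat.card (P : Subgroup Y) = 2 := by
      rw [← SetLike.coe_sort_coe, Nat.card_coe_set_eq, Set.ncard_eq_two]
      refine ⟨1, ⟨D.t, htY⟩, fun e => D.t_ne (congrArg Subtype.val e).symm,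
        Set.ext fun y => ⟨fun hy => hsmall y hy (hall y hy), ?_⟩⟩
      rintro (rfl | rfl)
      exacts [one_mem _, htP]
    refine ⟨(P : Subgroup Y).index, ?_, by
      have h := (P : Subgroup Y).card_mul_index
      rw [hP2] at h
      exact h.symm⟩
    rw [← Nat.not_even_iff_odd, even_iff_two_dvd]
    exact P.not_dvd_index
  obtain ⟨mY, hmY, hYcard⟩ := hYodd
  obtain ⟨Kh, hKcard, hKmem⟩ := exists_odd_half hmY hYcard
  set O : Subgroup G := Kh.map Y.subtype with hO
  have hOmem : ∀ y : G, y ∈ O ↔ y ∈ Y ∧ Odd (orderOf y) := by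
    intro y
    constructor
    · rintro ⟨z, hz, rfl⟩
      exact ⟨z.2, by rw [Subgroup.coe_subtype, Subgroup.orderOf_coe]; exact (hKmem z).1 hz⟩
    · rintro ⟨h1, h2⟩
      exact ⟨⟨y, h1⟩, (hKmem _).2 (by rw [← Subgroup.orderOf_coe]; exact h2), rfl⟩
  have hOodd : Odd (Nat.card O) := by
    rw [hO, Subgroup.card_map_of_injective (Subgroup.subtype_injective _), hKcard]; exact hmY
  have hEodd : ∀ x ∈ E, Odd (orderOf x) := fun x hx => hpodd.of_dvd_nat (orderOf_dvd_of_pow_eq_one (hEexp x hx))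
  have hEO : E ≤ O := fun x hx => (hOmem x).2 ⟨hEY hx, hEodd x hx⟩
  have hOC : O ⊓ D.C = E := by
    refine le_antisymm (fun y hy => ?_) (le_inf hEO hEC)
    obtain ⟨hyY, hyo⟩ := (hOmem y).1 hy.1
    haveI : Nontrivial E := Finite.one_lt_card_iff_nontrivial.1 (by rw [hEcard]; exact D.two_le_f)
    obtain ⟨e, he⟩ := exists_ne (1 : E)
    exact hcent y hy.2 e e.2 (fun h => he (Subtype.ext h)) ((Subgroup.mem_centralizer_iff.1 hyY e e.2).symm) hyo
  have hnormO : ∀ g ∈ D.C, g ∈ Subgroup.normalizer (O : Set G) := by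
    have hfwd : ∀ g ∈ D.C, ∀ y ∈ O, g * y * g⁻¹ ∈ O := by
      intro g hg y hy
      obtain ⟨h1, h2⟩ := (hOmem y).1 hy
      refine (hOmem _).2 ⟨Subgroup.mem_centralizer_iff.2 fun z hz => ?_, by
        rwa [show orderOf (g * y * g⁻¹) = orderOf y from (MulEquiv.orderOf_eq (MulAut.conj g) y)]⟩
      have h3 : g⁻¹ * z * g ∈ E := by
        have := hEconj g⁻¹ (inv_mem hg) z hz
        rwa [inv_inv] at this
      calc z * (g * y * g⁻¹) = g * ((g⁻¹ * z * g) * y) * g⁻¹ := by group
        _ = g * (y * (g⁻¹ * z * g)) * g⁻¹ := by rw [Subgroup.mem_centralizer_iff.1 h1 _ h3]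
        _ = g * y * g⁻¹ * z := by group
    intro g hg
    refine Subgroup.mem_normalizer_iff.2 fun y => ⟨hfwd g hg y, fun hy => ?_⟩
    have := hfwd g⁻¹ (inv_mem hg) _ hy
    rwa [show g⁻¹ * (g * y * g⁻¹) * g⁻¹⁻¹ = y by group] at this
  -- centralisers in `O`
  have hOst : ∀ y ∈ O ⊓ Subgroup.centralizer ({D.s} : Set G), y ^ p = 1 := by
    intro y hy
    obtain ⟨hyY, hyo⟩ := (hOmem y).1 hy.1
    obtain ⟨e, he, hea⟩ := hEtr _ D.a_mem _ D.b_mem
    have he1 : e ≠ 1 := fun h => D.ne (by rw [← hea, h, one_smul])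
    have hes : D.s * e = e * D.s := by
      have h1 : e⁻¹ * (D.s * e * D.s⁻¹) ∈ E := mul_mem (inv_mem he) (hEconj _ D.s_mem e he)
      have h2 := hEreg _ h1 _ D.a_mem (by
        rw [mul_smul, mul_smul, mul_smul, show D.s⁻¹ • D.a = D.a from inv_smul_eq_iff.2 (D.φa s0).symm, hea, show D.s • D.b = D.b from D.φb s0,
          inv_smul_eq_iff]
        exact hea.symm)
      exact mul_inv_eq_iff_eq_mul.1 (inv_mul_eq_one.1 h2).symm
    obtain ⟨h, hh⟩ := inv_conj s0 s0_sq s0_ne
    set g := (D.φ h)⁻¹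
    have hgs : g * D.s * g⁻¹ = D.t := by
      show (D.φ h)⁻¹ * D.φ s0 * (D.φ h)⁻¹⁻¹ = D.φ t0
      rw [← hh, map_mul, map_mul, map_inv]; group
    have htr : ∀ z, z * D.s = D.s * z → g * z * g⁻¹ ∈ D.C := fun z hz =>
      Subgroup.mem_centralizer_singleton_iff.2 (by
        rw [← hgs, show g * z * g⁻¹ * (g * D.s * g⁻¹) = g * (z * D.s) * g⁻¹ by group, hz]; group)
    have hyC := htr y (Subgroup.mem_centralizer_singleton_iff.1 hy.2)
    have heC := hCp _ (htr e hes.symm) (by rw [conj_pow, hEexp e he]; group)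
    have := hEexp _ (hcent _ hyC _ heC (fun h' => he1 (conj_eq_one_iff.1 h'))
      (by
        rw [show g * y * g⁻¹ * (g * e * g⁻¹) = g * (y * e) * g⁻¹ by group,
          (Subgroup.mem_centralizer_iff.1 hyY e he).symm]
        group)
      (by rwa [show orderOf (g * y * g⁻¹) = orderOf y from (MulEquiv.orderOf_eq (MulAut.conj g) y)]))
    rw [conj_pow, conj_eq_one_iff] at this
    exact this
  obtain ⟨i, hi⟩ := IsPGroup.iff_card.1 (show IsPGroup p ↥(O ⊓ Subgroup.centralizer ({D.s} : Set G)) from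
    fun x => ⟨1, Subtype.ext (by show (x : G) ^ p ^ 1 = 1; rw [pow_one]; exact hOst x x.2)⟩)
  obtain ⟨hg0t, hg0s, hg0L⟩ := D.tau_g0 hσ
  have hts : Nat.card ↥(O ⊓ Subgroup.centralizer ({D.t * D.s} : Set G)) =
      Nat.card ↥(O ⊓ Subgroup.centralizer ({D.s} : Set G)) := by
    symm
    refine Nat.card_congr ((MulAut.conj D.g0).toEquiv.subtypeEquiv fun y => ?_)
    simp only [Subgroup.mem_inf, Subgroup.mem_centralizer_singleton_iff, MulEquiv.toEquiv_eq_coe,
      EquivLike.coe_coe, MulAut.conj_apply]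
    refine and_congr (Subgroup.mem_normalizer_iff.1 (hnormO _ hg0L.1) y) ?_
    rw [← hg0s, show D.g0 * y * D.g0⁻¹ * (D.g0 * D.s * D.g0⁻¹) = D.g0 * (y * D.s) * D.g0⁻¹ by group,
      show D.g0 * D.s * D.g0⁻¹ * (D.g0 * y * D.g0⁻¹) = D.g0 * (D.s * y) * D.g0⁻¹ by group]
    exact ⟨fun h' => by rw [h'], fun h' => mul_left_cancel (mul_right_cancel h')⟩
  have hVle : D.V ≤ D.C := fun g hg => by
    rcases D.mem_V.1 hg with rfl | rfl | rfl | rfl
    exacts [one_mem _, D.t_mem, D.s_mem, mul_mem D.t_mem D.s_mem]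
  have hVexp : ∀ g ∈ D.V, g ^ 2 = 1 := fun g hg => by
    rw [pow_two]
    rcases D.mem_V.1 hg with rfl | rfl | rfl | rfl
    exacts [one_mul 1, D.t_sq, D.s_sq, D.ts_sq']
  have hVab : IsMulCommutative D.V := ⟨⟨fun g g' => Subtype.ext (by
    have e1 := hVexp _ (mul_mem g.2 g'.2)
    rw [pow_two] at e1
    show (g : G) * g' = g' * g
    calc (g : G) * g' = ((g : G) * g')⁻¹ := (inv_eq_of_mul_eq_one_right e1).symm
      _ = g' * g := by
        rw [mul_inv_rev, inv_eq_of_mul_eq_one_right (by rw [← pow_two]; exact hVexp _ g'.2),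
          inv_eq_of_mul_eq_one_right (by rw [← pow_two]; exact hVexp _ g.2)])⟩⟩
  have hform := Fusion.fixed_formula (p := 2) (A := D.V) (K := O) hVab (by rw [D.card_V]; norm_num) hVexp
    (fun g hg => hnormO g (hVle hg))
    (by rw [D.card_V, show 4 = 2 ^ 2 from rfl]; exact Nat.Coprime.pow_left 2 hOodd.coprime_two_left)
  have hCt : Nat.card ↥(O ⊓ Subgroup.centralizer ({D.t} : Set G)) = D.f := by
    rw [show O ⊓ Subgroup.centralizer ({D.t} : Set G) = E from hOC, hEcard]
  have hCV : Nat.card ↥(O ⊓ Subgroup.centralizer (D.V : Set G)) = D.u := by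
    rw [← SetLike.coe_sort_coe, Nat.card_coe_set_eq]
    refine Set.ncard_congr (fun r _ => r • D.a) ?_ ?_ ?_
    · rintro r ⟨hr, hrc⟩
      have hct : r ∈ D.C := Subgroup.mem_centralizer_singleton_iff.2
        (Subgroup.mem_centralizer_iff.1 hrc D.t (D.mem_V.2 (Or.inr (Or.inl rfl)))).symm
      refine ⟨D.C_inv r hct _ D.a_mem, ?_⟩
      rw [smul_smul, Subgroup.mem_centralizer_iff.1 hrc D.s (D.mem_V.2 (Or.inr (Or.inr (Or.inl rfl)))), mul_smul,
        show D.s • D.a = D.a from D.φa s0]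
    · intro r r' hr hr' e
      have mk : ∀ z ∈ O ⊓ Subgroup.centralizer (D.V : Set G), z ∈ E := fun z hz => hOC ▸
        ⟨hz.1, Subgroup.mem_centralizer_singleton_iff.2
          (Subgroup.mem_centralizer_iff.1 hz.2 D.t (D.mem_V.2 (Or.inr (Or.inl rfl)))).symm⟩
      exact (inv_mul_eq_one.1 (hEreg (r'⁻¹ * r) (mul_mem (inv_mem (mk r' hr')) (mk r hr)) _ D.a_mem
        (by rw [mul_smul, e, inv_smul_smul]))).symm
    · intro y hy
      obtain ⟨r, hr, hry⟩ := hEtr _ D.a_mem y hy.1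
      refine ⟨r, ⟨hEO hr, Subgroup.mem_centralizer_iff.2 fun g hg => ?_⟩, hry⟩
      have hga : g • D.a = D.a ∧ g • y = y := by
        rcases D.mem_V.1 hg with e | e | e | e <;> subst e
        exacts [⟨one_smul G _, one_smul G _⟩, ⟨D.φa t0, hy.1.2⟩, ⟨D.φa s0, hy.2⟩,
          ⟨by rw [mul_smul, show D.s • D.a = D.a from D.φa s0]; exact D.φa t0, D.FV_mem_ts hy⟩]
      have h1 : r⁻¹ * (g * r * g⁻¹) ∈ E := mul_mem (inv_mem hr) (hEconj g (hVle hg) r hr)
      have h2 := hEreg _ h1 _ D.a_mem (by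
        rw [mul_smul, mul_smul, mul_smul, inv_smul_eq_iff.2 hga.1.symm, hry, hga.2, inv_smul_eq_iff]
        exact hry.symm)
      exact mul_inv_eq_iff_eq_mul.1 (inv_mul_eq_one.1 h2).symm
  have hts1 : D.t * D.s ≠ 1 := fun e => D.φ_ne ts_ne (by rw [map_mul]; exact e)
  have hnon : Fusion.nonId D.V = {D.t, D.s, D.t * D.s} := by
    ext g
    rw [Fusion.mem_nonId, D.mem_V]
    simp only [Finset.mem_insert, Finset.mem_singleton]
    constructor
    · rintro ⟨e, hne⟩
      exact e.resolve_left hne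
    · rintro (rfl | rfl | rfl)
      exacts [⟨by simp, D.t_ne⟩, ⟨by simp, D.s_ne⟩, ⟨by simp, hts1⟩]
  rw [hnon, Finset.prod_insert (by
      simp only [Finset.mem_insert, Finset.mem_singleton]
      rintro (e | e)
      exacts [t0_ne_s0 (D.inj e), D.s_ne (left_eq_mul.1 e)]),
    Finset.prod_pair (fun e => D.t_ne (right_eq_mul.1 e)), hCt, hCV, hts, hi] at hform
  norm_num at hform
  have hOcard : Nat.card O = p ^ i * p ^ i :=
    (Nat.eq_of_mul_eq_mul_left (show 0 < D.f by have := D.two_le_f; omega) (by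
      rw [hform, pow_two, ← hfu]; ring)).symm
  -- the order of `G`
  set T := {g : G | IsConj D.t g}.ncard with hT
  have hG := D.conj_class_count
  have h3T := D.six_count hm
  rw [← hT] at hG h3T
  have hpf : p ∣ D.f := hk ▸ dvd_pow_self p hk0
  have hp9 : ¬ p ^ 2 ∣ T := by
    intro h
    obtain ⟨c, hc⟩ : (p : ℤ) ∣ D.f := Int.natCast_dvd_natCast.2 hpf
    obtain ⟨d, hd⟩ : ((p : ℤ) ^ 2) ∣ T := by exact_mod_cast h
    have h3 : (p : ℤ) ^ 2 ∣ 3 := ⟨12 * (c * c) - d, by rw [hc, hd] at h3T; linear_combination h3T⟩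
    have h4 := Int.le_of_dvd (by norm_num) h3
    have h5 : (3 : ℤ) ≤ p := by
      have := hp.two_le
      exact_mod_cast (show 3 ≤ p by omega)
    nlinarith
  have hdvd : p ^ i * p ^ i ∣ p ^ k * T := by
    have h := Subgroup.card_subgroup_dvd_card O
    rw [hOcard, ← hG, D.card_C, hk] at h
    refine Nat.Coprime.dvd_of_dvd_mul_right ?_
      (show p ^ i * p ^ i ∣ p ^ k * T * ((p ^ k - 1) * 4) by rw [show p ^ k * T * ((p ^ k - 1) * 4) = T * (p ^ k * ((p ^ k - 1) * 4)) by ring]; exact h)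
    rw [← pow_add]
    refine Nat.Coprime.pow_left _ (hp.coprime_iff_not_dvd.2 fun h' => ?_)
    rcases hp.dvd_mul.1 h' with h' | h'
    · have h1 : p ∣ p ^ k := dvd_pow_self p hk0
      have := Nat.dvd_sub h1 h'
      rw [show p ^ k - (p ^ k - 1) = 1 by have := Nat.one_le_pow k p hp.pos; omega, Nat.dvd_one] at this
      exact hp.ne_one this
    · exact hp2 ((Nat.prime_dvd_prime_iff_eq hp Nat.prime_two).1 (hp.dvd_of_dvd_pow (show p ∣ 2 ^ 2 from h')))
  have hkev : ∃ j, k = j + j := by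
    obtain ⟨j, -, hj⟩ := (Nat.dvd_prime_pow hp).1 (show D.u ∣ p ^ k by rw [← hk, hfu]; exact dvd_mul_left _ _)
    refine ⟨j, Nat.pow_right_injective hp.two_le ?_⟩
    show p ^ k = p ^ (j + j)
    rw [← hk, hfu, hj, pow_add]
  have hik : i + i ≤ k := by
    by_contra hlt'
    push Not at hlt'
    obtain ⟨j, rfl⟩ := hkev
    refine hp9 (Nat.dvd_of_mul_dvd_mul_left (pow_pos hp.pos (j + j)) ?_)
    rw [← pow_add]
    exact (pow_dvd_pow p (show j + j + 2 ≤ i + i by omega)).trans (by rw [pow_add]; exact hdvd)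
  have hOE : O = E := (Subgroup.eq_of_le_of_card_ge hEO (by
    rw [hEcard, hOcard, hk, ← pow_add]; exact Nat.pow_le_pow_right hp.pos hik)).symm
  -- the normaliser of `E` is the centraliser of `t`
  have hNC : Subgroup.normalizer (E : Set G) = D.C := by
    refine le_antisymm (fun g hg => Subgroup.mem_centralizer_singleton_iff.2 ?_) fun g hg =>
      Subgroup.mem_normalizer_iff.2 fun x => ⟨hEconj g hg x, fun hx => by
        have := hEconj g⁻¹ (inv_mem hg) _ hx
        rwa [show g⁻¹ * (g * x * g⁻¹) * g⁻¹⁻¹ = x by group] at this⟩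
    have hin : g * D.t * g⁻¹ ∈ Y := Subgroup.mem_centralizer_iff.2 fun z hz => by
      have h1 : g⁻¹ * z * g ∈ E := by
        have := (Subgroup.mem_normalizer_iff.1 (inv_mem hg) z).1 hz
        rwa [inv_inv] at this
      calc z * (g * D.t * g⁻¹) = g * ((g⁻¹ * z * g) * D.t) * g⁻¹ := by group
        _ = g * (D.t * (g⁻¹ * z * g)) * g⁻¹ := by rw [Subgroup.mem_centralizer_singleton_iff.1 (hEC h1)]
        _ = g * D.t * g⁻¹ * z := by group
    obtain ⟨w, hw⟩ : ∃ w : Y, (w : G) = g * D.t * g⁻¹ := ⟨⟨_, hin⟩, rfl⟩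
    -- `w` times `t` lies in the odd part
    have hidx : Kh.index = 2 := by
      have h := Kh.index_mul_card
      rw [hKcard, hYcard] at h
      exact Nat.eq_of_mul_eq_mul_right hmY.pos h
    have hnot : ∀ v : Y, (v : G) * v = 1 → (v : G) ≠ 1 → v ∉ Kh := fun v h1 h2 h3 => by
      have ho : orderOf v = 2 := by
        rw [← Subgroup.orderOf_coe]; exact orderOf_eq_prime (by rw [pow_two, h1]) h2
      have := (hKmem v).1 h3
      rw [ho] at this
      norm_num at this
    have hwsq : (w : G) * w = 1 := by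
      rw [hw, show g * D.t * g⁻¹ * (g * D.t * g⁻¹) = g * (D.t * D.t) * g⁻¹ by group, D.t_sq]; group
    have hmem : w * ⟨D.t, htY⟩ ∈ Kh := by
      rw [Subgroup.mul_mem_iff_of_index_two hidx]
      exact iff_of_false (hnot w hwsq (by rw [hw]; exact fun e => D.t_ne (conj_eq_one_iff.1 e)))
        (hnot _ D.t_sq D.t_ne)
    have hwE : (w : G) * D.t ∈ E := hOE ▸ ⟨_, hmem, rfl⟩
    have hcomm : (w : G) * D.t = D.t * w := by
      have := Subgroup.mem_centralizer_singleton_iff.1 (hEC hwE)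
      calc (w : G) * D.t = (w : G) * D.t * D.t * D.t := by rw [mul_assoc ((w : G) * D.t), D.t_sq, mul_one]
        _ = D.t * ((w : G) * D.t) * D.t := by rw [this]
        _ = D.t * w := by rw [mul_assoc D.t, mul_assoc (w : G), D.t_sq, mul_one]
    have h2 : ((w : G) * D.t) ^ 2 = 1 := by
      rw [(show Commute (w : G) D.t from hcomm).mul_pow, pow_two, pow_two, hwsq, D.t_sq, one_mul]
    have h3 := Nat.dvd_gcd (orderOf_dvd_of_pow_eq_one h2) (orderOf_dvd_of_pow_eq_one (hEexp _ hwE))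
    rw [(Nat.coprime_two_left.2 hpodd : Nat.Coprime 2 p), Nat.dvd_one, orderOf_eq_one_iff,
      mul_eq_one_iff_eq_inv, inv_eq_of_mul_eq_one_right D.t_sq, hw, mul_inv_eq_iff_eq_mul] at h3
    exact h3
  -- Sylow's theorem
  have hEp : IsPGroup p E := IsPGroup.of_card (n := k) (hEcard.trans hk)
  obtain ⟨S, hS⟩ := hEp.exists_le_sylow
  have hSE : (S : Subgroup G) = E := by
    by_contra hne
    have hlt' : E < (S : Subgroup G) := lt_of_le_of_ne hS (Ne.symm hne)
    haveI : Group.IsNilpotent ↥(S : Subgroup G) := S.isPGroup'.isNilpotent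
    have hE' : E.subgroupOf (S : Subgroup G) < ⊤ := by
      rw [lt_top_iff_ne_top, ne_eq, Subgroup.subgroupOf_eq_top]
      exact not_le_of_gt hlt'
    obtain ⟨g, hg, hgn⟩ := SetLike.exists_of_lt
      (Group.normalizerCondition_of_isNilpotent (G := ↥(S : Subgroup G)) _ hE')
    have hgN : (g : G) ∈ Subgroup.normalizer (E : Set G) := by
      refine Subgroup.mem_normalizer_iff.2 fun x => ⟨fun hx => ?_, fun hx => ?_⟩
      · exact (Subgroup.mem_normalizer_iff.1 hg ⟨x, hS hx⟩).1 hx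
      · have hxS : x ∈ (S : Subgroup G) := by
          have := mul_mem (mul_mem (inv_mem g.2) (hS hx)) g.2
          rwa [show (g : G)⁻¹ * (g * x * (g : G)⁻¹) * g = x by group] at this
        exact (Subgroup.mem_normalizer_iff.1 hg ⟨x, hxS⟩).2 hx
    rw [hNC] at hgN
    obtain ⟨j, hj⟩ := S.isPGroup' g
    haveI : Nontrivial E := Finite.one_lt_card_iff_nontrivial.1 (by rw [hEcard]; exact D.two_le_f)
    set g' : D.C := ⟨g, hgN⟩
    have hgj : g' ^ p ^ j = 1 := Subtype.ext (congrArg Subtype.val hj :)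
    have hidx' : E'.index = (D.f - 1) * 4 := by
      have h := E'.index_mul_card
      rw [hEcard', D.card_C] at h
      exact Nat.eq_of_mul_eq_mul_right (by have := D.two_le_f; omega) (h.trans (mul_comm _ _))
    have hcop : Nat.Coprime (p ^ j) E'.index := by
      rw [hidx']
      refine Nat.Coprime.pow_left _ (hp.coprime_iff_not_dvd.2 fun h' => ?_)
      rcases hp.dvd_mul.1 h' with h' | h'
      · have := Nat.dvd_sub hpf h'
        rw [show D.f - (D.f - 1) = 1 by have := D.two_le_f; omega, Nat.dvd_one] at this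
        exact hp.ne_one this
      · exact hp2 ((Nat.prime_dvd_prime_iff_eq hp Nat.prime_two).1 (hp.dvd_of_dvd_pow (show p ∣ 2 ^ 2 from h')))
    have h1 : g' ^ (Nat.gcd (p ^ j) E'.index) ∈ E' := by
      rw [← zpow_natCast, Nat.gcd_eq_gcd_ab, zpow_add, zpow_mul, zpow_mul, zpow_natCast, zpow_natCast, hgj,
        one_zpow, one_mul]
      exact zpow_mem (Subgroup.pow_index_mem E' g') _
    rw [hcop, pow_one] at h1
    exact hgn (show (g : G) ∈ E from ⟨g', h1, rfl⟩)
  have hsyl : Nat.card (Sylow p G) ≡ 1 [MOD p] := card_sylow_modEq_one p G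
  have hidx : Nat.card (Sylow p G) = T := by
    rw [Sylow.card_eq_index_normalizer S]
    show (Subgroup.normalizer ((S : Subgroup G) : Set G)).index = T
    rw [hSE, hNC]
    refine Nat.eq_of_mul_eq_mul_right (Nat.card_pos (α := D.C)) ?_
    rw [Subgroup.index_mul_card]
    exact hG.symm
  rw [hidx] at hsyl
  have hTz : (p : ℤ) ∣ 1 - T := Nat.modEq_iff_dvd.1 hsyl
  obtain ⟨c, hc⟩ : (p : ℤ) ∣ D.f := Int.natCast_dvd_natCast.2 hpf
  obtain ⟨d, hd⟩ := hTz
  have h4 : (p : ℤ) ∣ 2 ^ 2 := ⟨d + 12 * p * (c * c), by rw [hc] at h3T; linear_combination hd + h3T⟩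
  have h4' : p ∣ 2 ^ 2 := by exact_mod_cast h4
  exact hp2 ((Nat.prime_dvd_prime_iff_eq hp Nat.prime_two).1 (hp.dvd_of_dvd_pow h4'))

end Data

end Cfsg.Agent.TwoA4
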