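import Cfsg.Agent.Lib.Perm.TwoA4.Even
import Cfsg.Agent.Lib.Perm.TwoA4.OddClass
import Cfsg.Agent.Lib.Perm.TwoA4.OddKernel
import Cfsg.Agent.Lib.Perm.TwoA4.OddSquare
import Cfsg.Agent.Lib.Perm.TwoA4.Fifteen
import Cfsg.Agent.Lib.Perm.TwoA4.Affine

/-!
Doubly transitive groups with two-point stabiliser `A₄`.
-/

set_option autoImplicit false
set_option linter.style.haveILetI false

open Cfsg

namespace Cfsg.Agent.TwoA4

open MulAction Equiv Cfsg.Agent.TwoA5

variable {G : Type*} [Group G] [Finite G] {Ω : Type*} [Fintype Ω] [MulAction G Ω] [FaithfulSMul G Ω]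

/-- The theorem. -/
theorem classify (two : ∀ a b c d : Ω, a ≠ b → c ≠ d → ∃ g : G, g • a = c ∧ g • b = d) {a b : Ω} (hab : a ≠ b)
    (e : ↥(stabilizer G a ⊓ stabilizer G b) ≃* AF) :
    (Fintype.card Ω = 6 ∧ Nonempty (G ≃* ↥(alternatingGroup (Fin 6)))) ∨
      (Fintype.card Ω = 15 ∧ Nonempty (G ≃* ↥(alternatingGroup (Fin 7)))) ∨
      (Fintype.card Ω = 16 ∧ ∃ (F : Type) (_ : Field F) (_ : Fintype F), Fintype.card F = 4 ∧
        Nonempty (G ≃* ((Fin 2 → F) ≃ᵃ[F] (Fin 2 → F)))) ∨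
      (∃ J : G, orderOf J = 2 ∧ Subgroup.centralizer ({J} : Set G) ⊔ Cfsg.oddCore G = ⊤) := by
  classical
  obtain ⟨D⟩ := exists_data two hab e
  rw [← Nat.card_eq_fintype_card]
  rcases Nat.even_or_odd (Nat.card Ω) with hn | hn
  · rcases D.even_case hn with ⟨h6, -⟩ | ⟨h16, hσ, hf, hu⟩
    · refine Or.inl ⟨h6, ?_⟩
      have hG : Nat.card G = 360 := by rw [D.card_G, h6]
      let eΩ : Ω ≃ Fin 6 := Fintype.equivFinOfCardEq (by rwa [Nat.card_eq_fintype_card] at h6)
      let ρ : G →* Equiv.Perm (Fin 6) := eΩ.permCongrHom.toMonoidHom.comp (MulAction.toPermHom G Ω)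
      have hρ : Function.Injective ρ := fun x y hxy => by
        have h1 : MulAction.toPermHom G Ω x = MulAction.toPermHom G Ω y := eΩ.permCongrHom.injective hxy
        exact eq_of_smul_eq_smul fun z : Ω => DFunLike.congr_fun h1 z
      have hidx : ρ.range.index = 2 := by
        have h1 := ρ.range.index_mul_card
        rw [← Nat.card_congr (MonoidHom.ofInjective hρ).toEquiv, hG, Nat.card_perm, Nat.card_eq_fintype_card,
          Fintype.card_fin, show Nat.factorial 6 = 2 * 360 from rfl] at h1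
        exact Nat.eq_of_mul_eq_mul_right (by norm_num) h1
      exact ⟨(MonoidHom.ofInjective hρ).trans
        (MulEquiv.subgroupCongr (Equiv.Perm.eq_alternatingGroup_of_index_eq_two hidx))⟩
    · exact Or.inr (Or.inr (Or.inl ⟨h16, Data.affine_case (D := D) ⟨h16, hσ, hf, hu⟩⟩))
  · rcases D.m_cases with ⟨hσ, hm, hc⟩ | ⟨hσ, hm, h0⟩ | ⟨hσ, -, h0⟩
    · rcases D.u_le_f.eq_or_lt with hu | hu
      · have h15 := D.dihedral_case hn hσ hm hc hu
        exact Or.inr (Or.inl ⟨h15, D.fifteen hσ hm h15⟩)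
      · exact (D.square_case hn hσ hm hu).elim
    · exact Or.inr (Or.inr (Or.inr (D.three_case hn hσ hm h0)))
    · exact (D.central_case hn hσ h0).elim

end Cfsg.Agent.TwoA4
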