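import Cfsg.Agent.Lib.Perm.TwoA4.Setup

/-!
Six swapping conjugates.
-/

set_option autoImplicit false
set_option linter.style.haveILetI false
set_option linter.unusedSectionVars false

open Cfsg

namespace Cfsg.Agent.TwoA4

open MulAction Equiv Cfsg.Agent.TwoA5

namespace Data

variable {G : Type*} [Group G] [Finite G] {Ω : Type*} [MulAction G Ω] [Finite Ω] [FaithfulSMul G Ω]
variable (D : Data G Ω)

theorem conj_class_count : {g : G | IsConj D.t g}.ncard * Nat.card D.C = Nat.card G := by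
  have h := D.card_conj
  have e : ∀ x : ℕ, x * x - x = x * (x - 1) := fun x => by rw [Nat.mul_sub_one]
  rw [e, e] at h
  rw [D.card_C, D.card_G]
  calc {g : G | IsConj D.t g}.ncard * (D.f * ((D.f - 1) * 4))
      = ({g : G | IsConj D.t g}.ncard * (D.f * (D.f - 1))) * 4 := by ring
    _ = _ := by rw [h]; ring

theorem tau_g0 (hσ : D.σ = tau0) :
    D.g0 * D.t * D.g0⁻¹ = D.t ∧ D.g0 * D.s * D.g0⁻¹ = D.t * D.s ∧ D.g0 ∈ D.L := by
  have h1 : D.g0 * D.t * D.g0⁻¹ = D.t := by
    rw [t, D.g0_conj]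
    congr 1
    exact Subtype.ext (by rw [cj_val, hσ]; exact tau_t0)
  have h2 : D.g0 * D.s * D.g0⁻¹ = D.t * D.s := by
    rw [t, s, D.g0_conj, ← map_mul]
    congr 1
    exact Subtype.ext (by rw [cj_val, hσ]; exact tau_s0)
  exact ⟨h1, h2, D.mem_L (Subgroup.mem_centralizer_singleton_iff.2 (mul_inv_eq_iff_eq_mul.1 h1)) (Or.inr h2)⟩

/-- The numerical facts for six swapping conjugates. -/
theorem six_count (hm : D.m = 6) :
    ({g : G | IsConj D.t g}.ncard : ℤ) = 3 * (4 * ((D.f : ℤ) * D.f) - 1) := by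
  have h := congrArg (fun x : ℕ => (x : ℤ)) D.card_conj
  simp only [Nat.cast_mul, Nat.cast_sub (Nat.le_mul_self _), Nat.cast_ofNat] at h
  have hn := D.card_n
  rw [hm] at hn
  push_cast at hn
  have hn1 : (Nat.card Ω : ℤ) = D.f * (2 * D.f - 1) := by linarith
  have hne : (D.f : ℤ) * D.f - D.f ≠ 0 := by
    have := D.two_le_f
    have h2 : (2 : ℤ) ≤ D.f := by exact_mod_cast this
    nlinarith
  refine mul_left_cancel₀ hne ?_
  rw [hn1] at h
  linear_combination h

end Data

end Cfsg.Agent.TwoA4
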