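import Cfsg.Agent.Lib.Perm.TwoA4.Setup
import Cfsg.Agent.Lib.Perm.Primitive

/-!
Orbits of subgroups normalised by a point stabiliser, and the order of a point stabiliser.
-/

set_option autoImplicit false
set_option linter.style.haveILetI false
set_option linter.unusedSectionVars false

open Cfsg

namespace Cfsg.Agent.TwoA4

open MulAction Equiv Cfsg.Agent.TwoA5

namespace Data

variable {G : Type*} [Group G] [Finite G] {Ω : Type*} [MulAction G Ω] [Finite Ω] [FaithfulSMul G Ω]
variable (D : Data G Ω)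

include D in
theorem isPretransitive : IsPretransitive G Ω :=
  ⟨fun p q => by
    by_cases e : p = q
    · exact ⟨1, by rw [one_smul, e]⟩
    · obtain ⟨g, hg, -⟩ := D.two p q q p e (Ne.symm e)
      exact ⟨g, hg⟩⟩

include D in
theorem card_stab (x : Ω) : Nat.card (stabilizer G x) = (Nat.card Ω - 1) * 12 := by
  have h2 : 2 ≤ Nat.card Ω := by
    haveI : Nontrivial Ω := ⟨⟨D.a, D.b, D.ne⟩⟩
    exact Finite.one_lt_card
  haveI := D.isPretransitive
  have h := (stabilizer G x).index_mul_card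
  rw [index_stabilizer_of_transitive, D.card_G] at h
  exact Nat.eq_of_mul_eq_mul_left (by omega) h

/-- With six swapping conjugates, an involution moving some point is conjugate to `t`. -/
theorem all_conj (hσ : D.σ = tau0) (hm : D.m = 6) {g : G} (hg : g * g = 1) {x : Ω} (hx : g • x ≠ x) :
    IsConj D.t g := by
  classical
  set I : Set G := (fun x => D.g0 * D.φ x) ''
    (({x : AF | (tau0 * (x : Perm (Fin 4))) * (tau0 * (x : Perm (Fin 4))) = 1} : Finset AF) : Set AF) with hI
  set S : Set G := {g | IsConj D.t g ∧ g • D.a = D.b ∧ g • D.b = D.a} with hS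
  have hSI : S ⊆ I := by
    rintro w ⟨hw, ha, hb⟩
    obtain ⟨y, rfl⟩ := D.swapper ha hb
    refine ⟨y, ?_, rfl⟩
    have h2 := (D.sq_iff y).1 (D.sq_of_conj hw).1
    rw [hσ] at h2
    simp only [Finset.coe_filter, Finset.mem_univ, true_and, Set.mem_ofPred_eq]
    exact h2
  have hIS : I ⊆ S := by
    refine (Set.eq_of_subset_of_ncard_le hSI ?_ (Set.toFinite _)).ge
    rw [hI, Set.ncard_image_of_injective _ (fun x y e => D.inj (mul_left_cancel e)), Set.ncard_coe_finset,
      card_odd_invol]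
    exact le_of_eq hm.symm
  obtain ⟨k, h1, h2⟩ := D.two x (g • x) D.a D.b hx.symm D.ne
  obtain ⟨y, hy⟩ := D.swapper (g := k * g * k⁻¹)
    (by rw [← h1, mul_smul, mul_smul, inv_smul_smul, h2])
    (by rw [← h2, mul_smul, mul_smul, inv_smul_smul, smul_smul g, hg, one_smul, h1])
  have hmem : k * g * k⁻¹ ∈ I := ⟨y, by
    have hsq : D.g0 * D.φ y * (D.g0 * D.φ y) = 1 := by
      rw [← hy, show k * g * k⁻¹ * (k * g * k⁻¹) = k * (g * g) * k⁻¹ by group, hg]; group
    have := (D.sq_iff y).1 hsq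
    rw [hσ] at this
    simp only [Finset.coe_filter, Finset.mem_univ, true_and, Set.mem_ofPred_eq]
    exact this, hy.symm⟩
  exact (hIS hmem).1.trans (isConj_iff.2 ⟨k⁻¹, by group⟩)

variable {W : Subgroup G} (hW : W ≤ stabilizer G D.a)
  (hWc : ∀ g : G, g • D.a = D.a → ∀ y ∈ W, g * y * g⁻¹ ∈ W)

include hW hWc

/-- The orbits on the other points have equal sizes. -/
theorem orbit_eq {z : Ω} (hz : z ≠ D.a) : Nat.card (orbit W z) = Nat.card (orbit W D.b) := by
  obtain ⟨g, hga, hgb⟩ := D.two D.a D.b D.a z D.ne (Ne.symm hz)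
  refine (Nat.card_congr ((MulAction.toPerm g).subtypeEquiv fun w => ?_)).symm
  constructor
  · rintro ⟨r, rfl⟩
    refine ⟨⟨g * r * g⁻¹, hWc g hga r r.2⟩, ?_⟩
    show (g * (r : G) * g⁻¹) • z = g • (r : G) • D.b
    rw [← hgb, mul_smul, mul_smul, inv_smul_smul]
  · rintro ⟨r, hr⟩
    have hr' : (r : G) • z = g • w := hr
    refine ⟨⟨g⁻¹ * r * g, by simpa using hWc g⁻¹ (inv_smul_eq_iff.2 hga.symm) r r.2⟩, ?_⟩
    show (g⁻¹ * (r : G) * g) • D.b = w
    rw [mul_smul, mul_smul, hgb, hr', inv_smul_smul]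

/-- The common size divides the number of other points. -/
theorem orbit_dvd : Nat.card (orbit W D.b) ∣ Nat.card Ω - 1 := by
  classical
  have hinv : ∀ (r : W) (z : Ω), z ≠ D.a → (r : G) • z ≠ D.a := fun r z hz e =>
    hz (smul_left_cancel (r : G) (e.trans (show (r : G) • D.a = D.a from hW r.2).symm))
  have key : ∀ (k : ℕ) (T : Set Ω), T.ncard = k → (∀ (r : W), ∀ z ∈ T, (r : G) • z ∈ T) →
      T ⊆ {z | z ≠ D.a} → Nat.card (orbit W D.b) ∣ k := by
    intro k
    induction k using Nat.strong_induction_on with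
    | _ k ih =>
      intro T h hT hTS
      rcases T.eq_empty_or_nonempty with rfl | ⟨z, hz⟩
      · rw [Set.ncard_empty] at h; subst h; exact dvd_zero _
      have hsub : orbit W z ⊆ T := by rintro _ ⟨r, rfl⟩; exact hT r z hz
      have hpos : 0 < (orbit W z).ncard := (Set.ncard_pos (Set.toFinite _)).2 ⟨z, mem_orbit_self z⟩
      have hle : (orbit W z).ncard ≤ T.ncard := Set.ncard_le_ncard hsub (Set.toFinite _)
      have hd := Set.ncard_sdiff hsub (Set.toFinite _)
      have h1 := ih (T \ orbit W z).ncard (by omega) (T \ orbit W z) rfl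
        (fun r w hw => ⟨hT r w hw.1, fun hw' => hw.2 ?_⟩) fun w hw => hTS hw.1
      · have h2 : Nat.card (orbit W D.b) ∣ (orbit W z).ncard := by
          rw [← Nat.card_coe_set_eq, D.orbit_eq hW hWc (hTS hz)]
        rw [← h, show T.ncard = (T \ orbit W z).ncard + (orbit W z).ncard by omega]
        exact dvd_add h1 h2
      · obtain ⟨r', hr'⟩ := hw'
        refine ⟨r⁻¹ * r', ?_⟩
        show (r⁻¹ * r') • z = w
        rw [mul_smul, show r' • z = (r : G) • w from hr', inv_smul_eq_iff]
        rfl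
  refine key _ {z | z ≠ D.a} ?_ (fun r z hz => hinv r z hz) (le_refl _)
  rw [show {z | z ≠ D.a} = ({D.a} : Set Ω)ᶜ from rfl, Set.ncard_compl, Set.ncard_singleton]

/-- The common size divides the order. -/
theorem orbit_dvd_card : Nat.card (orbit W D.b) ∣ Nat.card W := by
  haveI : Finite W := inferInstance
  rw [Nat.card_congr (orbitEquivQuotientStabilizer W D.b)]
  exact Subgroup.index_dvd_card _

/-- Orbits of size one force the trivial group. -/
theorem eq_one_of_orbit_one (h1 : Nat.card (orbit W D.b) = 1) : ∀ w ∈ W, w = 1 := by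
  intro w hw
  refine eq_of_smul_eq_smul fun z : Ω => ?_
  rw [one_smul]
  by_cases hz : z = D.a
  · rw [hz]; exact hW hw
  have h := D.orbit_eq hW hWc hz
  rw [h1] at h
  obtain ⟨hs, -⟩ := Nat.card_eq_one_iff_unique.1 h
  exact congrArg Subtype.val (hs.elim ⟨w • z, ⟨⟨w, hw⟩, rfl⟩⟩ ⟨z, mem_orbit_self z⟩)

end Data

end Cfsg.Agent.TwoA4
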