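import Cfsg.Agent.Lib.Perm.TwoA4.Lines
import Cfsg.Agent.Lib.Perm.Primitive

/-!
Sixteen points: the regular normal subgroup and the homothety of order three.
-/

set_option autoImplicit false
set_option linter.style.haveILetI false
set_option linter.unusedSectionVars false

open Cfsg

namespace Cfsg.Agent.TwoA4

open MulAction Equiv Cfsg.Agent.TwoA5

namespace Data

variable {G : Type*} [Group G] [Finite G] {Ω : Type*} [MulAction G Ω] [Finite Ω] [FaithfulSMul G Ω]
variable {D : Data G Ω} (h : D.Sixteen)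

/-- The map of the lines through the base point induced by an element fixing it. -/
def lineMap (D : Data G Ω) (g : stabilizer G D.a) (l : ↥(D.Through D.a)) : ↥(D.Through D.a) :=
  ⟨(fun z => (g : G) • z) '' (l : Set Ω), isLine_image (g : G) l.2.1, D.a, l.2.2, g.2⟩

theorem lineMap_val (D : Data G Ω) (g : stabilizer G D.a) (l : ↥(D.Through D.a)) :
    (D.lineMap g l : Set Ω) = (fun z => (g : G) • z) '' (l : Set Ω) := rfl

theorem lineMap_mul (D : Data G Ω) (g k : stabilizer G D.a) (l : ↥(D.Through D.a)) :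
    D.lineMap g (D.lineMap k l) = D.lineMap (g * k) l := by
  refine Subtype.ext ?_
  rw [lineMap_val, lineMap_val, lineMap_val, Set.image_image, Subgroup.coe_mul]
  simp only [mul_smul]

theorem lineMap_one (D : Data G Ω) (l : ↥(D.Through D.a)) : D.lineMap 1 l = l := by
  refine Subtype.ext ?_
  rw [lineMap_val, Subgroup.coe_one]
  simp

/-- The permutation of the lines through the base point. -/
def lineHom (D : Data G Ω) : stabilizer G D.a →* Perm ↥(D.Through D.a) where
  toFun g :=
    { toFun := D.lineMap g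
      invFun := D.lineMap g⁻¹
      left_inv := fun l => by rw [lineMap_mul, inv_mul_cancel, lineMap_one]
      right_inv := fun l => by rw [lineMap_mul, mul_inv_cancel, lineMap_one] }
  map_one' := Equiv.ext (lineMap_one D)
  map_mul' g k := Equiv.ext fun l => (lineMap_mul D g k l).symm

include h

theorem lineHom_eq_one {g : stabilizer G D.a} : lineHom D g = 1 ↔ (g : G) ∈ dir h := by
  rw [dir_iff h g.2]
  constructor
  · intro e l hl
    exact congrArg Subtype.val (DFunLike.congr_fun e ⟨l, hl⟩)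
  · intro e
    exact Equiv.ext fun l => Subtype.ext (e l l.2)

/-- An element of the two-point stabiliser fixing every line through `a` is trivial. -/
theorem dir_phi {x : AF} (hx : D.φ x ∈ dir h) : x = 1 := by
  classical
  by_contra hx1
  -- the normal subgroup of such elements contains an involution
  have hmul : ∀ y z : AF, D.φ y ∈ dir h → D.φ z ∈ dir h → D.φ (y * z) ∈ dir h := fun y z hy hz => by
    rw [map_mul]; exact mul_mem hy hz
  obtain ⟨v, hv, hv1, hvd⟩ : ∃ v : AF, v * v = 1 ∧ v ≠ 1 ∧ D.φ v ∈ dir h := by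
    rcases commutator_invol x hx1 with e | ⟨k, hk1, hk2⟩
    · exact ⟨x, e, hx1, hx⟩
    · refine ⟨_, hk2, hk1, ?_⟩
      rw [show x * k * x⁻¹ * k⁻¹ = x * (k * x⁻¹ * k⁻¹) by group]
      refine hmul _ _ hx ?_
      rw [map_mul, map_mul, map_inv, map_inv]
      exact (dir_normal h).conj_mem _ (inv_mem hx) _
  -- a line through `a` off the fixed points of the involution
  obtain ⟨z, hz⟩ := exists_moved (Λ := Ω) (D.φ_ne hv1)
  have hza : z ≠ D.a := fun e => hz (by rw [e]; exact D.φa v)
  have hl : line G D.a z ∈ D.Through D.a := ⟨⟨D.a, z, hza.symm, rfl⟩, (line_mem h D.a z).1⟩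
  have himg := (dir_iff h (D.φa v)).1 hvd _ hl
  have hsq : D.φ v * D.φ v = 1 := by rw [← map_mul, hv, map_one]
  have hpar := fixIn_parity (F := line G D.a z) (g := D.φ v) (fun w _ => smul_smul_of_sq hsq w) fun w hw => by
    have h1 : D.φ v • w ∈ (fun u => D.φ v • u) '' line G D.a z := ⟨w, hw, rfl⟩
    rwa [himg] at h1
  rw [line_card h hza.symm] at hpar
  have hafix : D.a ∈ fixIn (line G D.a z) (D.φ v) := ⟨(line_mem h D.a z).1, D.φa v⟩
  have hpos : 0 < (fixIn (line G D.a z) (D.φ v)).ncard := (Set.ncard_pos (Set.toFinite _)).2 ⟨_, hafix⟩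
  obtain ⟨w, hw, hwa⟩ := Set.exists_ne_of_one_lt_ncard
    (show 1 < (fixIn (line G D.a z) (D.φ v)).ncard by omega) D.a
  -- two common points with the fixed line of the involution
  have hsf := D.s_fix_all (by rw [h.hu, h.hf])
  have hFv : fixIn (Set.univ : Set Ω) (D.φ v) = D.Ft := by
    refine (Set.eq_of_subset_of_ncard_le (fun q (hq : q ∈ D.Ft) => (⟨trivial, ?_⟩ : q ∈ fixIn (Set.univ : Set Ω) (D.φ v)))
      (le_of_eq ((D.nfix_of_conj (D.conj_of_invol hv hv1)).trans rfl)) (Set.toFinite _)).symm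
    rcases four_cases v hv with rfl | rfl | rfl | rfl
    · exact absurd rfl hv1
    · exact hq.2
    · exact hsf q hq
    · rw [map_mul, mul_smul]
      show D.t • D.s • q = q
      rw [hsf q hq, hq.2]
  have hwF : w ∈ line G D.a D.b := by
    rw [line_base h, ← hFv]
    exact ⟨trivial, hw.2⟩
  have h1 := line_eq h D.ne (line_mem h D.a D.b).1 hwF hwa.symm
  have h2 := line_eq h hza.symm (line_mem h D.a z).1 hw.1 hwa.symm
  have hzF : z ∈ D.Ft := by
    rw [← line_base h, ← h1, h2]; exact (line_mem h D.a z).2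
  rw [← hFv] at hzF
  exact hz hzF.2

theorem dir_fix_eq_one {g : G} (hg : g ∈ dir h) {x y : Ω} (hxy : x ≠ y) (hx : g • x = x) (hy : g • y = y) :
    g = 1 := by
  obtain ⟨k, h1, h2⟩ := D.two x y D.a D.b hxy D.ne
  obtain ⟨z, hz⟩ := (D.mem (k * g * k⁻¹)).1
    ⟨by rw [← h1, mul_smul, mul_smul, inv_smul_smul, hx], by rw [← h2, mul_smul, mul_smul, inv_smul_smul, hy]⟩
  have := dir_phi h (x := z) (hz ▸ (dir_normal h).conj_mem g hg k)
  rw [this, map_one] at hz
  exact conj_eq_one_iff.1 hz.symm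

/-- The homotheties: their group has order three and is central in the point stabiliser. -/
theorem exists_homothety : Nat.card ↥(dir h ⊓ stabilizer G D.a) = 3 ∧
    ∀ d ∈ dir h ⊓ stabilizer G D.a, ∀ g : G, g • D.a = D.a → g * d = d * g := by
  classical
  set A := stabilizer G D.a with hA
  have hAcard : Nat.card A = 180 := by rw [hA, D.card_stab, h.n16]
  set θ := lineHom D
  have hX : Nat.card ↥(D.Through D.a) = 5 := by rw [Nat.card_coe_set_eq, card_through h]
  -- the image
  let ψ : AF →* θ.range := θ.rangeRestrict.comp (D.φ.codRestrict A fun x => D.φa x)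
  have hψ : Function.Injective ψ := (injective_iff_map_eq_one ψ).2 fun x hx =>
    dir_phi h ((lineHom_eq_one h).1 (congrArg Subtype.val hx :))
  have h12 : 12 ∣ Nat.card θ.range := by
    have := Subgroup.card_dvd_of_injective ψ hψ
    rwa [nat_card_alternatingGroup, Nat.card_eq_fintype_card, Fintype.card_fin] at this
  have h5 : 5 ∣ Nat.card θ.range := by
    haveI : IsPretransitive θ.range ↥(D.Through D.a) := by
      refine ⟨fun l m => ?_⟩
      have hex : ∀ k : ↥(D.Through D.a), ∃ y : Ω, y ≠ D.a ∧ (k : Set Ω) = line G D.a y := fun k => by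
        obtain ⟨⟨p, q, hpq, hk⟩, hak⟩ := k.2
        by_cases hp : p = D.a
        · subst hp; exact ⟨q, hpq.symm, hk⟩
        · exact ⟨p, hp, line_through h ⟨p, q, hpq, hk⟩ hak (hk ▸ (line_mem h p q).1) (Ne.symm hp)⟩
      obtain ⟨y, hy, hly⟩ := hex l
      obtain ⟨y', hy', hmy⟩ := hex m
      obtain ⟨g, hga, hgy⟩ := D.two D.a y D.a y' hy.symm hy'.symm
      refine ⟨⟨θ ⟨g, hga⟩, ⟨⟨g, hga⟩, rfl⟩⟩, Subtype.ext ?_⟩
      show (fun z => g • z) '' (l : Set Ω) = m
      rw [hly, smul_line, hga, hgy, hmy]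
    obtain ⟨l⟩ : Nonempty ↥(D.Through D.a) := (Nat.card_pos_iff.1 (by omega)).1
    have h1 := index_stabilizer_of_transitive (G := θ.range) l
    rw [hX] at h1
    exact h1 ▸ (stabilizer θ.range l).index_dvd_card
  have hker : θ.ker.index * Nat.card θ.ker = 180 := hAcard ▸ θ.ker.index_mul_card
  rw [Subgroup.index_ker] at hker
  have hrange : Nat.card θ.range = 60 := by
    have h1 : Nat.card θ.range ∣ 120 := by
      have := θ.range.card_subgroup_dvd_card
      rwa [Nat.card_perm, hX] at this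
    have h2 : Nat.card θ.range ∣ 180 := hker ▸ dvd_mul_right _ _
    have h3 : Nat.card θ.range ∣ 60 := Nat.dvd_gcd h1 h2
    exact Nat.dvd_antisymm h3 (Nat.Coprime.mul_dvd_of_dvd_of_dvd (by norm_num : Nat.Coprime 12 5) h12 h5)
  rw [hrange] at hker
  have hk3 : Nat.card θ.ker = 3 := by omega
  set Dd := dir h ⊓ A with hDd
  have hmap : θ.ker.map A.subtype = Dd := by
    ext g
    constructor
    · rintro ⟨y, hy, rfl⟩
      exact ⟨(lineHom_eq_one h).1 hy, y.2⟩
    · rintro ⟨hg, hga⟩
      exact ⟨⟨g, hga⟩, (lineHom_eq_one h).2 hg, rfl⟩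
  have hD3 : Nat.card Dd = 3 := by
    rw [← hmap, Subgroup.card_map_of_injective (Subgroup.subtype_injective A), hk3]
  refine ⟨hD3, ?_⟩
  haveI : IsCyclic θ.ker := isCyclic_of_prime_card hk3
  let c : A →* MulAut θ.ker := MulAut.conjNormal
  have hc2 : ∀ g : A, c g * c g = 1 := fun g => by
    have h1 : Nat.card (MulAut θ.ker) = 2 := by
      rw [IsCyclic.card_mulAut, hk3, Nat.totient_prime Nat.prime_three]
    rw [← pow_two, ← h1]
    exact pow_card_eq_one'
  have hci : c.ker.index ∣ 2 := by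
    rw [Subgroup.index_ker]
    have h1 := c.range.card_subgroup_dvd_card
    rwa [IsCyclic.card_mulAut, hk3, Nat.totient_prime Nat.prime_three] at h1
  -- the homotheties and the two-point stabiliser
  have hφc : ∀ x : AF, (⟨D.φ x, D.φa x⟩ : A) ∈ c.ker := by
    intro x
    rw [MonoidHom.mem_ker]
    obtain ⟨u, v, rfl⟩ := prod_of_cubes x
    have hcube : ∀ w : AF, w * w * w = 1 → c ⟨D.φ w, D.φa w⟩ = 1 := fun w hw => by
      set gw : A := ⟨D.φ w, D.φa w⟩
      have h3 : gw * gw * gw = 1 := Subtype.ext (by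
        show D.φ w * D.φ w * D.φ w = 1
        rw [← map_mul, ← map_mul, hw, map_one])
      have h4 := congrArg c h3
      rwa [map_mul, map_mul, hc2, one_mul, map_one] at h4
    rw [show (⟨D.φ (u.1 * v.1), D.φa _⟩ : A) = ⟨D.φ u.1, D.φa _⟩ * ⟨D.φ v.1, D.φa _⟩ from
      Subtype.ext (map_mul D.φ _ _), map_mul, hcube _ u.2, hcube _ v.2, one_mul]
  have hkc : θ.ker ≤ c.ker := by
    intro y hy
    rw [MonoidHom.mem_ker]
    refine MulEquiv.ext fun w => Subtype.ext ?_
    show y * (w : A) * y⁻¹ = w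
    have := congrArg Subtype.val (mul_comm' (⟨y, hy⟩ : θ.ker) w)
    rw [Subgroup.coe_mul, Subgroup.coe_mul] at this
    rw [this, mul_inv_cancel_right]
  have hsplit : ∀ p : AF × θ.ker, ((⟨D.φ p.1, D.φa p.1⟩ : A) * (p.2 : A)) ∈ c.ker := fun p =>
    mul_mem (hφc p.1) (hkc p.2.2)
  have h36 : 36 ∣ Nat.card c.ker := by
    let π : AF × θ.ker →* c.ker :=
      { toFun := fun p => ⟨_, hsplit p⟩
        map_one' := Subtype.ext (Subtype.ext (by show D.φ 1 * ((1 : θ.ker) : A).1 = 1; simp))
        map_mul' := fun p q => Subtype.ext (by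
          show (⟨D.φ (p.1 * q.1), D.φa _⟩ : A) * ((p.2 * q.2 : θ.ker) : A) =
            (⟨D.φ p.1, D.φa _⟩ : A) * (p.2 : A) * ((⟨D.φ q.1, D.φa _⟩ : A) * (q.2 : A))
          have hcomm : (p.2 : A) * ⟨D.φ q.1, D.φa _⟩ = ⟨D.φ q.1, D.φa _⟩ * (p.2 : A) := by
            have := congrArg Subtype.val (DFunLike.congr_fun (MonoidHom.mem_ker.1 (hφc q.1)) p.2)
            exact (mul_inv_eq_iff_eq_mul.1 this).symm
          rw [Subgroup.coe_mul, show (⟨D.φ (p.1 * q.1), D.φa _⟩ : A) =
            ⟨D.φ p.1, D.φa _⟩ * ⟨D.φ q.1, D.φa _⟩ from Subtype.ext (map_mul D.φ _ _), mul_assoc, mul_assoc,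
            ← mul_assoc (p.2 : A), hcomm, mul_assoc]) }
    have hπ : Function.Injective π := (injective_iff_map_eq_one π).2 fun p hp => by
      have h1 : (⟨D.φ p.1, D.φa p.1⟩ : A) * (p.2 : A) = 1 := congrArg Subtype.val hp
      have h2 : p.1 = 1 := dir_phi h (by
        have h3 : (⟨D.φ p.1, D.φa p.1⟩ : A) ∈ θ.ker := by
          rw [eq_inv_of_mul_eq_one_left h1]; exact inv_mem p.2.2
        exact (lineHom_eq_one h).1 h3)
      have h4 : (⟨D.φ p.1, D.φa p.1⟩ : A) = 1 := Subtype.ext (show D.φ p.1 = 1 by rw [h2, map_one])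
      rw [h4, one_mul] at h1
      exact Prod.ext h2 (Subtype.ext h1)
    have := Subgroup.card_dvd_of_injective π hπ
    rwa [Nat.card_prod, nat_card_alternatingGroup, Nat.card_eq_fintype_card, Fintype.card_fin, hk3] at this
  have htop : c.ker = ⊤ := by
    rw [← Subgroup.index_eq_one]
    have h1 := c.ker.index_mul_card
    obtain ⟨r, hr⟩ := h36
    rw [hAcard, hr] at h1
    rcases (Nat.dvd_prime Nat.prime_two).1 hci with e | e
    · exact e
    · rw [e] at h1; omega
  intro d hd g hga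
  have hd' : (⟨d, hd.2⟩ : A) ∈ θ.ker := (lineHom_eq_one h).2 hd.1
  have := congrArg (fun w : θ.ker => ((w : A) : G))
    (DFunLike.congr_fun (MonoidHom.mem_ker.1 (htop ▸ Subgroup.mem_top (⟨g, hga⟩ : A) : (⟨g, hga⟩ : A) ∈ c.ker))
      ⟨_, hd'⟩)
  exact mul_inv_eq_iff_eq_mul.1 (this : g * d * g⁻¹ = d)

/-- The translations. -/
theorem exists_translations : ∃ E : Subgroup G, E.Normal ∧ Nat.card E = 16 ∧
    (∀ x ∈ E, ∀ y ∈ E, x * y = y * x) ∧ (∀ x ∈ E, x * x = 1) ∧ (∀ z : Ω, ∃ e ∈ E, e • D.a = z) ∧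
    ∀ e ∈ E, ∀ z : Ω, e • z = z → e = 1 := by
  classical
  haveI : Fact (Nat.Prime 2) := ⟨Nat.prime_two⟩
  haveI := D.isPretransitive
  haveI h2' : IsMultiplyPretransitive G Ω 2 :=
    is_two_pretransitive_iff.2 fun {x₁ x₂ y₁ y₂} hx hy => D.two _ _ _ _ hx hy
  haveI : IsPreprimitive G Ω := isPreprimitive_of_is_two_pretransitive h2'
  set K := dir h with hK
  haveI hKn : K.Normal := dir_normal h
  obtain ⟨hD3, -⟩ := exists_homothety h
  have hK1 : K ≠ ⊥ := fun e => by
    rw [show dir h = ⊥ from e, bot_inf_eq, Subgroup.card_bot] at hD3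
    omega
  haveI hKt : IsPretransitive K Ω := Cfsg.Agent.Perm.normal_isPretransitive K hK1
  have hst : ∀ z : Ω, Nat.card ↥(K ⊓ stabilizer G z) = 3 := by
    intro z
    obtain ⟨g, rfl⟩ := exists_smul_eq G D.a z
    rw [← hD3]
    refine (Nat.card_congr ((MulAut.conj g).toEquiv.subtypeEquiv fun y => ?_)).symm
    simp only [Subgroup.mem_inf, mem_stabilizer_iff, MulEquiv.toEquiv_eq_coe, EquivLike.coe_coe, MulAut.conj_apply]
    refine and_congr ⟨fun hy => hKn.conj_mem y hy g, fun hy => ?_⟩ ?_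
    · have := hKn.conj_mem _ hy g⁻¹
      rwa [show g⁻¹ * (g * y * g⁻¹) * g⁻¹⁻¹ = y by group] at this
    · rw [mul_smul, mul_smul, inv_smul_smul, smul_left_cancel_iff]
  have hKcard : Nat.card K = 48 := by
    have h1 := (stabilizer K D.a).index_mul_card
    rw [index_stabilizer_of_transitive, h.n16] at h1
    have h2 : Nat.card (stabilizer K D.a) = 3 := by
      rw [← hst D.a]
      exact Nat.card_congr ⟨fun k => ⟨(k : K), (k : K).2, k.2⟩, fun k => ⟨⟨k, k.2.1⟩, k.2.2⟩,
        fun _ => rfl, fun _ => rfl⟩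
    omega
  haveI := Fintype.ofFinite K
  haveI := Fintype.ofFinite Ω
  set T : Finset K := Finset.univ.biUnion fun z : Ω =>
    (Finset.univ.filter fun k : K => (k : G) • z = z).erase 1 with hT
  have hT32 : T.card = 32 := by
    rw [hT, Finset.card_biUnion]
    · rw [Finset.sum_congr rfl (g := fun _ => 2) (fun z _ => ?_), Finset.sum_const, smul_eq_mul, Finset.card_univ,
        ← Nat.card_eq_fintype_card, h.n16]
      rw [Finset.card_erase_of_mem (by simp), ← Fintype.card_subtype, ← Nat.card_eq_fintype_card]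
      have : Nat.card {k : K // (k : G) • z = z} = 3 := by
        rw [← hst z]
        exact Nat.card_congr ⟨fun k => ⟨(k : K), (k : K).2, k.2⟩, fun k => ⟨⟨k, k.2.1⟩, k.2.2⟩,
          fun _ => rfl, fun _ => rfl⟩
      omega
    · intro z _ z' _ hne
      rw [Function.onFun, Finset.disjoint_left]
      intro k hk hk'
      simp only [Finset.mem_erase, Finset.mem_filter, Finset.mem_univ, true_and] at hk hk'
      exact hk.1 (Subtype.ext (dir_fix_eq_one h k.2 hne hk.2 hk'.2))
  have hS : ∀ S : Sylow 2 K, (S : Set K) = ((Tᶜ : Finset K) : Set K) := by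
    intro S
    have hS16 : Nat.card (S : Subgroup K) = 16 := by
      rw [S.card_eq_multiplicity, hKcard, show (48 : ℕ) = 2 ^ 4 * 3 from rfl,
        Nat.factorization_mul (by norm_num) (by norm_num), Finsupp.add_apply,
        Nat.Prime.factorization_pow Nat.prime_two, Finsupp.single_eq_same,
        Nat.factorization_eq_zero_of_not_dvd (show ¬ 2 ∣ 3 by norm_num)]
      norm_num
    refine Set.eq_of_subset_of_ncard_le (fun y hy => ?_) ?_ (Set.toFinite _)
    · simp only [Finset.coe_compl, Set.mem_compl_iff, Finset.mem_coe]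
      intro hyT
      simp only [hT, Finset.mem_biUnion, Finset.mem_univ, true_and, Finset.mem_erase, Finset.mem_filter] at hyT
      obtain ⟨z, hy1, hyz⟩ := hyT
      have h1 := orderOf_dvd_natCard (⟨y, hy⟩ : (S : Subgroup K))
      rw [hS16, ← Subgroup.orderOf_coe] at h1
      have h2 := orderOf_dvd_natCard (⟨(y : G), y.2, hyz⟩ : ↥(K ⊓ stabilizer G z))
      rw [hst, ← Subgroup.orderOf_coe] at h2
      rw [← Subgroup.orderOf_coe] at h1
      have h3 := Nat.dvd_gcd h1 h2
      exact hy1 (Subtype.ext (orderOf_eq_one_iff.1 (Nat.dvd_one.1 h3)))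
    · rw [Set.ncard_coe_finset, Finset.card_compl, hT32, ← Nat.card_eq_fintype_card, hKcard,
        ← Nat.card_coe_set_eq]
      exact le_of_eq hS16.symm
  obtain ⟨S⟩ : Nonempty (Sylow 2 K) := inferInstance
  haveI : Subsingleton (Sylow 2 K) := ⟨fun T T' => Sylow.ext (SetLike.coe_injective ((hS T).trans (hS T').symm))⟩
  haveI := S.normal_of_subsingleton
  haveI : (S : Subgroup K).Characteristic := S.characteristic_of_normal inferInstance
  set E : Subgroup G := (S : Subgroup K).map K.subtype with hE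
  haveI hEn : E.Normal := inferInstanceAs (((S : Subgroup K).map K.subtype).Normal)
  have hreg : ∀ e ∈ E, ∀ z : Ω, e • z = z → e = 1 := by
    rintro _ ⟨k, hk, rfl⟩ z hz
    by_contra hne
    have : k ∈ ((Tᶜ : Finset K) : Set K) := hS S ▸ hk
    simp only [Finset.coe_compl, Set.mem_compl_iff, Finset.mem_coe, hT, Finset.mem_biUnion, Finset.mem_univ,
      true_and, Finset.mem_erase, Finset.mem_filter, not_exists, not_and] at this
    exact this z (fun e => hne (by rw [e]; rfl)) hz
  have hEcard : Nat.card E = 16 := by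
    rw [hE, Subgroup.card_map_of_injective (Subgroup.subtype_injective K), S.card_eq_multiplicity, hKcard,
      show (48 : ℕ) = 2 ^ 4 * 3 from rfl, Nat.factorization_mul (by norm_num) (by norm_num), Finsupp.add_apply,
      Nat.Prime.factorization_pow Nat.prime_two, Finsupp.single_eq_same,
      Nat.factorization_eq_zero_of_not_dvd (show ¬ 2 ∣ 3 by norm_num)]
    norm_num
  have hfull : ∀ N : Subgroup G, N.Normal → N ≠ ⊥ → N ≤ E → N = E := by
    intro N hN hN1 hNE
    haveI := hN
    haveI : IsPretransitive N Ω := Cfsg.Agent.Perm.normal_isPretransitive N hN1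
    refine Subgroup.eq_of_le_of_card_ge hNE ?_
    have h1 := index_stabilizer_of_transitive (G := N) D.a
    rw [h.n16] at h1
    rw [hEcard, ← h1]
    exact Nat.le_of_dvd Nat.card_pos (Subgroup.index_dvd_card _)
  have hEp : IsPGroup 2 E := IsPGroup.of_card (n := 4) (by rw [hEcard]; norm_num)
  haveI : Nontrivial E := Finite.one_lt_card_iff_nontrivial.1 (by omega)
  haveI := hEp.center_nontrivial
  set Z := (Subgroup.center ↥E).map E.subtype with hZ
  have hZE : Z = E := by
    refine hfull Z inferInstance (fun e => ?_) (Subgroup.map_subtype_le _)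
    have := (Subgroup.map_eq_bot_iff_of_injective _ (Subgroup.subtype_injective E)).1 e
    exact (Subgroup.nontrivial_iff_ne_bot _).1 inferInstance this
  have hcomm : ∀ x ∈ E, ∀ y ∈ E, x * y = y * x := by
    intro x hx y hy
    rw [← hZE] at hx
    obtain ⟨w, hw, rfl⟩ := hx
    exact congrArg Subtype.val (Subgroup.mem_center_iff.1 hw ⟨y, hy⟩).symm
  let Ω1 : Subgroup G :=
    { carrier := {x | x ∈ E ∧ x * x = 1}
      one_mem' := ⟨one_mem _, one_mul 1⟩
      mul_mem' := fun {x y} hx hy => ⟨mul_mem hx.1 hy.1, by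
        rw [show x * y * (x * y) = x * (y * x) * y by group, ← hcomm x hx.1 y hy.1,
          show x * (x * y) * y = (x * x) * (y * y) by group, hx.2, hy.2, one_mul]⟩
      inv_mem' := fun {x} hx => ⟨inv_mem hx.1, by rw [← mul_inv_rev, hx.2, inv_one]⟩ }
  have hΩ1 : Ω1 = E := by
    refine hfull Ω1 ⟨fun x hx g => ⟨hEn.conj_mem x hx.1 g, by
      rw [show g * x * g⁻¹ * (g * x * g⁻¹) = g * (x * x) * g⁻¹ by group, hx.2]; group⟩⟩ (fun e => ?_)
      (fun x hx => hx.1)
    obtain ⟨x, hx⟩ := exists_prime_orderOf_dvd_card' (G := E) 2 (by rw [hEcard]; norm_num)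
    have h1 : (x : G) ∈ Ω1 := ⟨x.2, by
      have := congrArg Subtype.val (pow_orderOf_eq_one x)
      rwa [hx, Subgroup.coe_pow, pow_two] at this⟩
    rw [e, Subgroup.mem_bot] at h1
    rw [← Subgroup.orderOf_coe, h1, orderOf_one] at hx
    omega
  refine ⟨E, hEn, hEcard, hcomm, fun x hx => (hΩ1.ge hx).2, fun z => ?_, hreg⟩
  have hinj : Function.Injective fun e : E => (e : G) • D.a := fun e e' he =>
    Subtype.ext (inv_mul_eq_one.1 (hreg _ (mul_mem (inv_mem e'.2) e.2) D.a (by
      rw [mul_smul, inv_smul_eq_iff]; exact he))).symm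
  obtain ⟨e, he⟩ := ((Nat.bijective_iff_injective_and_card _).2 ⟨hinj, by rw [hEcard, h.n16]⟩).2 z
  exact ⟨e, e.2, he⟩

end Data

end Cfsg.Agent.TwoA4
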