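import Cfsg.Agent.Lib.Perm.TwoA4.Facts
import Cfsg.Agent.Lib.Perm.TwoA5.PairTwo
import Cfsg.Agent.Lib.Perm.TwoA5.Image

/-!
The counting set-up for a doubly transitive group with two-point stabiliser `A₄`.
-/

set_option autoImplicit false
set_option linter.style.haveILetI false
set_option linter.unusedSectionVars false

open Cfsg

namespace Cfsg.Agent.TwoA4

open MulAction Equiv Cfsg.Agent.TwoA5

variable {G : Type*} [Group G] [Finite G] {Ω : Type*} [MulAction G Ω] [Finite Ω] [FaithfulSMul G Ω]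

/-- The basic data. -/
structure Data (G : Type*) [Group G] (Ω : Type*) [MulAction G Ω] where
  a : Ω
  b : Ω
  ne : a ≠ b
  two : ∀ a b c d : Ω, a ≠ b → c ≠ d → ∃ g : G, g • a = c ∧ g • b = d
  φ : AF →* G
  inj : Function.Injective φ
  mem : ∀ g : G, (g • a = a ∧ g • b = b) ↔ ∃ x : AF, φ x = g
  g0 : G
  σ : Perm (Fin 4)
  sigma : σ = 1 ∨ σ = tau0
  g0_sq : g0 * g0 = 1
  g0_a : g0 • a = b
  g0_b : g0 • b = a
  g0_conj : ∀ x : AF, g0 * φ x * g0⁻¹ = φ (cj σ x)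

/-- The data exist. -/
theorem exists_data (two : ∀ a b c d : Ω, a ≠ b → c ≠ d → ∃ g : G, g • a = c ∧ g • b = d) {a b : Ω} (hab : a ≠ b)
    (e : ↥(stabilizer G a ⊓ stabilizer G b) ≃* AF) : Nonempty (Data G Ω) := by
  let φ : AF →* G := (stabilizer G a ⊓ stabilizer G b).subtype.comp e.symm.toMonoidHom
  have hφ : ∀ x, φ x = ((e.symm x : ↥(stabilizer G a ⊓ stabilizer G b)) : G) := fun _ => rfl
  have inj : Function.Injective φ := fun x y h => e.symm.injective (Subtype.ext h)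
  have hmem : ∀ g : G, (g • a = a ∧ g • b = b) ↔ ∃ x : AF, φ x = g := by
    intro g
    constructor
    · rintro ⟨h1, h2⟩
      exact ⟨e ⟨g, h1, h2⟩, by rw [hφ, MulEquiv.symm_apply_apply]⟩
    · rintro ⟨x, rfl⟩
      exact ⟨(e.symm x).2.1, (e.symm x).2.2⟩
  have hin : ∀ x, φ x ∈ stabilizer G a ⊓ stabilizer G b := fun x => (e.symm x).2
  obtain ⟨g, hga, hgb⟩ := two a b b a hab hab.symm
  have hgi : ∀ y : G, y • a = a → y • b = b → (g * y * g⁻¹) • a = a ∧ (g * y * g⁻¹) • b = b := by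
    intro y h1 h2
    constructor
    · rw [mul_smul, mul_smul, show g⁻¹ • a = b from inv_smul_eq_iff.2 hgb.symm, h2, hgb]
    · rw [mul_smul, mul_smul, show g⁻¹ • b = a from inv_smul_eq_iff.2 hga.symm, h1, hga]
  let ψ : AF →* AF := e.toMonoidHom.comp (((MulAut.conj g).toMonoidHom.comp φ).codRestrict
    (stabilizer G a ⊓ stabilizer G b) fun x => hgi _ (hin x).1 (hin x).2)
  have hψ : ∀ x, φ (ψ x) = g * φ x * g⁻¹ := fun x => by
    show ((e.symm (e _) : ↥(stabilizer G a ⊓ stabilizer G b)) : G) = _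
    rw [MulEquiv.symm_apply_apply]
    rfl
  have hψinj : Function.Injective ψ := fun x y h => inj (by
    have := congrArg φ h
    rw [hψ, hψ] at this
    exact mul_left_cancel (mul_right_cancel this))
  obtain ⟨π, hπ⟩ := aut_eq_cj (MulEquiv.ofBijective ψ (Finite.injective_iff_bijective.1 hψinj))
  have hπ' : ∀ x, g * φ x * g⁻¹ = φ (cj π x) := fun x => by rw [← hψ, ← hπ]; rfl
  -- correct by an element of the stabiliser
  obtain ⟨σ, k, hσ, hk⟩ : ∃ (σ : Perm (Fin 4)) (k : AF), (σ = 1 ∨ σ = tau0) ∧ π * (k : Perm (Fin 4)) = σ := by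
    rcases Int.units_eq_one_or (Perm.sign π) with h | h
    · exact ⟨1, ⟨π⁻¹, Perm.mem_alternatingGroup.2 (by simp [h])⟩, Or.inl rfl, mul_inv_cancel π⟩
    · refine ⟨tau0, ⟨π⁻¹ * tau0, Perm.mem_alternatingGroup.2 ?_⟩, Or.inr rfl, mul_inv_cancel_left π tau0⟩
      rw [Perm.sign_mul, Perm.sign_inv, h, tau0, Perm.sign_swap (by decide)]
      rfl
  have hka : (g * φ k) • a = b := by rw [mul_smul, (hin k).1, hga]
  have hkb : (g * φ k) • b = a := by rw [mul_smul, (hin k).2, hgb]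
  have hconj : ∀ x, g * φ k * φ x * (g * φ k)⁻¹ = φ (cj σ x) := fun x => by
    rw [show g * φ k * φ x * (g * φ k)⁻¹ = g * φ (k * x * k⁻¹) * g⁻¹ by rw [map_mul, map_mul, map_inv]; group,
      hπ']
    congr 1
    refine Subtype.ext ?_
    rw [cj_val, cj_val, ← hk, Subgroup.coe_mul, Subgroup.coe_mul, Subgroup.coe_inv]
    group
  have hσσ : σ * σ = 1 := by
    rcases hσ with rfl | rfl
    exacts [one_mul 1, tau_sq]
  obtain ⟨c, hc⟩ := (hmem (g * φ k * (g * φ k))).1 ⟨by rw [mul_smul, hka, hkb], by rw [mul_smul, hkb, hka]⟩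
  have hc1 : c = 1 := center_eq c fun y => inj (by
    have h1 : g * φ k * (g * φ k) * φ y * (g * φ k * (g * φ k))⁻¹ = φ y := by
      rw [show g * φ k * (g * φ k) * φ y * (g * φ k * (g * φ k))⁻¹ =
        g * φ k * (g * φ k * φ y * (g * φ k)⁻¹) * (g * φ k)⁻¹ by group, hconj, hconj]
      congr 1
      refine Subtype.ext ?_
      rw [cj_val, cj_val, show σ * (σ * (y : Perm (Fin 4)) * σ⁻¹) * σ⁻¹ = σ * σ * y * (σ * σ)⁻¹ by group,
        hσσ, one_mul, inv_one, mul_one]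
    rw [← hc] at h1
    rw [map_mul, map_mul]
    exact mul_inv_eq_iff_eq_mul.1 h1)
  exact ⟨{
    a := a, b := b, ne := hab, two := two, φ := φ, inj := inj, mem := hmem, g0 := g * φ k, σ := σ
    sigma := hσ, g0_sq := by rw [← hc, hc1, map_one], g0_a := hka, g0_b := hkb, g0_conj := hconj }⟩

namespace Data

variable (D : Data G Ω)

/-- The involution. -/
def t : G := D.φ t0

/-- A second involution of the four-group. -/
def s : G := D.φ s0

/-- The four-group. -/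
def V : Subgroup G := Subgroup.closure {D.t, D.s}

/-- The fixed points of `t`. -/
def Ft : Set Ω := fixIn Set.univ D.t

/-- The fixed points of the four-group. -/
def FV : Set Ω := fixIn D.Ft D.s

/-- The number of fixed points of `t`. -/
noncomputable def f : ℕ := D.Ft.ncard

/-- The number of fixed points of the four-group. -/
noncomputable def u : ℕ := D.FV.ncard

/-- The number of conjugates of `t` interchanging two given points. -/
noncomputable def m : ℕ := {g | IsConj D.t g ∧ g • D.a = D.b ∧ g • D.b = D.a}.ncard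

/-- The centraliser of `t`. -/
def C : Subgroup G := Subgroup.centralizer ({D.t} : Set G)

theorem φa (x : AF) : D.φ x • D.a = D.a := ((D.mem _).2 ⟨x, rfl⟩).1

theorem φb (x : AF) : D.φ x • D.b = D.b := ((D.mem _).2 ⟨x, rfl⟩).2

theorem φ_ne {x : AF} (hx : x ≠ 1) : D.φ x ≠ 1 := fun e => hx (D.inj (e.trans (map_one _).symm))

theorem t_sq : D.t * D.t = 1 := by rw [t, ← map_mul, t0_sq, map_one]

theorem s_sq : D.s * D.s = 1 := by rw [s, ← map_mul, s0_sq, map_one]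

theorem ts_sq' : D.t * D.s * (D.t * D.s) = 1 := by rw [t, s, ← map_mul, ← map_mul, ts_sq, map_one]

theorem t_ne : D.t ≠ 1 := D.φ_ne t0_ne

theorem s_ne : D.s ≠ 1 := D.φ_ne s0_ne

theorem ts_comm' : D.t * D.s = D.s * D.t := by rw [t, s, ← map_mul, ts_comm, map_mul]

theorem t_order : orderOf D.t = 2 := orderOf_eq_prime (by rw [pow_two, D.t_sq]) D.t_ne

theorem conj_of_invol {x : AF} (hx : x * x = 1) (hx1 : x ≠ 1) : IsConj D.t (D.φ x) := by
  obtain ⟨h, rfl⟩ := inv_conj x hx hx1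
  exact isConj_iff.2 ⟨D.φ h, by rw [t, ← map_inv, ← map_mul, ← map_mul]⟩

theorem sq_of_conj {g : G} (hg : IsConj D.t g) : g * g = 1 ∧ g ≠ 1 := by
  obtain ⟨k, rfl⟩ := isConj_iff.1 hg
  exact ⟨by rw [show k * D.t * k⁻¹ * (k * D.t * k⁻¹) = k * (D.t * D.t) * k⁻¹ by group, D.t_sq]; group,
    fun e => D.t_ne (conj_eq_one_iff.1 e)⟩

theorem nfix_of_conj {g : G} (hg : IsConj D.t g) : nfix Ω g = D.f := by
  obtain ⟨k, rfl⟩ := isConj_iff.1 hg
  exact nfix_conj k D.t

/-- An involution fixing two points is conjugate to `t`. -/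
theorem conj_of_two_fixed {g : G} (hg : g * g = 1) (hg1 : g ≠ 1) {x y : Ω} (hxy : x ≠ y) (hx : g • x = x)
    (hy : g • y = y) : IsConj D.t g := by
  obtain ⟨k, h1, h2⟩ := D.two x y D.a D.b hxy D.ne
  obtain ⟨z, hz⟩ := (D.mem (k * g * k⁻¹)).1
    ⟨by rw [← h1, mul_smul, mul_smul, inv_smul_smul, hx], by rw [← h2, mul_smul, mul_smul, inv_smul_smul, hy]⟩
  have hz1 : z * z = 1 := D.inj (by
    rw [map_mul, hz, map_one, show k * g * k⁻¹ * (k * g * k⁻¹) = k * (g * g) * k⁻¹ by group, hg]; group)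
  have hz2 : z ≠ 1 := fun e => hg1 (conj_eq_one_iff.1 (hz.symm.trans (by rw [e, map_one])))
  exact (D.conj_of_invol hz1 hz2).trans (isConj_iff.2 ⟨k⁻¹, by rw [hz]; group⟩)

theorem a_mem : D.a ∈ D.Ft := ⟨trivial, D.φa t0⟩

theorem b_mem : D.b ∈ D.Ft := ⟨trivial, D.φb t0⟩

theorem a_memV : D.a ∈ D.FV := ⟨D.a_mem, D.φa s0⟩

theorem b_memV : D.b ∈ D.FV := ⟨D.b_mem, D.φb s0⟩

theorem two_le_u : 2 ≤ D.u := (Set.one_lt_ncard_iff (Set.toFinite _)).2 ⟨D.a, D.b, D.a_memV, D.b_memV, D.ne⟩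

theorem u_le_f : D.u ≤ D.f := Set.ncard_le_ncard (fun _ hx => hx.1) (Set.toFinite _)

theorem two_le_f : 2 ≤ D.f := D.two_le_u.trans D.u_le_f

theorem f_lt : D.f < Nat.card Ω := by
  obtain ⟨x, hx⟩ := exists_moved (Λ := Ω) D.t_ne
  rw [← Set.ncard_univ]
  exact Set.ncard_lt_ncard ((Set.ssubset_iff_of_subset (fun _ _ => trivial)).2
    ⟨x, trivial, fun h' => hx h'.2⟩) (Set.toFinite _)

theorem C_inv : ∀ g ∈ D.C, ∀ x ∈ D.Ft, g • x ∈ D.Ft := fun g hg x hx => ⟨trivial, by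
  rw [smul_smul, ← Subgroup.mem_centralizer_singleton_iff.1 hg, mul_smul, hx.2]⟩

/-- A transporting element that centralises `t`. -/
theorem exists_cent {x y : Ω} (hx : x ∈ D.Ft) (hy : y ∈ D.Ft) (hxy : x ≠ y) :
    ∃ g ∈ D.C, g • x = D.a ∧ g • y = D.b := by
  obtain ⟨k, h1, h2⟩ := D.two x y D.a D.b hxy D.ne
  obtain ⟨z, hz⟩ := (D.mem (k * D.t * k⁻¹)).1
    ⟨by rw [← h1, mul_smul, mul_smul, inv_smul_smul, hx.2], by rw [← h2, mul_smul, mul_smul, inv_smul_smul, hy.2]⟩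
  have hz1 : z * z = 1 := D.inj (by
    rw [map_mul, hz, map_one, show k * D.t * k⁻¹ * (k * D.t * k⁻¹) = k * (D.t * D.t) * k⁻¹ by group, D.t_sq]
    group)
  have hz2 : z ≠ 1 := fun e => D.t_ne (conj_eq_one_iff.1 (hz.symm.trans (by rw [e, map_one])))
  obtain ⟨h, rfl⟩ := inv_conj z hz1 hz2
  refine ⟨D.φ h⁻¹ * k, Subgroup.mem_centralizer_singleton_iff.2 ?_,
    by rw [mul_smul, h1, D.φa], by rw [mul_smul, h2, D.φb]⟩
  rw [map_mul, map_mul, map_inv] at hz
  change D.φ h * D.t * (D.φ h)⁻¹ = k * D.t * k⁻¹ at hz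
  rw [map_inv]
  calc (D.φ h)⁻¹ * k * D.t = (D.φ h)⁻¹ * (k * D.t * k⁻¹) * k := by group
    _ = D.t * ((D.φ h)⁻¹ * k) := by rw [← hz]; group

theorem twoC : TwoOn D.C D.Ft := by
  refine ⟨D.C_inv, fun x hx y hy z hz w hw hxy hzw => ?_⟩
  obtain ⟨g, hg, g1, g2⟩ := D.exists_cent hx hy hxy
  obtain ⟨g', hg', g1', g2'⟩ := D.exists_cent hz hw hzw
  exact ⟨g'⁻¹ * g, mul_mem (inv_mem hg') hg, by rw [mul_smul, g1, ← g1', inv_smul_smul],
    by rw [mul_smul, g2, ← g2', inv_smul_smul]⟩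

theorem C_stab {g : G} (hg : g ∈ D.C) (ha : g • D.a = D.a) (hb : g • D.b = D.b) :
    g = 1 ∨ g = D.t ∨ g = D.s ∨ g = D.t * D.s := by
  obtain ⟨z, rfl⟩ := (D.mem g).1 ⟨ha, hb⟩
  have := cent_t0 z (D.inj (by
    rw [map_mul, map_mul]; exact Subgroup.mem_centralizer_singleton_iff.1 hg))
  rcases this with rfl | rfl | rfl | rfl
  exacts [Or.inl (map_one _), Or.inr (Or.inl rfl), Or.inr (Or.inr (Or.inl rfl)),
    Or.inr (Or.inr (Or.inr (map_mul _ _ _)))]

theorem t_mem : D.t ∈ D.C := Subgroup.mem_centralizer_singleton_iff.2 rfl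

theorem s_mem : D.s ∈ D.C := Subgroup.mem_centralizer_singleton_iff.2 D.ts_comm'.symm

theorem card_four : ({1, D.t, D.s, D.t * D.s} : Set G).ncard = 4 := by
  have e : ({1, D.t, D.s, D.t * D.s} : Set G) = D.φ '' {1, t0, s0, t0 * s0} := by
    simp [Set.image_insert_eq, t, s]
  rw [e, Set.ncard_image_of_injective _ D.inj]
  have : ({1, t0, s0, t0 * s0} : Set AF) = (({1, t0, s0, t0 * s0} : Finset AF) : Set AF) := by simp
  rw [this, Set.ncard_coe_finset]
  decide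

theorem mem_V {g : G} : g ∈ D.V ↔ g = 1 ∨ g = D.t ∨ g = D.s ∨ g = D.t * D.s := by
  constructor
  · intro hg
    induction hg using Subgroup.closure_induction with
    | mem y hy => rcases hy with rfl | rfl <;> simp
    | one => simp
    | mul y y' _ _ iy iy' =>
      have e21 : D.s * D.t = D.t * D.s := D.ts_comm'.symm
      have e1 : D.t * (D.t * D.s) = D.s := by rw [← mul_assoc, D.t_sq, one_mul]
      have e2 : D.s * (D.t * D.s) = D.t := by rw [D.ts_comm', ← mul_assoc, D.s_sq, one_mul]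
      have e3 : D.t * D.s * D.t = D.s := by rw [mul_assoc, e21, e1]
      have e4 : D.t * D.s * D.s = D.t := by rw [mul_assoc, D.s_sq, mul_one]
      rcases iy with rfl | rfl | rfl | rfl <;> rcases iy' with rfl | rfl | rfl | rfl <;>
        simp [D.t_sq, D.s_sq, D.ts_sq', e21, e1, e2, e3, e4]
    | inv y _ iy =>
      rcases iy with rfl | rfl | rfl | rfl
      · simp
      · exact Or.inr (Or.inl (inv_eq_of_mul_eq_one_right D.t_sq))
      · exact Or.inr (Or.inr (Or.inl (inv_eq_of_mul_eq_one_right D.s_sq)))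
      · exact Or.inr (Or.inr (Or.inr (inv_eq_of_mul_eq_one_right D.ts_sq')))
  · rintro (rfl | rfl | rfl | rfl)
    exacts [one_mem _, Subgroup.subset_closure (Or.inl rfl), Subgroup.subset_closure (Or.inr rfl),
      mul_mem (Subgroup.subset_closure (Or.inl rfl)) (Subgroup.subset_closure (Or.inr rfl))]

theorem coe_V : (D.V : Set G) = {1, D.t, D.s, D.t * D.s} := Set.ext fun g => by simp [D.mem_V]

theorem card_V : Nat.card D.V = 4 := by
  rw [show Nat.card D.V = Nat.card ↥(D.V : Set G) from rfl, D.coe_V, Nat.card_coe_set_eq, D.card_four]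

theorem C_stab_eq : D.C ⊓ stabilizer G D.a ⊓ stabilizer G D.b = D.V := by
  ext g
  rw [D.mem_V]
  constructor
  · rintro ⟨⟨h1, h2⟩, h3⟩
    exact D.C_stab h1 h2 h3
  · rintro (rfl | rfl | rfl | rfl)
    exacts [one_mem _, ⟨⟨D.t_mem, D.φa _⟩, D.φb _⟩, ⟨⟨D.s_mem, D.φa _⟩, D.φb _⟩,
      (D.C ⊓ stabilizer G D.a ⊓ stabilizer G D.b).mul_mem
        ⟨⟨D.t_mem, D.φa _⟩, D.φb _⟩ ⟨⟨D.s_mem, D.φa _⟩, D.φb _⟩]

theorem card_C_stab : Nat.card ↥(D.C ⊓ stabilizer G D.a) = (D.f - 1) * 4 := by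
  rw [D.twoC.card_stab D.a_mem D.b_mem D.ne, D.C_stab_eq, D.card_V]
  rfl

theorem card_C : Nat.card D.C = D.f * ((D.f - 1) * 4) := by
  rw [D.twoC.card_eq D.a_mem D.b_mem D.ne, D.card_C_stab]
  rfl

include D in
theorem card_G : Nat.card G = Nat.card Ω * ((Nat.card Ω - 1) * 12) := by
  rw [card_two_trans D.two D.ne]
  congr 2
  have : ((stabilizer G D.a ⊓ stabilizer G D.b : Subgroup G) : Set G) = Set.range D.φ :=
    Set.ext fun g => D.mem g
  rw [← SetLike.coe_sort_coe, this, Nat.card_range_of_injective D.inj, nat_card_alternatingGroup,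
    Nat.card_eq_fintype_card, Fintype.card_fin]
  rfl

theorem card_conj : {g : G | IsConj D.t g}.ncard * (D.f * D.f - D.f) =
    (Nat.card Ω * Nat.card Ω - Nat.card Ω) * 3 := by
  classical
  have h := (twoOn_top D.two).count_fixed (T := {g : G | IsConj D.t g})
    (fun k _ g hg => IsConj.trans hg (isConj_iff.2 ⟨k, rfl⟩)) (u := D.f) (fun g hg => D.nfix_of_conj hg)
    (Set.mem_univ D.a) (Set.mem_univ D.b) D.ne
  rw [Set.ncard_univ] at h
  rw [h]
  congr 1
  have : {g : G | g ∈ {g : G | IsConj D.t g} ∧ g • D.a = D.a ∧ g • D.b = D.b} =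
      D.φ '' (({x : AF | x * x = 1 ∧ x ≠ 1} : Finset AF) : Set AF) := by
    ext g
    simp only [Finset.coe_filter, Finset.mem_univ, true_and, Set.mem_image, Set.mem_ofPred_eq]
    constructor
    · rintro ⟨h1, h2⟩
      obtain ⟨z, rfl⟩ := (D.mem g).1 h2
      exact ⟨z, ⟨D.inj (by rw [map_mul, (D.sq_of_conj h1).1, map_one]),
        fun e => (D.sq_of_conj h1).2 (by rw [e, map_one])⟩, rfl⟩
    · rintro ⟨z, ⟨h1, h2⟩, rfl⟩
      exact ⟨D.conj_of_invol h1 h2, D.φa z, D.φb z⟩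
  rw [this, Set.ncard_image_of_injective _ D.inj, Set.ncard_coe_finset, card_invol]

/-- `3 (n - f) = m f (f-1)`. -/
theorem count : (Nat.card Ω - D.f) * 3 = D.m * (D.f * D.f - D.f) := by
  have h2 := (twoOn_top D.two).count_swaps (T := {g : G | IsConj D.t g})
    (fun k _ g hg => IsConj.trans hg (isConj_iff.2 ⟨k, rfl⟩)) (fun _ _ => trivial)
    (fun g hg x _ => smul_smul_of_sq (D.sq_of_conj hg).1 x) (u := D.f) (fun g hg => D.nfix_of_conj hg)
    (Set.mem_univ D.a) (Set.mem_univ D.b) D.ne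
  rw [Set.ncard_univ] at h2
  exact fixed_swap_eq D.f_lt.le D.two_le_f D.card_conj h2

theorem card_n : (Nat.card Ω : ℤ) * 3 = D.f * (3 + D.m * ((D.f : ℤ) - 1)) := by
  have h := congrArg (fun x : ℕ => (x : ℤ)) D.count
  simp only [Nat.cast_mul, Nat.cast_sub D.f_lt.le, Nat.cast_sub (Nat.le_mul_self D.f), Nat.cast_ofNat] at h
  linear_combination h

theorem g0_inv : D.g0⁻¹ = D.g0 := inv_eq_of_mul_eq_one_right D.g0_sq

theorem g0_sq_φ (x : AF) : D.g0 * D.φ x * (D.g0 * D.φ x) = D.φ (cj D.σ x * x) := by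
  rw [map_mul, ← D.g0_conj, D.g0_inv]
  group

theorem sigma_sq : D.σ * D.σ = 1 := by
  rcases D.sigma with h | h <;> rw [h]
  exacts [one_mul 1, tau_sq]

theorem swapper {g : G} (ha : g • D.a = D.b) (hb : g • D.b = D.a) : ∃ x : AF, g = D.g0 * D.φ x := by
  obtain ⟨x, hx⟩ := (D.mem (D.g0⁻¹ * g)).1
    ⟨by rw [mul_smul, ha, inv_smul_eq_iff, D.g0_a], by rw [mul_smul, hb, inv_smul_eq_iff, D.g0_b]⟩
  exact ⟨x, by rw [hx, mul_inv_cancel_left]⟩

theorem swapper_mem (x : AF) : (D.g0 * D.φ x) • D.a = D.b ∧ (D.g0 * D.φ x) • D.b = D.a :=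
  ⟨by rw [mul_smul, D.φa, D.g0_a], by rw [mul_smul, D.φb, D.g0_b]⟩

theorem sq_iff (x : AF) :
    D.g0 * D.φ x * (D.g0 * D.φ x) = 1 ↔ D.σ * (x : Perm (Fin 4)) * (D.σ * x) = 1 := by
  rw [D.g0_sq_φ, ← map_one D.φ, D.inj.eq_iff, Subtype.ext_iff]
  rw [Subgroup.coe_mul, cj_val, Subgroup.coe_one, inv_eq_of_mul_eq_one_right D.sigma_sq, mul_assoc]

theorem m_pos : D.m ≠ 0 := by
  intro h
  have h1 := D.count
  rw [h, zero_mul] at h1
  have := D.f_lt
  omega

/-- The possible numbers of conjugates of `t` interchanging two points. -/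
theorem m_cases : (D.σ = tau0 ∧ D.m = 6 ∧ IsConj D.t D.g0) ∨
    (D.σ = 1 ∧ D.m = 3 ∧ ¬ IsConj D.t D.g0) ∨ (D.σ = 1 ∧ (D.m = 1 ∨ D.m = 4) ∧ IsConj D.t D.g0) := by
  classical
  haveI := Fintype.ofFinite G
  rcases D.sigma with hσ | hσ
  · right
    have hg : ∀ x y : AF, x * x = 1 → x ≠ 1 → y * y = 1 → y ≠ 1 → IsConj (D.g0 * D.φ x) (D.g0 * D.φ y) := by
      intro x y hx hx1 hy hy1
      obtain ⟨h, rfl⟩ := inv_conj x hx hx1
      obtain ⟨h', rfl⟩ := inv_conj y hy hy1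
      have hcomm : ∀ z : AF, D.φ z * D.g0 = D.g0 * D.φ z := fun z => by
        have e := D.g0_conj z
        have e1 : cj D.σ z = z := Subtype.ext (by rw [cj_val, hσ]; simp)
        rw [e1] at e
        exact (mul_inv_eq_iff_eq_mul.1 e).symm
      refine isConj_iff.2 ⟨D.φ (h' * h⁻¹), ?_⟩
      rw [← mul_assoc, hcomm, mul_assoc D.g0, mul_assoc D.g0, ← map_inv, ← map_mul, ← map_mul]
      congr 2
      group
    set S : Set G := {g | IsConj D.t g ∧ g • D.a = D.b ∧ g • D.b = D.a} with hS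
    set I : Set G := (fun x => D.g0 * D.φ x) '' (({x : AF | x * x = 1 ∧ x ≠ 1} : Finset AF) : Set AF) with hI
    have hIcard : I.ncard = 3 := by
      rw [hI, Set.ncard_image_of_injective _ (fun x y e => D.inj (mul_left_cancel e)), Set.ncard_coe_finset,
        card_invol]
    have hg0I : D.g0 ∉ I := by
      rintro ⟨x, hx, e⟩
      simp only [Finset.coe_filter, Finset.mem_univ, true_and, Set.mem_ofPred_eq] at hx
      exact hx.2 (D.inj ((mul_eq_left.1 e).trans (map_one _).symm))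
    have hsub : S ⊆ insert D.g0 I := by
      rintro g ⟨hg', ha, hb⟩
      obtain ⟨x, rfl⟩ := D.swapper ha hb
      by_cases hx1 : x = 1
      · left; rw [hx1, map_one, mul_one]
      · refine Or.inr ⟨x, ?_, rfl⟩
        have h2 := (D.sq_iff x).1 (D.sq_of_conj hg').1
        rw [hσ, one_mul] at h2
        simp only [Finset.coe_filter, Finset.mem_univ, true_and, Set.mem_ofPred_eq]
        exact ⟨Subtype.ext h2, hx1⟩
    have hIall : ∀ x ∈ (({x : AF | x * x = 1 ∧ x ≠ 1} : Finset AF) : Set AF), IsConj D.t (D.g0 * D.φ x) →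
        I ⊆ S := by
      rintro x hx hc _ ⟨y, hy, rfl⟩
      simp only [Finset.coe_filter, Finset.mem_univ, true_and, Set.mem_ofPred_eq] at hx hy
      exact ⟨hc.trans (hg x y hx.1 hx.2 hy.1 hy.2), D.swapper_mem y⟩
    have hm : D.m = S.ncard := rfl
    by_cases hI' : I ⊆ S
    · by_cases h0 : IsConj D.t D.g0
      · refine Or.inr ⟨hσ, Or.inr ?_, h0⟩
        rw [hm, Set.Subset.antisymm hsub (Set.insert_subset ⟨h0, D.g0_a, D.g0_b⟩ hI'),
          Set.ncard_insert_of_notMem hg0I, hIcard]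
      · refine Or.inl ⟨hσ, ?_, h0⟩
        have hS' : S = I := Set.Subset.antisymm (fun g hg' => (hsub hg').resolve_left fun e => h0 (e ▸ hg'.1)) hI'
        rw [hm, hS', hIcard]
    · have hS' : S ⊆ {D.g0} := fun g hg' => by
        rcases hsub hg' with e | ⟨x, hx, rfl⟩
        · exact e
        · exact absurd (hIall x hx hg'.1) hI'
      have hne : S.Nonempty := Set.nonempty_of_ncard_ne_zero D.m_pos
      have hSeq : S = {D.g0} := (Set.subset_singleton_iff_eq.1 hS').resolve_left hne.ne_empty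
      refine Or.inr ⟨hσ, Or.inl ?_, ?_⟩
      · rw [hm, hSeq, Set.ncard_singleton]
      · have h1 : D.g0 ∈ S := hSeq ▸ Set.mem_singleton _
        exact h1.1
  · left
    refine ⟨hσ, ?_⟩
    have hall : ∀ x : AF, tau0 * (x : Perm (Fin 4)) * (tau0 * x) = 1 → IsConj D.g0 (D.g0 * D.φ x) := by
      intro x hx
      obtain ⟨h, hh⟩ := odd_inv_conj x hx
      refine isConj_iff.2 ⟨D.φ h, ?_⟩
      have e : D.φ h * D.g0 = D.g0 * D.φ (cj D.σ h) := by
        rw [← D.g0_conj, D.g0_inv, ← mul_assoc, ← mul_assoc, D.g0_sq, one_mul]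
      rw [e, mul_assoc, ← map_inv, ← map_mul]
      congr 2
      refine Subtype.ext ?_
      rw [Subgroup.coe_mul, Subgroup.coe_inv, cj_val, hσ]
      calc tau0 * (h : Perm (Fin 4)) * tau0⁻¹ * (h : Perm (Fin 4))⁻¹
          = tau0 * ((h : Perm (Fin 4)) * tau0⁻¹ * (h : Perm (Fin 4))⁻¹) := by group
        _ = tau0 * (tau0 * x) := by rw [inv_eq_of_mul_eq_one_right tau_sq, hh]
        _ = x := by rw [← mul_assoc, tau_sq, one_mul]
    obtain ⟨g, hg', ha, hb⟩ : ∃ g, IsConj D.t g ∧ g • D.a = D.b ∧ g • D.b = D.a := by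
      have hne : {g | IsConj D.t g ∧ g • D.a = D.b ∧ g • D.b = D.a}.Nonempty :=
        Set.nonempty_of_ncard_ne_zero D.m_pos
      exact hne
    obtain ⟨x, rfl⟩ := D.swapper ha hb
    have h2 := (D.sq_iff x).1 (D.sq_of_conj hg').1
    rw [hσ] at h2
    have h0 : IsConj D.t D.g0 := hg'.trans (hall x h2).symm
    refine ⟨?_, h0⟩
    have : {g | IsConj D.t g ∧ g • D.a = D.b ∧ g • D.b = D.a} = (fun x => D.g0 * D.φ x) ''
        (({x : AF | (tau0 * (x : Perm (Fin 4))) * (tau0 * (x : Perm (Fin 4))) = 1} : Finset AF) : Set AF) := by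
      ext g
      simp only [Finset.coe_filter, Finset.mem_univ, true_and, Set.mem_image, Set.mem_ofPred_eq]
      constructor
      · rintro ⟨hc, ha', hb'⟩
        obtain ⟨y, rfl⟩ := D.swapper ha' hb'
        have h3 := (D.sq_iff y).1 (D.sq_of_conj hc).1
        rw [hσ] at h3
        exact ⟨y, h3, rfl⟩
      · rintro ⟨y, hy, rfl⟩
        exact ⟨h0.trans (hall y hy), D.swapper_mem y⟩
    rw [m, this, Set.ncard_image_of_injective _ (fun x y e => D.inj (mul_left_cancel e)), Set.ncard_coe_finset,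
      card_odd_invol]

/-- The part of the centraliser of `t` normalising the four-group. -/
def L : Subgroup G := D.C ⊓ Subgroup.normalizer (D.V : Set G)

theorem L_conj {g : G} (hg : g ∈ D.L) : g * D.s * g⁻¹ = D.s ∨ g * D.s * g⁻¹ = D.t * D.s := by
  have h1 : g * D.s * g⁻¹ ∈ D.V :=
    (Subgroup.mem_normalizer_iff.1 hg.2 D.s).1 (D.mem_V.2 (Or.inr (Or.inr (Or.inl rfl))))
  rcases D.mem_V.1 h1 with e | e | e | e
  · exact absurd (conj_eq_one_iff.1 e) D.s_ne
  · exfalso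
    have e2 : D.s = D.t := by
      calc D.s = g⁻¹ * (g * D.s * g⁻¹) * g := by group
        _ = g⁻¹ * (D.t * g) := by rw [e, mul_assoc]
        _ = D.t := by rw [← Subgroup.mem_centralizer_singleton_iff.1 hg.1]; group
    exact t0_ne_s0 (D.inj e2.symm)
  · exact Or.inl e
  · exact Or.inr e

theorem mem_L {g : G} (hg : g ∈ D.C) (h : g * D.s * g⁻¹ = D.s ∨ g * D.s * g⁻¹ = D.t * D.s) : g ∈ D.L := by
  have hgt : g * D.t * g⁻¹ = D.t := by
    rw [Subgroup.mem_centralizer_singleton_iff.1 hg, mul_inv_cancel_right]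
  have hts : g * (D.t * D.s) * g⁻¹ = D.s ∨ g * (D.t * D.s) * g⁻¹ = D.t * D.s := by
    rw [show g * (D.t * D.s) * g⁻¹ = (g * D.t * g⁻¹) * (g * D.s * g⁻¹) by group, hgt]
    rcases h with e | e <;> rw [e]
    · exact Or.inr rfl
    · left; rw [← mul_assoc, D.t_sq, one_mul]
  have hV : ∀ v ∈ D.V, g * v * g⁻¹ ∈ D.V := by
    intro v hv
    rw [D.mem_V] at hv ⊢
    rcases hv with rfl | rfl | rfl | rfl
    · left; group
    · exact Or.inr (Or.inl hgt)
    · rcases h with e | e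
      exacts [Or.inr (Or.inr (Or.inl e)), Or.inr (Or.inr (Or.inr e))]
    · rcases hts with e | e
      exacts [Or.inr (Or.inr (Or.inl e)), Or.inr (Or.inr (Or.inr e))]
  refine ⟨hg, Subgroup.mem_normalizer_iff.2 fun v => ⟨hV v, fun hv => ?_⟩⟩
  have hbij : Function.Bijective (fun w : D.V => (⟨g * w * g⁻¹, hV w w.2⟩ : D.V)) :=
    Finite.injective_iff_bijective.1 fun w w' e =>
      Subtype.ext (mul_left_cancel (mul_right_cancel (congrArg Subtype.val e)))
  obtain ⟨w, hw⟩ := hbij.2 ⟨_, hv⟩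
  have := mul_left_cancel (mul_right_cancel (congrArg Subtype.val hw))
  exact this ▸ w.2

theorem FV_mem_ts {x : Ω} (hx : x ∈ D.FV) : (D.t * D.s) • x = x := by rw [mul_smul, hx.2, hx.1.2]

theorem twoL : TwoOn D.L D.FV := by
  have hex : ∀ x ∈ D.FV, ∀ y ∈ D.FV, x ≠ y → ∃ g ∈ D.L, g • x = D.a ∧ g • y = D.b := by
    intro x hx y hy hxy
    obtain ⟨g, hg, h1, h2⟩ := D.exists_cent hx.1 hy.1 hxy
    have hgs : g * D.s * g⁻¹ ∈ D.C := mul_mem (mul_mem hg D.s_mem) (inv_mem hg)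
    have ha : (g * D.s * g⁻¹) • D.a = D.a := by rw [← h1, mul_smul, mul_smul, inv_smul_smul, hx.2]
    have hb : (g * D.s * g⁻¹) • D.b = D.b := by rw [← h2, mul_smul, mul_smul, inv_smul_smul, hy.2]
    refine ⟨g, D.mem_L hg ?_, h1, h2⟩
    rcases D.C_stab hgs ha hb with e | e | e | e
    · exact absurd (conj_eq_one_iff.1 e) D.s_ne
    · exfalso
      have e2 : D.s = D.t := by
        calc D.s = g⁻¹ * (g * D.s * g⁻¹) * g := by group
          _ = g⁻¹ * (D.t * g) := by rw [e, mul_assoc]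
          _ = D.t := by rw [← Subgroup.mem_centralizer_singleton_iff.1 hg]; group
      exact t0_ne_s0 (D.inj e2.symm)
    · exact Or.inl e
    · exact Or.inr e
  refine ⟨fun g hg x hx => ⟨D.C_inv g hg.1 x hx.1, ?_⟩, fun x hx y hy z hz w hw hxy hzw => ?_⟩
  · rcases D.L_conj (inv_mem hg) with e | e <;> rw [inv_inv] at e
    · calc D.s • g • x = g • (g⁻¹ * D.s * g) • x := by rw [smul_smul, smul_smul]; group
        _ = g • x := by rw [e, hx.2]
    · calc D.s • g • x = g • (g⁻¹ * D.s * g) • x := by rw [smul_smul, smul_smul]; group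
        _ = g • x := by rw [e, D.FV_mem_ts hx]
  · obtain ⟨g, hg, g1, g2⟩ := hex x hx y hy hxy
    obtain ⟨g', hg', g1', g2'⟩ := hex z hz w hw hzw
    exact ⟨g'⁻¹ * g, mul_mem (inv_mem hg') hg, by rw [mul_smul, g1, ← g1', inv_smul_smul],
      by rw [mul_smul, g2, ← g2', inv_smul_smul]⟩

theorem L_stab_eq : D.L ⊓ stabilizer G D.a ⊓ stabilizer G D.b = D.V := by
  refine le_antisymm ?_ fun g hg => ?_
  · rw [← D.C_stab_eq]
    exact inf_le_inf_right _ (inf_le_inf_right _ inf_le_left)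
  · have h1 := D.C_stab_eq.ge hg
    exact ⟨⟨⟨h1.1.1, Subgroup.le_normalizer hg⟩, h1.1.2⟩, h1.2⟩

theorem card_L_stab : Nat.card ↥(D.L ⊓ stabilizer G D.a) = (D.u - 1) * 4 := by
  rw [D.twoL.card_stab D.a_memV D.b_memV D.ne, D.L_stab_eq, D.card_V]
  rfl

theorem card_L : Nat.card D.L = D.u * ((D.u - 1) * 4) := by
  rw [D.twoL.card_eq D.a_memV D.b_memV D.ne, D.card_L_stab]
  rfl

/-- The kernel case: the four-group fixes all fixed points of `t`. -/
theorem s_fix_all (h : D.u = D.f) : ∀ x ∈ D.Ft, D.s • x = x := fun x hx => by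
  have : D.FV = D.Ft := Set.eq_of_subset_of_ncard_le (fun _ hy => hy.1) (le_of_eq h.symm) (Set.toFinite _)
  exact (this ▸ hx : x ∈ D.FV).2

/-- The induced group on the fixed points of `t` is sharply doubly transitive when the four-group is the kernel. -/
theorem img_sharp (h : D.u = D.f) : ∀ x y : D.Ft, x ≠ y → ∀ g : D.twoC.img, g • x = x → g • y = y → g = 1 := by
  intro x y hxy g hx hy
  obtain ⟨k, hk1, hk2⟩ := D.twoC.img_two x y ⟨D.a, D.a_mem⟩ ⟨D.b, D.b_mem⟩ hxy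
    (fun e => D.ne (congrArg Subtype.val e))
  obtain ⟨g₀, hg₀, e1, e2⟩ := D.twoC.img_stab (g := k * g * k⁻¹) (a := ⟨D.a, D.a_mem⟩) (b := ⟨D.b, D.b_mem⟩)
    (by rw [← hk1, mul_smul, mul_smul, inv_smul_smul, hx])
    (by rw [← hk2, mul_smul, mul_smul, inv_smul_smul, hy])
  have hone : D.twoC.toImg g₀ = 1 := D.twoC.toImg_eq_one.2 fun z hz => by
    rcases D.C_stab g₀.2 e1 e2 with e | e | e | e <;> rw [e]
    · exact one_smul G z
    · exact hz.2
    · exact D.s_fix_all h z hz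
    · rw [mul_smul, D.s_fix_all h z hz, hz.2]
  rw [hone] at hg₀
  exact conj_eq_one_iff.1 hg₀.symm

/-- The image of `s` on the fixed points of `t`. -/
noncomputable def sbar : D.twoC.img := D.twoC.toImg ⟨D.s, D.s_mem⟩

theorem pair2 (h : D.u < D.f) :
    Pair2 D.twoC.img D.Ft ⟨D.a, D.a_mem⟩ ⟨D.b, D.b_mem⟩ D.sbar := by
  refine ⟨D.twoC.img_two, fun e => D.ne (congrArg Subtype.val e), fun e => ?_, Subtype.ext (D.φa _),
    Subtype.ext (D.φb _), fun g hga hgb => ?_⟩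
  · have h1 := D.twoC.toImg_eq_one.1 e
    have : D.FV = D.Ft := Set.Subset.antisymm (fun _ hy => hy.1) fun x hx => ⟨hx, h1 x hx⟩
    rw [u, this] at h
    exact lt_irrefl _ h
  · obtain ⟨g₀, rfl, e1, e2⟩ := D.twoC.img_stab hga hgb
    have ht : D.twoC.toImg ⟨D.t, D.t_mem⟩ = 1 := D.twoC.toImg_eq_one.2 fun z hz => hz.2
    rcases D.C_stab g₀.2 e1 e2 with e | e | e | e
    · left; rw [show g₀ = 1 from Subtype.ext e, map_one]
    · left; rw [show g₀ = ⟨D.t, D.t_mem⟩ from Subtype.ext e, ht]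
    · right; rw [show g₀ = ⟨D.s, D.s_mem⟩ from Subtype.ext e]; rfl
    · right
      rw [show g₀ = ⟨D.t, D.t_mem⟩ * ⟨D.s, D.s_mem⟩ from Subtype.ext e, map_mul, ht, one_mul]
      rfl

theorem nfix_toImg (g : D.C) : nfix D.Ft (D.twoC.toImg g) = (fixIn D.Ft (g : G)).ncard := by
  refine Set.ncard_congr (fun x _ => (x : Ω)) ?_ ?_ ?_
  · rintro x ⟨-, hx⟩
    exact ⟨x.2, congrArg Subtype.val hx⟩
  · intro x y _ _ e
    exact Subtype.ext e
  · rintro y ⟨hy, hgy⟩
    exact ⟨⟨y, hy⟩, ⟨trivial, Subtype.ext hgy⟩, rfl⟩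

theorem nfix_sbar : nfix D.Ft D.sbar = D.u := D.nfix_toImg _

theorem card_Ft : Nat.card D.Ft = D.f := Nat.card_coe_set_eq _

/-- The possible values of `f` in terms of `u`. -/
theorem forms : D.f = D.u ∨ D.f = D.u * D.u ∨ D.f = D.u * (2 * D.u - 1) := by
  rcases D.u_le_f.eq_or_lt with h | h
  · exact Or.inl h.symm
  · obtain ⟨m, -, ⟨-, hf⟩ | ⟨-, hf⟩⟩ := (D.pair2 h).form <;> rw [D.card_Ft, D.nfix_sbar] at hf
    exacts [Or.inr (Or.inl hf), Or.inr (Or.inr hf)]

theorem parity : Nat.card Ω % 2 = D.f % 2 := by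
  have h := fixIn_parity (F := (Set.univ : Set Ω)) (g := D.t) (fun x _ => smul_smul_of_sq D.t_sq x)
    fun _ _ => Set.mem_univ _
  rw [Set.ncard_univ] at h
  exact h.symm

theorem u_parity : D.u % 2 = D.f % 2 :=
  fixIn_parity (F := D.Ft) (g := D.s) (fun x _ => smul_smul_of_sq D.s_sq x) (D.C_inv _ D.s_mem)

end Data

end Cfsg.Agent.TwoA4
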